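import Mathlib

/-!
# The unramified extension `R[X]/(f)` of a discrete valuation ring, `f` monic with irreducible
reduction (helper91)
-/

set_option autoImplicit false
set_option linter.unusedSectionVars false

namespace Groth.Agent.Lib.Helper91.UnramDVR

open Polynomial

variable {R : Type*} [CommRing R] [IsDomain R] [IsDiscreteValuationRing R]

section
variable {f : R[X]} (hf : f.Monic) (hirr : Irreducible (f.map (IsLocalRing.residue R)))
include hf hirr

theorem irreducible : Irreducible f :=
  Polynomial.Monic.irreducible_of_irreducible_map (IsLocalRing.residue R) f hf hirr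

theorem isDomain : IsDomain (AdjoinRoot f) :=
  AdjoinRoot.isDomain_of_prime (irreducible hf hirr).prime

theorem degree_ne_zero : f.degree ≠ 0 := by
  intro h
  have h1 : f = 1 := by
    have := Polynomial.eq_C_of_degree_eq_zero h
    rw [this]
    have h2 : f.coeff 0 = 1 := by
      have := hf.coeff_natDegree
      rwa [Polynomial.natDegree_eq_of_degree_eq_some h] at this
    rw [h2, map_one]
  exact (irreducible hf hirr).not_isUnit (h1 ▸ isUnit_one)

theorem of_injective : Function.Injective (AdjoinRoot.of f) :=
  AdjoinRoot.of.injective_of_degree_ne_zero (degree_ne_zero hf hirr)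

theorem finite : Module.Finite R (AdjoinRoot f) := hf.finite_adjoinRoot

theorem map_maximalIdeal_isMaximal :
    ((IsLocalRing.maximalIdeal R).map (AdjoinRoot.of f)).IsMaximal := by
  have e := AdjoinRoot.quotAdjoinRootEquivQuotPolynomialQuot (IsLocalRing.maximalIdeal R) f
  have hmax : (Ideal.span ({f.map (Ideal.Quotient.mk (IsLocalRing.maximalIdeal R))} :
      Set (R ⧸ IsLocalRing.maximalIdeal R)[X])).IsMaximal := by
    let _ : Field (R ⧸ IsLocalRing.maximalIdeal R) := Ideal.Quotient.field _
    exact PrincipalIdealRing.isMaximal_of_irreducible hirr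
  rw [Ideal.Quotient.maximal_ideal_iff_isField_quotient] at hmax ⊢
  exact e.toMulEquiv.isField hmax

theorem isLocalRing : IsLocalRing (AdjoinRoot f) := by
  have hM := map_maximalIdeal_isMaximal hf hirr
  have hint : Algebra.IsIntegral R (AdjoinRoot f) := by
    have := finite hf hirr
    exact Algebra.IsIntegral.of_finite R (AdjoinRoot f)
  refine IsLocalRing.of_unique_max_ideal ⟨_, hM, ?_⟩
  intro M hMmax
  have hcomap : (M.comap (algebraMap R (AdjoinRoot f))).IsMaximal :=
    Ideal.isMaximal_comap_of_isIntegral_of_isMaximal M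
  have h1 : M.comap (algebraMap R (AdjoinRoot f)) = IsLocalRing.maximalIdeal R :=
    IsLocalRing.eq_maximalIdeal hcomap
  have hle : (IsLocalRing.maximalIdeal R).map (AdjoinRoot.of f) ≤ M := by
    rw [Ideal.map_le_iff_le_comap, ← h1]
    rfl
  exact (hM.eq_of_le hMmax.ne_top hle).symm

theorem maximalIdeal_eq :
    letI := isLocalRing hf hirr
    IsLocalRing.maximalIdeal (AdjoinRoot f) =
      (IsLocalRing.maximalIdeal R).map (AdjoinRoot.of f) := by
  let _ := isLocalRing hf hirr
  exact (IsLocalRing.eq_maximalIdeal (map_maximalIdeal_isMaximal hf hirr)).symm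

theorem maximalIdeal_eq_span {π : R} (hπ : Irreducible π) :
    letI := isLocalRing hf hirr
    IsLocalRing.maximalIdeal (AdjoinRoot f) = Ideal.span {AdjoinRoot.of f π} := by
  let _ := isLocalRing hf hirr
  rw [maximalIdeal_eq hf hirr, hπ.maximalIdeal_eq, Ideal.map_span, Set.image_singleton]

theorem isDVR :
    @IsDiscreteValuationRing (AdjoinRoot f) _ (isDomain hf hirr) := by
  let _ := isDomain hf hirr
  let _ := isLocalRing hf hirr
  obtain ⟨π, hπ⟩ := IsDiscreteValuationRing.exists_irreducible R
  have hmax := maximalIdeal_eq_span hf hirr hπ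
  have hnf : ¬ IsField (AdjoinRoot f) := by
    rw [IsLocalRing.isField_iff_maximalIdeal_eq, hmax, Ideal.span_singleton_eq_bot]
    intro h
    exact hπ.ne_zero (of_injective hf hirr (by rw [h, map_zero]))
  refine ((IsDiscreteValuationRing.TFAE (AdjoinRoot f) hnf).out 4 0).mp ?_
  rw [hmax]
  exact ⟨⟨_, rfl⟩⟩

end

end Groth.Agent.Lib.Helper91.UnramDVR
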