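import Mathlib

set_option autoImplicit false
universe u

namespace Groth.Agent.Lib.Helper91

open Matrix Equiv Finset

variable {R : Type u} [CommRing R]

/-- first step of Cauchy–Binet: expansion over all index functions -/
theorem det_mul_expand (e r : ℕ) (A : Matrix (Fin e) (Fin r) R) (N : Matrix (Fin r) (Fin e) R) :
    (A * N).det = ∑ f : Fin e → Fin r, (∏ i, N (f i) i) * (A.submatrix id f).det := by
  rw [Matrix.det_apply']
  simp_rw [Matrix.mul_apply, Finset.prod_univ_sum, Fintype.piFinset_univ, Finset.mul_sum]
  rw [Finset.sum_comm]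
  apply Finset.sum_congr rfl
  intro f _
  rw [Matrix.det_apply', Finset.mul_sum]
  apply Finset.sum_congr rfl
  intro σ _
  simp only [Matrix.submatrix_apply, id_eq, Finset.prod_mul_distrib]
  ring

theorem det_submatrix_eq_zero_of_not_injective (e r : ℕ) (A : Matrix (Fin e) (Fin r) R)
    (f : Fin e → Fin r) (hf : ¬ Function.Injective f) : (A.submatrix id f).det = 0 := by
  rw [Function.Injective] at hf
  push Not at hf
  obtain ⟨i, j, hij, hne⟩ := hf
  apply Matrix.det_zero_of_column_eq hne
  intro k
  simp [hij]

/-- **Cauchy–Binet** for an `e × r` times `r × e` product. -/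
theorem cauchy_binet (e r : ℕ) (A : Matrix (Fin e) (Fin r) R) (N : Matrix (Fin r) (Fin e) R) :
    (A * N).det = ∑ L : {s : Finset (Fin r) // s.card = e},
      (A.submatrix id (L.1.orderEmbOfFin L.2)).det *
        (N.submatrix (L.1.orderEmbOfFin L.2) id).det := by
  classical
  rw [det_mul_expand]
  have hfilter : ∑ f : Fin e → Fin r, (∏ i, N (f i) i) * (A.submatrix id f).det =
      ∑ f ∈ (Finset.univ : Finset (Fin e → Fin r)).filter Function.Injective,
        (∏ i, N (f i) i) * (A.submatrix id f).det := by
    symm
    apply Finset.sum_filter_of_ne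
    intro f _ hne
    by_contra hinj
    apply hne
    rw [det_submatrix_eq_zero_of_not_injective e r A f hinj, mul_zero]
  rw [hfilter]
  have hrhs : ∑ L : {s : Finset (Fin r) // s.card = e},
      (A.submatrix id (L.1.orderEmbOfFin L.2)).det *
        (N.submatrix (L.1.orderEmbOfFin L.2) id).det =
      ∑ p ∈ (Finset.univ : Finset ({s : Finset (Fin r) // s.card = e} × Perm (Fin e))),
        (∏ i, N (p.1.1.orderEmbOfFin p.1.2 (p.2 i)) i) *
          (A.submatrix id (fun i => p.1.1.orderEmbOfFin p.1.2 (p.2 i))).det := by
    rw [← Finset.univ_product_univ, Finset.sum_product]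
    apply Finset.sum_congr rfl
    intro L _
    rw [Matrix.det_apply' (N.submatrix (L.1.orderEmbOfFin L.2) id), Finset.mul_sum]
    apply Finset.sum_congr rfl
    intro τ _
    have h1 : (A.submatrix id (fun i => L.1.orderEmbOfFin L.2 (τ i))) =
        (A.submatrix id (L.1.orderEmbOfFin L.2)).submatrix id τ := by
      ext i j
      simp
    rw [h1, Matrix.det_permute']
    simp only [Matrix.submatrix_apply, id_eq]
    ring
  rw [hrhs]
  symm
  apply Finset.sum_bij (fun p _ => fun i => p.1.1.orderEmbOfFin p.1.2 (p.2 i))
  · intro p _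
    rw [Finset.mem_filter]
    refine ⟨Finset.mem_univ _, ?_⟩
    intro i j hij
    exact p.2.injective ((p.1.1.orderEmbOfFin p.1.2).injective hij)
  · rintro ⟨L, τ⟩ _ ⟨L', τ'⟩ _ h
    have hrange : ∀ (L : {s : Finset (Fin r) // s.card = e}) (τ : Perm (Fin e)),
        Set.range (fun i => L.1.orderEmbOfFin L.2 (τ i)) = (L.1 : Set (Fin r)) := by
      intro L τ
      rw [← Finset.range_orderEmbOfFin L.1 L.2]
      ext x
      constructor
      · rintro ⟨i, rfl⟩
        exact ⟨τ i, rfl⟩
      · rintro ⟨i, rfl⟩
        exact ⟨τ.symm i, by simp⟩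
    have hL : L = L' := by
      apply Subtype.ext
      apply Finset.coe_injective
      rw [← hrange L τ, ← hrange L' τ']
      exact congrArg Set.range h
    subst hL
    have hτ : τ = τ' := by
      ext i
      have := congrFun h i
      exact congrArg Fin.val ((L.1.orderEmbOfFin L.2).injective this)
    rw [hτ]
  · intro f hf
    rw [Finset.mem_filter] at hf
    have hinj := hf.2
    have hcard : (Finset.univ.image f).card = e := by
      rw [Finset.card_image_of_injective _ hinj, Finset.card_univ, Fintype.card_fin]
    let L : {s : Finset (Fin r) // s.card = e} := ⟨Finset.univ.image f, hcard⟩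
    have hmem : ∀ i, f i ∈ L.1 := fun i => Finset.mem_image_of_mem f (Finset.mem_univ i)
    let g : Fin e → Fin e := fun i => (L.1.orderIsoOfFin L.2).symm ⟨f i, hmem i⟩
    have hg : Function.Injective g := by
      intro i j hij
      have := (L.1.orderIsoOfFin L.2).symm.injective hij
      exact hinj (congrArg Subtype.val this)
    let τ : Perm (Fin e) := Equiv.ofBijective g (Finite.injective_iff_bijective.mp hg)
    refine ⟨(L, τ), Finset.mem_univ _, ?_⟩
    funext i
    show L.1.orderEmbOfFin L.2 (g i) = f i
    rw [← Finset.coe_orderIsoOfFin_apply]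
    simp [g]
  · intro p _
    rfl

end Groth.Agent.Lib.Helper91
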