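import Mathlib

/-!
# A Buchberger criterion for `MvPolynomial` (helper91)

`Data m n σ R` packages a finite family `G k = monomial (μ k) 1 + r k` (`r k` strictly below `μ k`)
together with standard representations of all S-pairs.  Main results:

* `Data.lead_of_mem` : every nonzero element of the ideal spanned by the `G k` has its leading
  monomial divisible by some `μ k`;
* `Data.exists_normalForm`, `Data.eq_zero_of_reduced_of_mem`;
* `Data.X_mul_mem_iff`, `Data.C_mul_mem_iff` : a variable not occurring in the `μ k` (resp. a regular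
  constant) is a nonzerodivisor modulo the ideal.
-/

namespace Groth.Agent.Lib.Helper91.Groebner

open MvPolynomial MonomialOrder
open scoped MonomialOrder

variable {σ : Type*} {R : Type*} [CommRing R] (m : MonomialOrder σ)

/-- every monomial `ν` of `p` satisfies `ν + μ ≺ δ` -/
def SBdd (δ : m.syn) (μ : σ →₀ ℕ) (p : MvPolynomial σ R) : Prop :=
  ∀ ν ∈ p.support, m.toSyn (ν + μ) < δ

/-- every monomial `ν` of `p` satisfies `ν + μ ≼ δ` -/
def Bdd (δ : m.syn) (μ : σ →₀ ℕ) (p : MvPolynomial σ R) : Prop :=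
  ∀ ν ∈ p.support, m.toSyn (ν + μ) ≤ δ

variable {m}

theorem SBdd.bdd {δ : m.syn} {μ : σ →₀ ℕ} {p : MvPolynomial σ R} (h : SBdd m δ μ p) :
    Bdd m δ μ p := fun ν hν => (h ν hν).le

theorem SBdd.zero {δ : m.syn} {μ : σ →₀ ℕ} : SBdd m δ μ (0 : MvPolynomial σ R) := by
  intro ν hν; simp at hν

theorem SBdd.add {δ : m.syn} {μ : σ →₀ ℕ} {p q : MvPolynomial σ R} (hp : SBdd m δ μ p)
    (hq : SBdd m δ μ q) : SBdd m δ μ (p + q) := by
  classical
  intro ν hν
  rcases Finset.mem_union.mp (MvPolynomial.support_add hν) with h | h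
  · exact hp ν h
  · exact hq ν h

theorem SBdd.neg {δ : m.syn} {μ : σ →₀ ℕ} {p : MvPolynomial σ R} (hp : SBdd m δ μ p) :
    SBdd m δ μ (-p) := by
  intro ν hν
  rw [MvPolynomial.support_neg] at hν
  exact hp ν hν

theorem SBdd.sub {δ : m.syn} {μ : σ →₀ ℕ} {p q : MvPolynomial σ R} (hp : SBdd m δ μ p)
    (hq : SBdd m δ μ q) : SBdd m δ μ (p - q) := by
  rw [sub_eq_add_neg]; exact hp.add hq.neg

theorem SBdd.sum {ι : Type*} {s : Finset ι} {δ : m.syn} {μ : σ →₀ ℕ} {p : ι → MvPolynomial σ R}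
    (hp : ∀ i ∈ s, SBdd m δ μ (p i)) : SBdd m δ μ (∑ i ∈ s, p i) := by
  classical
  induction s using Finset.induction_on with
  | empty => simpa using SBdd.zero
  | insert a s ha ih =>
    rw [Finset.sum_insert ha]
    exact (hp a (Finset.mem_insert_self a s)).add
      (ih fun i hi => hp i (Finset.mem_insert_of_mem hi))

theorem SBdd.C_mul {δ : m.syn} {μ : σ →₀ ℕ} {p : MvPolynomial σ R} (c : R) (hp : SBdd m δ μ p) :
    SBdd m δ μ (C c * p) := by
  intro ν hν
  apply hp ν
  rw [mem_support_iff] at hν ⊢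
  intro h0
  apply hν
  rw [coeff_C_mul, h0, mul_zero]

theorem SBdd.monomial {δ : m.syn} {μ ν : σ →₀ ℕ} (c : R) (h : m.toSyn (ν + μ) < δ) :
    SBdd m δ μ (monomial ν c) := by
  classical
  intro ν' hν'
  have := MvPolynomial.support_monomial_subset hν'
  rw [Finset.mem_singleton] at this
  rw [this]; exact h

theorem SBdd.monomial_mul {δ : m.syn} {μ : σ →₀ ℕ} {p : MvPolynomial σ R} (a : σ →₀ ℕ) (c : R)
    (hp : SBdd m δ μ p) : SBdd m (m.toSyn a + δ) μ (MvPolynomial.monomial a c * p) := by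
  classical
  intro ν hν
  rw [mem_support_iff, coeff_monomial_mul'] at hν
  split_ifs at hν with hle
  · have hν' : ν - a ∈ p.support := by
      rw [mem_support_iff]; intro h0; apply hν; rw [h0, mul_zero]
    have := hp _ hν'
    have e : ν + μ = a + ((ν - a) + μ) := by
      rw [← add_assoc, add_tsub_cancel_of_le hle]
    rw [e, map_add]
    exact add_lt_add_right this _
  · exact absurd rfl hν

theorem SBdd.mono {δ δ' : m.syn} {μ : σ →₀ ℕ} {p : MvPolynomial σ R} (hp : SBdd m δ μ p)
    (h : δ ≤ δ') : SBdd m δ' μ p := fun ν hν => lt_of_lt_of_le (hp ν hν) h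

variable (m) in
/-- A monic family with standard representations of all S-pairs (`i < j`). -/
structure GB (n : ℕ) (R : Type*) [CommRing R] where
  /-- the polynomials -/
  G : Fin n → MvPolynomial σ R
  /-- their leading monomials -/
  μ : Fin n → (σ →₀ ℕ)
  /-- the lower terms -/
  r : Fin n → MvPolynomial σ R
  hG : ∀ k, G k = MvPolynomial.monomial (μ k) 1 + r k
  hr : ∀ k, ∀ ν ∈ (r k).support, m.toSyn ν < m.toSyn (μ k)
  hS : ∀ i j, i < j → ∃ (a b : σ →₀ ℕ) (H : Fin n → MvPolynomial σ R),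
      a + μ i = b + μ j ∧ (∀ δ, μ i ≤ δ → μ j ≤ δ → a + μ i ≤ δ) ∧
      MvPolynomial.monomial a 1 * G i - MvPolynomial.monomial b 1 * G j = ∑ l, H l * G l ∧
      ∀ l, SBdd m (m.toSyn (a + μ i)) (μ l) (H l)

namespace GB

variable {n : ℕ} (D : GB m n R)

theorem coeff_G_mu (k : Fin n) : (D.G k).coeff (D.μ k) = 1 := by
  classical
  rw [D.hG, coeff_add, coeff_monomial, if_pos rfl]
  have : (D.r k).coeff (D.μ k) = 0 := by
    by_contra h
    exact lt_irrefl _ (D.hr k _ (mem_support_iff.mpr h))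
  rw [this, add_zero]

theorem support_G_le (k : Fin n) : ∀ ν ∈ (D.G k).support, m.toSyn ν ≤ m.toSyn (D.μ k) := by
  classical
  intro ν hν
  rw [D.hG] at hν
  rcases Finset.mem_union.mp (MvPolynomial.support_add hν) with h | h
  · have := MvPolynomial.support_monomial_subset h
    rw [Finset.mem_singleton] at this
    rw [this]
  · exact (D.hr k ν h).le

theorem degree_G_le (k : Fin n) : m.degree (D.G k) ≼[m] D.μ k :=
  degree_le_iff.mpr (D.support_G_le k)

theorem support_mul_G_le {δ : m.syn} {k : Fin n} {h : MvPolynomial σ R}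
    (hh : Bdd m δ (D.μ k) h) : ∀ ν ∈ (h * D.G k).support, m.toSyn ν ≤ δ := by
  classical
  intro ν hν
  obtain ⟨a, ha, b, hb, rfl⟩ := Finset.mem_add.mp (MvPolynomial.support_mul h (D.G k) hν)
  calc m.toSyn (a + b) = m.toSyn a + m.toSyn b := map_add _ _ _
    _ ≤ m.toSyn a + m.toSyn (D.μ k) := by gcongr; exact D.support_G_le k b hb
    _ = m.toSyn (a + D.μ k) := (map_add _ _ _).symm
    _ ≤ δ := hh a ha

theorem coeff_mul_G {δ₀ : σ →₀ ℕ} {k : Fin n} {h : MvPolynomial σ R}
    (hh : Bdd m (m.toSyn δ₀) (D.μ k) h) :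
    (h * D.G k).coeff δ₀ = if D.μ k ≤ δ₀ then h.coeff (δ₀ - D.μ k) else 0 := by
  classical
  split_ifs with hle
  · have e : δ₀ = (δ₀ - D.μ k) + D.μ k := (tsub_add_cancel_of_le hle).symm
    conv_lhs => rw [e]
    rw [coeff_mul_of_add_of_degree_le (m := m) _ (D.degree_G_le k), D.coeff_G_mu, mul_one]
    rw [degree_le_iff]
    intro c hc
    have := hh c hc
    rw [e, map_add, map_add] at this
    exact le_of_add_le_add_right this
  · rw [coeff_mul]
    apply Finset.sum_eq_zero
    rintro ⟨c, d⟩ hcd'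
    have hcd : c + d = δ₀ := by simpa using hcd'
    simp only
    by_contra hne
    have hc : c ∈ h.support := by
      rw [mem_support_iff]; intro h0; apply hne; rw [h0, zero_mul]
    have hd : d ∈ (D.G k).support := by
      rw [mem_support_iff]; intro h0; apply hne; rw [h0, mul_zero]
    have h1 := hh c hc
    have h2 := D.support_G_le k d hd
    rw [← hcd, map_add, map_add] at h1
    have h3 : m.toSyn (D.μ k) ≤ m.toSyn d := le_of_add_le_add_left h1
    have h4 : d = D.μ k := m.toSyn.injective (le_antisymm h2 h3)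
    apply hle
    rw [← hcd, h4]
    exact le_add_self


/-- pair certificates for all pairs -/
theorem pair (i j : Fin n) : ∃ (a b : σ →₀ ℕ) (H : Fin n → MvPolynomial σ R),
    a + D.μ i = b + D.μ j ∧ (∀ δ, D.μ i ≤ δ → D.μ j ≤ δ → a + D.μ i ≤ δ) ∧
    MvPolynomial.monomial a 1 * D.G i - MvPolynomial.monomial b 1 * D.G j = ∑ l, H l * D.G l ∧
    ∀ l, SBdd m (m.toSyn (a + D.μ i)) (D.μ l) (H l) := by
  rcases lt_trichotomy i j with h | h | h
  · exact D.hS i j h
  · subst h
    exact ⟨0, 0, 0, rfl, fun δ h _ => by simpa using h, by simp, fun l => SBdd.zero⟩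
  · obtain ⟨a, b, H, h1, h2, h3, h4⟩ := D.hS j i h
    refine ⟨b, a, fun l => - H l, h1.symm, fun δ hi hj => h1 ▸ h2 δ hj hi, ?_, fun l => ?_⟩
    · rw [← neg_sub, h3]; simp [Finset.sum_neg_distrib]
    · rw [← h1]; exact (h4 l).neg

theorem pair_shift {δ₀ : σ →₀ ℕ} (k k₀ : Fin n) (hk : D.μ k ≤ δ₀) (hk₀ : D.μ k₀ ≤ δ₀) :
    ∃ H : Fin n → MvPolynomial σ R,
      MvPolynomial.monomial (δ₀ - D.μ k) 1 * D.G k - MvPolynomial.monomial (δ₀ - D.μ k₀) 1 * D.G k₀
        = ∑ l, H l * D.G l ∧
      ∀ l, SBdd m (m.toSyn δ₀) (D.μ l) (H l) := by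
  obtain ⟨a, b, H, h1, h2, h3, h4⟩ := D.pair k k₀
  have hle : a + D.μ k ≤ δ₀ := h2 δ₀ hk hk₀
  obtain ⟨t, ht⟩ : ∃ t, t = δ₀ - (a + D.μ k) := ⟨_, rfl⟩
  have htop : t + (a + D.μ k) = δ₀ := by rw [ht, tsub_add_cancel_of_le hle]
  have e1 : t + a = δ₀ - D.μ k := by
    have : t + a + D.μ k = δ₀ := by rw [add_assoc, htop]
    rw [← this, add_tsub_cancel_right]
  have e2 : t + b = δ₀ - D.μ k₀ := by
    have : t + b + D.μ k₀ = δ₀ := by rw [add_assoc, ← h1, htop]
    rw [← this, add_tsub_cancel_right]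
  refine ⟨fun l => MvPolynomial.monomial t 1 * H l, ?_, fun l => ?_⟩
  · rw [← e1, ← e2]
    have hm : ∀ x y : σ →₀ ℕ, (MvPolynomial.monomial (x + y) (1:R))
        = MvPolynomial.monomial x 1 * MvPolynomial.monomial y 1 := by
      intro x y; rw [monomial_mul, one_mul]
    rw [hm, hm, mul_assoc, mul_assoc, ← mul_sub, h3, Finset.mul_sum]
    simp only [mul_assoc]
  · have := (h4 l).monomial_mul t (1:R)
    rwa [← map_add, htop] at this

theorem sbdd_sub_top {δ₀ μ : σ →₀ ℕ} {p : MvPolynomial σ R} (hp : Bdd m (m.toSyn δ₀) μ p) :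
    SBdd m (m.toSyn δ₀) μ
      (p - MvPolynomial.monomial (δ₀ - μ) (if μ ≤ δ₀ then p.coeff (δ₀ - μ) else 0)) := by
  classical
  intro ν hν
  rw [mem_support_iff, coeff_sub, coeff_monomial] at hν
  by_contra hlt
  rw [not_lt] at hlt
  by_cases hνp : ν ∈ p.support
  · have heq : ν + μ = δ₀ := m.toSyn.injective (le_antisymm (hp ν hνp) hlt)
    have hle : μ ≤ δ₀ := heq ▸ le_add_self
    have hν' : δ₀ - μ = ν := by rw [← heq, add_tsub_cancel_right]
    apply hν
    rw [if_pos hle, hν', if_pos rfl, sub_self]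
  · rw [notMem_support_iff] at hνp
    rw [hνp, zero_sub, neg_ne_zero] at hν
    split_ifs at hν with h1 h2
    · rw [h1] at hν; exact hν hνp
    · exact hν rfl
    · exact hν rfl

theorem exists_lt_bdd {δ : m.syn} (h : Fin n → MvPolynomial σ R)
    (hh : ∀ k, SBdd m δ (D.μ k) (h k)) :
    (∀ k, h k = 0) ∨ ∃ δ' < δ, ∀ k, Bdd m δ' (D.μ k) (h k) := by
  classical
  by_cases hbot : δ = ⊥
  · left
    intro k
    by_contra hne
    obtain ⟨ν, hν⟩ := (MvPolynomial.support_nonempty (p := h k)).mpr hne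
    have := hh k ν hν
    rw [hbot] at this
    exact not_lt_bot this
  · right
    have hpos : (⊥ : m.syn) < δ := bot_lt_iff_ne_bot.mpr hbot
    refine ⟨Finset.univ.sup fun l => (h l).support.sup fun ν => m.toSyn (ν + D.μ l), ?_, ?_⟩
    · rw [Finset.sup_lt_iff hpos]
      intro l _
      rw [Finset.sup_lt_iff hpos]
      intro ν hν
      exact hh l ν hν
    · intro k ν hν
      exact le_trans (Finset.le_sup (f := fun ν => m.toSyn (ν + D.μ k)) hν)
        (Finset.le_sup (f := fun l => (h l).support.sup fun ν => m.toSyn (ν + D.μ l))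
          (Finset.mem_univ k))


theorem aux (δ : m.syn) : ∀ (h : Fin n → MvPolynomial σ R), (∀ k, Bdd m δ (D.μ k) (h k)) →
    (∑ k, h k * D.G k) ≠ 0 → ∃ k, D.μ k ≤ m.degree (∑ k, h k * D.G k) := by
  classical
  induction δ using WellFoundedLT.induction with
  | ind δ ih =>
  intro h hh hf
  obtain ⟨δ₀, rfl⟩ := m.toSyn.surjective δ
  obtain ⟨c, hc⟩ : ∃ c : Fin n → R,
      c = fun k => if D.μ k ≤ δ₀ then (h k).coeff (δ₀ - D.μ k) else 0 := ⟨_, rfl⟩
  have hc0 : ∀ k, ¬ D.μ k ≤ δ₀ → c k = 0 := fun k hk => by rw [hc]; exact if_neg hk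
  have hcoeff : (∑ k, h k * D.G k).coeff δ₀ = ∑ k, c k := by
    rw [coeff_sum, hc]
    exact Finset.sum_congr rfl fun k _ => D.coeff_mul_G (hh k)
  have hsupp : ∀ ν ∈ (∑ k, h k * D.G k).support, m.toSyn ν ≤ m.toSyn δ₀ := by
    intro ν hν
    rw [mem_support_iff, coeff_sum] at hν
    obtain ⟨k, _, hk⟩ := Finset.exists_ne_zero_of_sum_ne_zero hν
    exact D.support_mul_G_le (hh k) ν (mem_support_iff.mpr hk)
  by_cases hsum : ∑ k, c k = 0
  · by_cases hall : ∀ k, c k = 0
    · have hs : ∀ k, SBdd m (m.toSyn δ₀) (D.μ k) (h k) := by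
        intro k
        have := sbdd_sub_top (hh k)
        have hck : (if D.μ k ≤ δ₀ then (h k).coeff (δ₀ - D.μ k) else 0) = 0 := by
          have := hall k
          rw [hc] at this
          exact this
        rw [hck, map_zero, sub_zero] at this
        exact this
      rcases D.exists_lt_bdd h hs with h0 | ⟨δ', hδ', hb⟩
      · exfalso; apply hf; simp [h0]
      · exact ih δ' hδ' h hb hf
    · push Not at hall
      obtain ⟨k₀, hk₀⟩ := hall
      have hk₀le : D.μ k₀ ≤ δ₀ := by
        by_contra hn; exact hk₀ (hc0 k₀ hn)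
      have key : ∀ k, ∃ H : Fin n → MvPolynomial σ R,
          C (c k) * (MvPolynomial.monomial (δ₀ - D.μ k) 1 * D.G k
              - MvPolynomial.monomial (δ₀ - D.μ k₀) 1 * D.G k₀)
            = ∑ l, (C (c k) * H l) * D.G l ∧ ∀ l, SBdd m (m.toSyn δ₀) (D.μ l) (H l) := by
        intro k
        by_cases hk : D.μ k ≤ δ₀
        · obtain ⟨H, h1, h2⟩ := D.pair_shift k k₀ hk hk₀le
          exact ⟨H, by rw [h1, Finset.mul_sum]; simp only [mul_assoc], h2⟩
        · refine ⟨0, ?_, fun l => SBdd.zero⟩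
          simp [hc0 k hk]
      choose H hH1 hH2 using key
      obtain ⟨h', hh'⟩ : ∃ h' : Fin n → MvPolynomial σ R, h' = fun l =>
        (h l - MvPolynomial.monomial (δ₀ - D.μ l) (c l)) + ∑ k, C (c k) * H k l := ⟨_, rfl⟩
      have hs : ∀ l, SBdd m (m.toSyn δ₀) (D.μ l) (h' l) := by
        intro l
        rw [hh']
        have h1 := sbdd_sub_top (hh l)
        have h2 : (if D.μ l ≤ δ₀ then (h l).coeff (δ₀ - D.μ l) else 0) = c l := by rw [hc]
        rw [h2] at h1
        exact h1.add (SBdd.sum fun k _ => (hH2 k l).C_mul _)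
      have hf' : ∑ l, h' l * D.G l = ∑ k, h k * D.G k := by
        have e1 : ∑ k, C (c k) * (MvPolynomial.monomial (δ₀ - D.μ k) 1 * D.G k
              - MvPolynomial.monomial (δ₀ - D.μ k₀) 1 * D.G k₀)
            = ∑ k, MvPolynomial.monomial (δ₀ - D.μ k) (c k) * D.G k := by
          simp only [mul_sub, Finset.sum_sub_distrib]
          rw [← Finset.sum_mul, ← map_sum, hsum, map_zero, zero_mul, sub_zero]
          refine Finset.sum_congr rfl fun k _ => ?_
          rw [← mul_assoc, C_mul_monomial, mul_one]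
        have e2 : ∑ k, ∑ l, (C (c k) * H k l) * D.G l
            = ∑ k, MvPolynomial.monomial (δ₀ - D.μ k) (c k) * D.G k := by
          rw [← e1]; exact (Finset.sum_congr rfl fun k _ => hH1 k).symm
        rw [hh']
        simp only [add_mul, sub_mul, Finset.sum_add_distrib, Finset.sum_sub_distrib,
          Finset.sum_mul]
        rw [Finset.sum_comm, e2]
        ring
      rcases D.exists_lt_bdd h' hs with h0 | ⟨δ', hδ', hb⟩
      · exfalso; apply hf; rw [← hf']; simp [h0]
      · have := ih δ' hδ' h' hb (by rw [hf']; exact hf)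
        rwa [hf'] at this
  · have hdeg : m.degree (∑ k, h k * D.G k) = δ₀ := by
      apply m.toSyn.injective
      apply le_antisymm
      · exact degree_le_iff.mpr hsupp
      · apply m.le_degree
        rw [mem_support_iff, hcoeff]; exact hsum
    obtain ⟨k, _, hk⟩ := Finset.exists_ne_zero_of_sum_ne_zero hsum
    refine ⟨k, ?_⟩
    rw [hdeg]
    by_contra hn
    exact hk (hc0 k hn)


/-- the ideal generated by the family -/
noncomputable def ideal : Ideal (MvPolynomial σ R) := Ideal.span (Set.range D.G)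

theorem G_mem (k : Fin n) : D.G k ∈ D.ideal := Ideal.subset_span ⟨k, rfl⟩

theorem exists_bdd (h : Fin n → MvPolynomial σ R) : ∃ δ, ∀ k, Bdd m δ (D.μ k) (h k) := by
  classical
  refine ⟨Finset.univ.sup fun l => (h l).support.sup fun ν => m.toSyn (ν + D.μ l), ?_⟩
  intro k ν hν
  exact le_trans (Finset.le_sup (f := fun ν => m.toSyn (ν + D.μ k)) hν)
    (Finset.le_sup (f := fun l => (h l).support.sup fun ν => m.toSyn (ν + D.μ l))
      (Finset.mem_univ k))

/-- **Buchberger criterion**: the leading monomial of a nonzero element of the ideal is divisible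
by one of the `μ k`. -/
theorem lead_of_mem {f : MvPolynomial σ R} (hf : f ∈ D.ideal) (h0 : f ≠ 0) :
    ∃ k, D.μ k ≤ m.degree f := by
  obtain ⟨h, rfl⟩ := (Ideal.mem_span_range_iff_exists_fun).mp hf
  obtain ⟨δ, hδ⟩ := D.exists_bdd h
  exact D.aux δ h hδ h0

/-- no monomial of `q` is divisible by a leading monomial -/
def Reduced (q : MvPolynomial σ R) : Prop := ∀ ν ∈ q.support, ∀ k, ¬ D.μ k ≤ ν

theorem eq_zero_of_reduced_of_mem {q : MvPolynomial σ R} (hq : D.Reduced q) (hmem : q ∈ D.ideal) :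
    q = 0 := by
  by_contra h0
  obtain ⟨k, hk⟩ := D.lead_of_mem hmem h0
  exact hq _ (m.degree_mem_support h0) k hk

end GB

theorem degree_of_lead [Nontrivial R] {g r : MvPolynomial σ R} {ν : σ →₀ ℕ}
    (hg : g = MvPolynomial.monomial ν 1 + r) (hr : ∀ ν' ∈ r.support, m.toSyn ν' < m.toSyn ν) :
    m.degree g = ν ∧ m.leadingCoeff g = 1 := by
  classical
  have hc : g.coeff ν = 1 := by
    rw [hg, coeff_add, coeff_monomial, if_pos rfl]
    have : r.coeff ν = 0 := by
      by_contra h
      exact lt_irrefl _ (hr _ (mem_support_iff.mpr h))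
    rw [this, add_zero]
  have hd : m.degree g = ν := by
    apply m.toSyn.injective
    apply le_antisymm
    · rw [degree_le_iff]
      intro b hb
      rw [hg] at hb
      rcases Finset.mem_union.mp (MvPolynomial.support_add hb) with h | h
      · have := MvPolynomial.support_monomial_subset h
        rw [Finset.mem_singleton] at this
        rw [this]
      · exact (hr b h).le
    · apply m.le_degree
      rw [mem_support_iff, hc]; exact one_ne_zero
  exact ⟨hd, by rw [leadingCoeff, hd, hc]⟩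

namespace GB

variable {n : ℕ} (D : GB m n R)

theorem degree_G [Nontrivial R] (k : Fin n) : m.degree (D.G k) = D.μ k :=
  (degree_of_lead (D.hG k) (D.hr k)).1

theorem leadingCoeff_G [Nontrivial R] (k : Fin n) : m.leadingCoeff (D.G k) = 1 :=
  (degree_of_lead (D.hG k) (D.hr k)).2

theorem exists_normalForm (p : MvPolynomial σ R) : ∃ q, p - q ∈ D.ideal ∧ D.Reduced q := by
  rcases subsingleton_or_nontrivial R with hR | hR
  · refine ⟨0, ?_, ?_⟩
    · rw [Subsingleton.elim (p - 0) 0]; exact zero_mem _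
    · intro ν hν; simp at hν
  · obtain ⟨g, r, h1, _, h3⟩ := m.div (b := D.G)
      (fun k => by rw [D.leadingCoeff_G]; exact isUnit_one) p
    refine ⟨r, ?_, ?_⟩
    · have : p - r = Finsupp.linearCombination _ D.G g := by rw [h1]; ring
      rw [this, Finsupp.linearCombination_apply, Finsupp.sum]
      exact Ideal.sum_mem _ fun k _ => Submodule.smul_mem _ _ (D.G_mem k)
    · intro ν hν k hk
      exact h3 ν hν k (by rw [D.degree_G]; exact hk)

/-- reduction to reduced representatives for "nonzerodivisor mod the ideal" statements -/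
theorem mem_of_mul_mem {g : MvPolynomial σ R}
    (hg : ∀ q, D.Reduced q → g * q ∈ D.ideal → q = 0) {p : MvPolynomial σ R}
    (hp : g * p ∈ D.ideal) : p ∈ D.ideal := by
  obtain ⟨q, hq1, hq2⟩ := D.exists_normalForm p
  have h1 : g * q ∈ D.ideal := by
    have : g * q = g * p - g * (p - q) := by ring
    rw [this]
    exact Ideal.sub_mem _ hp (Ideal.mul_mem_left _ _ hq1)
  have h2 := hg q hq2 h1
  rw [h2, sub_zero] at hq1
  exact hq1

/-- a variable not occurring in the leading monomials is a nonzerodivisor modulo the ideal -/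
theorem X_mul_mem_iff {s : σ} (hs : ∀ k, D.μ k s = 0) {p : MvPolynomial σ R} :
    X s * p ∈ D.ideal ↔ p ∈ D.ideal := by
  classical
  refine ⟨fun hp => D.mem_of_mul_mem (fun q hq hmem => ?_) hp, fun hp => Ideal.mul_mem_left _ _ hp⟩
  have hred : D.Reduced (X s * q) := by
    intro ν' hν' k hk
    rw [MvPolynomial.support_X_mul, Finset.mem_map] at hν'
    obtain ⟨ν, hν, rfl⟩ := hν'
    apply hq ν hν k
    intro t
    have := hk t
    by_cases hts : t = s
    · rw [hts, hs k]; exact Nat.zero_le _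
    · simpa [Finsupp.single_apply, Ne.symm hts] using this
  have h0 := D.eq_zero_of_reduced_of_mem hred hmem
  ext ν
  have := congrArg (MvPolynomial.coeff (Finsupp.single s 1 + ν)) h0
  rwa [MvPolynomial.coeff_X_mul, coeff_zero] at this

/-- a regular constant is a nonzerodivisor modulo the ideal -/
theorem C_mul_mem_iff {c : R} (hc : ∀ x : R, c * x = 0 → x = 0) {p : MvPolynomial σ R} :
    C c * p ∈ D.ideal ↔ p ∈ D.ideal := by
  classical
  refine ⟨fun hp => D.mem_of_mul_mem (fun q hq hmem => ?_) hp, fun hp => Ideal.mul_mem_left _ _ hp⟩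
  have hred : D.Reduced (C c * q) := by
    intro ν hν k hk
    apply hq ν _ k hk
    rw [mem_support_iff] at hν ⊢
    intro h0; apply hν; rw [coeff_C_mul, h0, mul_zero]
  have h0 := D.eq_zero_of_reduced_of_mem hred hmem
  ext ν
  have := congrArg (MvPolynomial.coeff ν) h0
  rw [coeff_C_mul, coeff_zero] at this
  rw [coeff_zero]
  exact hc _ this

/-- a monic polynomial whose leading monomial is coprime to all `μ k` is a nonzerodivisor modulo
the ideal -/
theorem mul_mem_iff_of_coprime {g r : MvPolynomial σ R} {ν : σ →₀ ℕ}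
    (hg : g = MvPolynomial.monomial ν 1 + r) (hr : ∀ ν' ∈ r.support, m.toSyn ν' < m.toSyn ν)
    (hcop : ∀ k s, D.μ k s = 0 ∨ ν s = 0) {p : MvPolynomial σ R} :
    g * p ∈ D.ideal ↔ p ∈ D.ideal := by
  classical
  refine ⟨fun hp => D.mem_of_mul_mem (fun q hq hmem => ?_) hp, fun hp => Ideal.mul_mem_left _ _ hp⟩
  rcases subsingleton_or_nontrivial R with hR | hR
  · exact Subsingleton.elim _ _
  by_contra hq0
  obtain ⟨hd, hl⟩ := degree_of_lead hg hr
  have hreg : IsRegular (m.leadingCoeff g) := by rw [hl]; exact isRegular_one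
  have hdeg : m.degree (g * q) = ν + m.degree q := by
    rw [degree_mul_of_isRegular_left hreg hq0, hd]
  have hne : g * q ≠ 0 := by
    intro h0
    have := leadingCoeff_mul_of_isRegular_left (m := m) (f := g) (g := q) hreg
    rw [h0, leadingCoeff_zero, hl, one_mul] at this
    exact hq0 (m.leadingCoeff_eq_zero_iff.mp this.symm)
  obtain ⟨k, hk⟩ := D.lead_of_mem hmem hne
  rw [hdeg] at hk
  apply hq _ (m.degree_mem_support hq0) k
  intro t
  have := hk t
  rcases hcop k t with h | h
  · rw [h]; exact Nat.zero_le _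
  · simpa [h] using this

/-- if no `μ k` is zero, the ideal is proper -/
theorem one_notMem [Nontrivial R] (hμ : ∀ k, D.μ k ≠ 0) : (1 : MvPolynomial σ R) ∉ D.ideal := by
  intro h1
  obtain ⟨k, hk⟩ := D.lead_of_mem h1 one_ne_zero
  rw [degree_one] at hk
  exact hμ k (le_antisymm hk bot_le)

end GB

end Groth.Agent.Lib.Helper91.Groebner
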