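import Mathlib
import Groth.Agent.Lib.Helper91.Groebner

/-!
# Standard monomial bases and the coprime criterion (helper91)

For a certified monic Gröbner basis `D : GB m n R` over any commutative ring `R`, the classes of the
standard monomials (those divisible by no leading monomial) form an `R`-basis of the quotient.
Also the coprime-leading-monomial criterion for arbitrary variable types.
-/

set_option autoImplicit false

namespace Groth.Agent.Lib.Helper91.Groebner

open MvPolynomial

variable {σ : Type*} {R : Type*} [CommRing R] {m : MonomialOrder σ}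

namespace GB

variable {n : ℕ} (D : GB m n R)

/-- standard monomials: exponents not divisible by any leading monomial -/
def Std : Set (σ →₀ ℕ) := {ν | ∀ k, ¬ D.μ k ≤ ν}

/-- the family of standard monomials in the quotient -/
noncomputable def stdFam : D.Std → MvPolynomial σ R ⧸ D.ideal :=
  fun ν => Ideal.Quotient.mk D.ideal (monomial ν.1 1)

theorem reduced_of_mem_span {x : MvPolynomial σ R}
    (hx : x ∈ Submodule.span R (Set.range fun ν : D.Std => (monomial ν.1 (1 : R)))) :
    D.Reduced x := by
  classical
  induction hx using Submodule.span_induction with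
  | mem x hx =>
    obtain ⟨ν, rfl⟩ := hx
    intro ν' hν' k
    have := MvPolynomial.support_monomial_subset hν'
    rw [Finset.mem_singleton] at this
    rw [this]
    exact ν.2 k
  | zero => intro ν hν; simp at hν
  | add x y _ _ hx hy =>
    intro ν hν k
    have := MvPolynomial.support_add hν
    rcases Finset.mem_union.mp this with h | h
    · exact hx ν h k
    · exact hy ν h k
  | smul c x _ hx =>
    intro ν hν k
    exact hx ν (MvPolynomial.support_smul hν) k

theorem stdFam_linearIndependent : LinearIndependent R D.stdFam := by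
  classical
  have h1 : LinearIndependent R (fun ν : D.Std => (monomial ν.1 (1 : R))) := by
    rw [linearIndependent_iff]
    intro l hl
    ext ν₀
    have := congrArg (coeff ν₀.1) hl
    rw [Finsupp.linearCombination_apply, Finsupp.sum, coeff_sum] at this
    simp only [coeff_smul, coeff_monomial, smul_eq_mul, mul_ite, mul_one, mul_zero,
      coeff_zero] at this
    rw [Finset.sum_eq_single ν₀] at this
    · simpa using this
    · intro b _ hb
      rw [if_neg]
      intro h
      exact hb (Subtype.ext h)
    · intro h
      rw [if_pos rfl]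
      simpa using h
  have h2 := h1.map (f := (Ideal.Quotient.mkₐ R D.ideal).toLinearMap) (by
    rw [Submodule.disjoint_def]
    intro x hx hker
    have hmem : x ∈ D.ideal := by
      have : (Ideal.Quotient.mkₐ R D.ideal) x = 0 := hker
      exact Ideal.Quotient.eq_zero_iff_mem.mp this
    exact D.eq_zero_of_reduced_of_mem (D.reduced_of_mem_span hx) hmem)
  exact h2

theorem stdFam_span : Submodule.span R (Set.range D.stdFam) = ⊤ := by
  classical
  rw [eq_top_iff]
  intro y _
  obtain ⟨p, rfl⟩ := Ideal.Quotient.mk_surjective y
  obtain ⟨q, hpq, hq⟩ := D.exists_normalForm p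
  have e1 : Ideal.Quotient.mk D.ideal p = Ideal.Quotient.mk D.ideal q :=
    Ideal.Quotient.eq.mpr hpq
  rw [e1, ← support_sum_monomial_coeff q, map_sum]
  refine Submodule.sum_mem _ fun ν hν => ?_
  have e2 : monomial ν (coeff ν q) = coeff ν q • monomial ν (1 : R) := by
    rw [smul_monomial, smul_eq_mul, mul_one]
  have e3 : Ideal.Quotient.mk D.ideal (coeff ν q • monomial ν (1 : R)) =
      coeff ν q • Ideal.Quotient.mk D.ideal (monomial ν (1 : R)) :=
    map_smul (Ideal.Quotient.mkₐ R D.ideal) _ _
  rw [e2, e3]
  refine Submodule.smul_mem _ _ (Submodule.subset_span ?_)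
  exact ⟨⟨ν, fun k => hq ν hν k⟩, rfl⟩

/-- the standard monomial basis of the quotient by a certified Gröbner basis -/
noncomputable def stdBasis : Module.Basis D.Std R (MvPolynomial σ R ⧸ D.ideal) :=
  Module.Basis.mk D.stdFam_linearIndependent (le_of_eq D.stdFam_span.symm)

theorem stdBasis_apply (ν : D.Std) :
    D.stdBasis ν = Ideal.Quotient.mk D.ideal (monomial ν.1 1) := by
  rw [stdBasis, Module.Basis.mk_apply]; rfl

theorem free_quotient : Module.Free R (MvPolynomial σ R ⧸ D.ideal) :=
  Module.Free.of_basis D.stdBasis

end GB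


namespace GB

variable {n : ℕ} (D : GB m n R)

/-- transfer of the standard monomial basis to any index type in bijection with the standard
monomials and any ideal equal to the Gröbner ideal -/
theorem basis_of_param {ι : Type*} (I : Ideal (MvPolynomial σ R)) (hI : I = D.ideal)
    (f : ι → σ →₀ ℕ) (hinj : Function.Injective f) (hrange : Set.range f = D.Std) :
    LinearIndependent R (fun i => Ideal.Quotient.mk I (monomial (f i) (1 : R))) ∧
      Submodule.span R (Set.range fun i => Ideal.Quotient.mk I (monomial (f i) (1 : R))) = ⊤ := by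
  subst hI
  have hmem : ∀ i, f i ∈ D.Std := fun i => by rw [← hrange]; exact Set.mem_range_self i
  let e : ι → D.Std := fun i => ⟨f i, hmem i⟩
  have he_inj : Function.Injective e := fun i j h => hinj (congrArg Subtype.val h)
  have he_surj : Function.Surjective e := by
    intro ν
    have : ν.1 ∈ Set.range f := by rw [hrange]; exact ν.2
    obtain ⟨i, hi⟩ := this
    exact ⟨i, Subtype.ext hi⟩
  have hfam : (fun i => Ideal.Quotient.mk D.ideal (monomial (f i) (1 : R))) = D.stdFam ∘ e := rfl
  rw [hfam]
  refine ⟨D.stdFam_linearIndependent.comp e he_inj, ?_⟩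
  rw [Set.range_comp, he_surj.range_eq, Set.image_univ]
  exact D.stdFam_span

end GB

/-- the S-pair certificate predicate (the body of `GB.hS`), arbitrary variables -/
def PairCert' {n : ℕ} (m : MonomialOrder σ) (G : Fin n → MvPolynomial σ R)
    (μ : Fin n → (σ →₀ ℕ)) (i j : Fin n) : Prop :=
  ∃ (a b : σ →₀ ℕ) (H : Fin n → MvPolynomial σ R),
      a + μ i = b + μ j ∧ (∀ δ, μ i ≤ δ → μ j ≤ δ → a + μ i ≤ δ) ∧
      monomial a 1 * G i - monomial b 1 * G j = ∑ l, H l * G l ∧
      ∀ l, SBdd m (m.toSyn (a + μ i)) (μ l) (H l)

/-- coprime leading monomials: the trivial certificate -/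
theorem coprimePair' (m : MonomialOrder σ) {n : ℕ} (G r : Fin n → MvPolynomial σ R)
    (μ : Fin n → (σ →₀ ℕ)) (hG : ∀ k, G k = monomial (μ k) 1 + r k)
    (hr : ∀ k, ∀ ν ∈ (r k).support, m.toSyn ν < m.toSyn (μ k))
    (i j : Fin n) (hcop : ∀ s, μ i s = 0 ∨ μ j s = 0) :
    PairCert' m G μ i j := by
  classical
  refine ⟨μ j, μ i, fun l => (if l = i then - r j else 0) + (if l = j then r i else 0),
    add_comm _ _, ?_, ?_, ?_⟩
  · intro δ hi hj s
    rcases hcop s with h | h
    · simpa [h] using hj s
    · simpa [h] using hi s
  · simp only [add_mul, Finset.sum_add_distrib, ite_mul, zero_mul, Finset.sum_ite_eq',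
      Finset.mem_univ, if_true]
    have e1 : monomial (μ j) (1 : R) = G j - r j := by rw [hG j]; ring
    have e2 : monomial (μ i) (1 : R) = G i - r i := by rw [hG i]; ring
    rw [e1, e2]; ring
  · intro l
    refine SBdd.add ?_ ?_
    · split_ifs with h
      · subst h
        intro ν hν
        rw [MvPolynomial.support_neg] at hν
        have := hr j ν hν
        rw [map_add, map_add]
        exact add_lt_add_left this _
      · exact SBdd.zero
    · split_ifs with h
      · subst h
        intro ν hν
        have := hr i ν hν
        rw [map_add, map_add, add_comm (m.toSyn (μ l))]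
        exact add_lt_add_left this _
      · exact SBdd.zero

/-- a monic family with pairwise coprime leading monomials is a Gröbner basis -/
noncomputable def ofCoprime' (m : MonomialOrder σ) {n : ℕ}
    (G r : Fin n → MvPolynomial σ R)
    (μ : Fin n → (σ →₀ ℕ)) (hG : ∀ k, G k = monomial (μ k) 1 + r k)
    (hr : ∀ k, ∀ ν ∈ (r k).support, m.toSyn ν < m.toSyn (μ k))
    (hcop : ∀ i j, i ≠ j → ∀ s, μ i s = 0 ∨ μ j s = 0) : GB m n R where
  G := G
  μ := μ
  r := r
  hG := hG
  hr := hr
  hS := fun i j hij => coprimePair' m G r μ hG hr i j (hcop i j hij.ne)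

/-- a single monic polynomial is a Gröbner basis -/
noncomputable def ofSingle (m : MonomialOrder σ) (g r : MvPolynomial σ R) (μ : σ →₀ ℕ)
    (hG : g = monomial μ 1 + r) (hr : ∀ ν ∈ r.support, m.toSyn ν < m.toSyn μ) : GB m 1 R where
  G := fun _ => g
  μ := fun _ => μ
  r := fun _ => r
  hG := fun _ => hG
  hr := fun _ => hr
  hS := fun i j hij => by
    exfalso
    have hi : i = 0 := Subsingleton.elim _ _
    have hj : j = 0 := Subsingleton.elim _ _
    rw [hi, hj] at hij
    exact lt_irrefl _ hij

theorem ofSingle_ideal (m : MonomialOrder σ) (g r : MvPolynomial σ R) (μ : σ →₀ ℕ)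
    (hG : g = monomial μ 1 + r) (hr : ∀ ν ∈ r.support, m.toSyn ν < m.toSyn μ) :
    (ofSingle m g r μ hG hr).ideal = Ideal.span {g} := by
  show Ideal.span (Set.range fun _ : Fin 1 => g) = _
  congr 1
  ext x
  simp

end Groth.Agent.Lib.Helper91.Groebner
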