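import Groth.Agent.Lib.Helper91.FunFldAC
import Groth.Prelude.Def_W4bk4goldsch45
import Mathlib.FieldTheory.Finite.Basic
import Mathlib.FieldTheory.Finiteness

/-!
# Function fields over finite constant fields: finiteness statements (helper91)

* `mem_prinDivs_iff`: the principal divisors are exactly the divisors `div x`;
* `finite_places_deg_eq`: finitely many places of a given degree;
* `finite_effective`: finitely many effective divisors of a given degree;
* `finite_classGroup`: the degree-zero class group is finite;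
* counting effective divisors in a class.
-/

set_option autoImplicit false

namespace Groth.Agent.Lib.Helper91.FunFldFin

open FunFld WithZero Groth.Agent.Lib.Helper88.FF Groth.Agent.Lib.Helper91.FunFldAC

variable {k K : Type*} [Field k] [Field K] [Algebra k K]

/-! ### Principal divisors -/

theorem degHom_apply (D : Divisor k K) : FunFld.degHom k K D = D.deg := by
  unfold FunFld.degHom Divisor.deg
  rw [Finsupp.liftAddHom_apply]
  rfl

theorem mem_prinDivs_iff (hK : IsFunctionField k K) (D : Divisor k K) :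
    D ∈ prinDivs k K ↔ ∃ x : K, x ≠ 0 ∧ FunFld.div k x = D := by
  constructor
  · intro h
    unfold prinDivs at h
    induction h using AddSubgroup.closure_induction with
    | mem D hD =>
      obtain ⟨x, rfl⟩ := hD
      by_cases hx : x = 0
      · refine ⟨1, one_ne_zero, ?_⟩
        rw [hx, div_zero' hK]
        have := div_algebraMap hK (1 : k)
        rwa [map_one] at this
      · exact ⟨x, hx, rfl⟩
    | zero =>
      refine ⟨1, one_ne_zero, ?_⟩
      have := div_algebraMap hK (1 : k)
      rwa [map_one] at this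
    | add D E _ _ hD hE =>
      obtain ⟨x, hx, rfl⟩ := hD
      obtain ⟨y, hy, rfl⟩ := hE
      exact ⟨x * y, mul_ne_zero hx hy, div_mul hK hx hy⟩
    | neg D _ hD =>
      obtain ⟨x, hx, rfl⟩ := hD
      exact ⟨x⁻¹, inv_ne_zero hx, div_inv hK x⟩
  · rintro ⟨x, -, rfl⟩
    exact AddSubgroup.subset_closure ⟨x, rfl⟩

theorem deg_eq_zero_of_mem_prinDivs (hK : IsFunctionField k K) {D : Divisor k K}
    (h : D ∈ prinDivs k K) : D.deg = 0 := by
  obtain ⟨x, -, rfl⟩ := (mem_prinDivs_iff hK D).1 h
  exact deg_div hK x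

/-- `div x = 0` iff `x` is a nonzero constant (for `x ≠ 0`). -/
theorem div_eq_zero_iff (hK : IsFunctionField k K) {x : K} (hx : x ≠ 0) :
    FunFld.div k x = 0 ↔ x ∈ Set.range (algebraMap k K) := by
  constructor
  · intro h
    by_contra hcon
    obtain ⟨Q, hQ⟩ := exists_pole hK hcon
    have := div_apply hK x Q
    rw [h] at this
    simp only [Finsupp.coe_zero, Pi.zero_apply] at this
    omega
  · rintro ⟨c, rfl⟩
    exact div_algebraMap hK c

/-! ### Places of bounded degree -/

/-- Over a finite constant field with `q` elements, at a place of degree `d` every integral `y`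
satisfies `y^(q^d) ≡ y`. -/
theorem val_pow_card_sub_lt_one [Finite k] (hK : IsFunctionField k K) (P : Place k K) {y : K}
    (hy : P.1 y ≤ 1) : P.1 (y ^ (Nat.card k ^ P.deg) - y) < 1 := by
  have hfd := finiteDimensional_residueField hK P
  have hcard : Nat.card (IsLocalRing.ResidueField P.O) = Nat.card k ^ P.deg :=
    Module.natCard_eq_pow_finrank
  have hfin : Finite (IsLocalRing.ResidueField P.O) := Module.finite_of_finite k
  let _ := Fintype.ofFinite (IsLocalRing.ResidueField P.O)
  have hpow : ∀ a : IsLocalRing.ResidueField P.O, a ^ (Nat.card k ^ P.deg) = a := by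
    intro a
    rw [← hcard, Nat.card_eq_fintype_card]
    exact FiniteField.pow_card a
  have h1 : IsLocalRing.residue P.O
      ((⟨y, (Valuation.mem_valuationSubring_iff _ _).2 hy⟩ : P.O) ^ (Nat.card k ^ P.deg) -
        ⟨y, (Valuation.mem_valuationSubring_iff _ _).2 hy⟩) = 0 := by
    rw [map_sub, map_pow, hpow, sub_self]
  rw [IsLocalRing.residue_eq_zero_iff, Valuation.mem_maximalIdeal_iff] at h1
  exact h1

/-- Over a finite constant field there are only finitely many places of a given degree. -/
theorem finite_places_deg_eq [Finite k] (hK : IsFunctionField k K) (d : ℕ) :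
    {P : Place k K | P.deg = d}.Finite := by
  obtain ⟨⟨x, hx, -⟩, -⟩ := id hK
  have hq : 1 < Nat.card k := Finite.one_lt_card
  by_cases hd : d = 0
  · subst hd
    have : {P : Place k K | P.deg = 0} = ∅ := by
      ext P
      simp only [Set.mem_ofPred_eq, Set.mem_empty_iff_false, iff_false]
      exact (deg_pos hK P).ne'
    rw [this]
    exact Set.finite_empty
  have hN : 1 < Nat.card k ^ d := Nat.one_lt_pow hd hq
  -- `z = x^(q^d) - x` is nonconstant
  have hz : x ^ (Nat.card k ^ d) - x ∉ Set.range (algebraMap k K) := by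
    rintro ⟨c, hc⟩
    apply hx
    refine ⟨Polynomial.X ^ (Nat.card k ^ d) - Polynomial.X - Polynomial.C c, ?_, ?_⟩
    · intro h0
      have h1 := congrArg (fun p => Polynomial.coeff p (Nat.card k ^ d)) h0
      simp only [Polynomial.coeff_sub, Polynomial.coeff_X_pow, Polynomial.coeff_X,
        Polynomial.coeff_C, Polynomial.coeff_zero] at h1
      rw [if_pos trivial, if_neg (by omega), if_neg (by omega)] at h1
      simp at h1
    · simp only [map_sub, map_pow, Polynomial.aeval_X, Polynomial.aeval_C]
      rw [hc, sub_self]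
  have hpoles : {P : Place k K | P.ord x < 0}.Finite := by
    refine (finite_support_ord hK x).subset ?_
    intro P hP
    rw [Function.mem_support]
    exact ne_of_lt hP
  refine (hpoles.union (finite_zeros hK hz)).subset ?_
  intro P hP
  have hx0 : x ≠ 0 := by
    rintro rfl
    exact hx isAlgebraic_zero
  have hz0 : x ^ (Nat.card k ^ d) - x ≠ 0 := by
    intro h0
    exact hz ⟨0, by rw [map_zero, h0]⟩
  by_cases hpole : P.ord x < 0
  · left; exact hpole
  · right
    rw [not_lt] at hpole
    have hle : P.1 x ≤ 1 := (val_le_one_iff P hx0).2 hpole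
    have := val_pow_card_sub_lt_one hK P hle
    rw [hP] at this
    exact (val_lt_one_iff P hz0).1 this

theorem finite_places_deg_le [Finite k] (hK : IsFunctionField k K) (n : ℕ) :
    {P : Place k K | P.deg ≤ n}.Finite := by
  have : {P : Place k K | P.deg ≤ n} = ⋃ d ∈ Finset.range (n + 1), {P : Place k K | P.deg = d} := by
    ext P
    simp only [Set.mem_ofPred_eq, Finset.mem_range, Set.mem_iUnion, exists_prop, exists_eq_right']
    omega
  rw [this]
  exact Set.Finite.biUnion (Finset.finite_toSet _) (fun d _ => finite_places_deg_eq hK d)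

/-! ### Effective divisors of given degree -/

theorem finite_effective [Finite k] (hK : IsFunctionField k K) (n : ℕ) :
    {D : Divisor k K | 0 ≤ D ∧ D.deg = (n : ℤ)}.Finite := by
  classical
  induction n using Nat.strong_induction_on with
  | _ n ih =>
    have hT := finite_places_deg_le hK n
    have hsub : {D : Divisor k K | 0 ≤ D ∧ D.deg = (n : ℤ)} ⊆
        {0} ∪ ⋃ P ∈ {P : Place k K | P.deg ≤ n}, (fun D => D + Finsupp.single P (1 : ℤ)) ''
          {D : Divisor k K | 0 ≤ D ∧ D.deg = ((n - P.deg : ℕ) : ℤ)} := by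
      rintro D ⟨hD0, hDn⟩
      by_cases hD : D = 0
      · left; exact hD
      · right
        obtain ⟨P, hP⟩ : ∃ P, D P ≠ 0 := by
          by_contra hcon
          push Not at hcon
          exact hD (Finsupp.ext hcon)
        have hP0 : 0 ≤ D P := hD0 P
        have hP1 : 1 ≤ D P := by omega
        have hD' : 0 ≤ D - Finsupp.single P (1 : ℤ) := by
          intro Q
          rw [Finsupp.sub_apply, Finsupp.single_apply]
          simp only [Finsupp.coe_zero, Pi.zero_apply]
          split_ifs with hQ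
          · subst hQ; omega
          · have := hD0 Q
            simp only [Finsupp.coe_zero, Pi.zero_apply] at this
            omega
        have hdeg' : (D - Finsupp.single P (1 : ℤ)).deg = (n : ℤ) - P.deg := by
          rw [deg_sub, deg_single, hDn]
          ring
        have hnn := deg_nonneg hD'
        rw [hdeg'] at hnn
        have hPn : P.deg ≤ n := by omega
        simp only [Set.mem_iUnion, Set.mem_image]
        refine ⟨P, hPn, D - Finsupp.single P (1 : ℤ), ⟨hD', ?_⟩, sub_add_cancel _ _⟩
        rw [hdeg']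
        push_cast [hPn]
        ring
    refine (Set.Finite.union (Set.finite_singleton 0) (Set.Finite.biUnion hT (fun P hP => ?_))).subset hsub
    have hpos := deg_pos hK P
    have hPn : P.deg ≤ n := hP
    exact (ih (n - P.deg) (by omega)).image _

/-! ### The class group -/

variable (k K) in
/-- The group of divisor classes of degree zero. -/
abbrev Pic0 : Type _ :=
  (FunFld.degHom k K).ker ⧸ (prinDivs k K).addSubgroupOf (FunFld.degHom k K).ker

variable (k K) in
/-- Effective divisors of degree `n`. -/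
abbrev Eff (n : ℕ) : Type _ := {D : Divisor k K // 0 ≤ D ∧ D.deg = n}

theorem mem_ker_degHom {D : Divisor k K} : D ∈ (FunFld.degHom k K).ker ↔ D.deg = 0 := by
  rw [AddMonoidHom.mem_ker, degHom_apply]

/-- The class of `E - D₁` for an effective divisor `E` of the same degree as `D₁`. -/
noncomputable def toPic (D₁ : Divisor k K) {n : ℕ} (h₁ : D₁.deg = n) (E : Eff k K n) : Pic0 k K :=
  QuotientAddGroup.mk ⟨E.1 - D₁, mem_ker_degHom.2 (by rw [deg_sub, E.2.2, h₁, sub_self])⟩

theorem toPic_eq_mk_iff (D₁ : Divisor k K) {n : ℕ} (h₁ : D₁.deg = n) (E : Eff k K n)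
    (D : Divisor k K) (hD : D ∈ (FunFld.degHom k K).ker) :
    toPic D₁ h₁ E = QuotientAddGroup.mk ⟨D, hD⟩ ↔ E.1 - (D + D₁) ∈ prinDivs k K := by
  unfold toPic
  rw [eq_comm, QuotientAddGroup.eq, AddSubgroup.mem_addSubgroupOf]
  have e : ((-(⟨D, hD⟩ : (FunFld.degHom k K).ker) + ⟨E.1 - D₁, mem_ker_degHom.2
      (by rw [deg_sub, E.2.2, h₁, sub_self])⟩ : (FunFld.degHom k K).ker) : Divisor k K) =
      E.1 - (D + D₁) := by
    show -D + (E.1 - D₁) = E.1 - (D + D₁)
    abel
  rw [e]

/-- Every class of degree zero contains `E - D₁` with `E` effective, once `deg D₁ ≥ g`. -/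
theorem toPic_surjective (hK : IsFunctionField k K) (D₁ : Divisor k K) {n : ℕ} (h₁ : D₁.deg = n)
    (hn : genus k K ≤ n) : Function.Surjective (toPic D₁ h₁) := by
  intro c
  obtain ⟨⟨D, hD⟩, rfl⟩ := QuotientAddGroup.mk_surjective c
  have hD0 : D.deg = 0 := mem_ker_degHom.1 hD
  have hδ := delta_le_genus hK (D + D₁)
  unfold delta at hδ
  rw [deg_add, hD0, h₁] at hδ
  have hpos : 0 < ell (D + D₁) := by
    have : (0 : ℤ) < ell (D + D₁) := by
      have : (genus k K : ℤ) ≤ n := by exact_mod_cast hn
      linarith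
    exact_mod_cast this
  obtain ⟨x, hx0, hx⟩ := exists_ne_zero_mem_L hK hpos
  have hE := (mem_L_iff_div hK hx0 _).1 hx
  refine ⟨⟨FunFld.div k x + (D + D₁), hE, ?_⟩, ?_⟩
  · rw [deg_add, deg_div hK, deg_add, hD0, h₁]
    ring
  · rw [toPic_eq_mk_iff]
    show FunFld.div k x + (D + D₁) - (D + D₁) ∈ prinDivs k K
    rw [add_sub_cancel_right]
    exact (mem_prinDivs_iff hK _).2 ⟨x, hx0, rfl⟩

theorem finite_Eff [Finite k] (hK : IsFunctionField k K) (n : ℕ) : Finite (Eff k K n) :=
  (finite_effective hK n).to_subtype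

/-- **Finiteness of the class number.** -/
theorem finite_Pic0 [Finite k] (hK : IsFunctionField k K) : Finite (Pic0 k K) := by
  obtain ⟨P₀⟩ := exists_place hK
  have hpos := deg_pos hK P₀
  have h₁ : Divisor.deg (Finsupp.single P₀ (genus k K : ℤ) : Divisor k K) = ((genus k K * P₀.deg : ℕ) : ℤ) := by
    rw [deg_single]
    push_cast
    ring
  have := finite_Eff hK (genus k K * P₀.deg)
  exact Finite.of_surjective _ (toPic_surjective hK _ h₁ (Nat.le_mul_of_pos_right _ hpos))

/-! ### Counting the effective divisors in a class -/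

theorem div_algebraMap_mul (hK : IsFunctionField k K) {c : k} (hc : c ≠ 0) {x : K} (hx : x ≠ 0) :
    FunFld.div k (algebraMap k K c * x) = FunFld.div k x := by
  rw [Groth.Agent.Lib.Helper88.FF.div_mul hK ((map_ne_zero _).2 hc) hx, div_algebraMap hK, zero_add]

/-- The effective divisors linearly equivalent to `D'`. -/
abbrev LinSys (D' : Divisor k K) : Type _ :=
  {E : Divisor k K // 0 ≤ E ∧ E - D' ∈ prinDivs k K}

theorem card_linSys [Finite k] (hK : IsFunctionField k K) (D' : Divisor k K) :
    (Nat.card k - 1) * Nat.card (LinSys D') = Nat.card k ^ ell D' - 1 := by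
  classical
  have hfdL := finiteDimensional_L hK D'
  have hne : ∀ x : {x : L D' // x ≠ 0}, (x.1 : K) ≠ 0 := fun x h => x.2 (Subtype.ext h)
  have hψ : ∀ x : {x : L D' // x ≠ 0}, 0 ≤ FunFld.div k (x.1 : K) + D' ∧
      FunFld.div k (x.1 : K) + D' - D' ∈ prinDivs k K := by
    intro x
    refine ⟨(mem_L_iff_div hK (hne x) _).1 x.1.2, ?_⟩
    rw [add_sub_cancel_right]
    exact (mem_prinDivs_iff hK _).2 ⟨_, hne x, rfl⟩
  let ψ : {x : L D' // x ≠ 0} → LinSys D' := fun x => ⟨FunFld.div k (x.1 : K) + D', hψ x⟩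
  have hψsurj : Function.Surjective ψ := by
    rintro ⟨E, hE0, hEp⟩
    obtain ⟨x, hx0, hx⟩ := (mem_prinDivs_iff hK _).1 hEp
    have hE : E = FunFld.div k x + D' := by rw [hx]; abel
    have hxL : x ∈ L D' := (mem_L_iff_div hK hx0 _).2 (by rw [← hE]; exact hE0)
    refine ⟨⟨⟨x, hxL⟩, fun h => hx0 (congrArg Subtype.val h)⟩, ?_⟩
    apply Subtype.ext
    exact hE.symm
  have hψeq : ∀ x y : {x : L D' // x ≠ 0}, ψ x = ψ y →
      ∃ u : kˣ, (y.1 : K) = algebraMap k K u * (x.1 : K) := by
    intro x y h
    have h1 : FunFld.div k (x.1 : K) = FunFld.div k (y.1 : K) := by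
      have := congrArg Subtype.val h
      exact add_right_cancel this
    have hyx : (y.1 : K) / (x.1 : K) ≠ 0 := div_ne_zero (hne y) (hne x)
    have h2 : FunFld.div k ((y.1 : K) / (x.1 : K)) = 0 := by
      rw [div_eq_mul_inv, Groth.Agent.Lib.Helper88.FF.div_mul hK (hne y) (inv_ne_zero (hne x)),
        Groth.Agent.Lib.Helper88.FF.div_inv hK, h1]
      abel
    obtain ⟨c, hc⟩ := (div_eq_zero_iff hK hyx).1 h2
    have hc0 : c ≠ 0 := by
      rintro rfl
      rw [map_zero] at hc
      exact hyx hc.symm
    refine ⟨Units.mk0 c hc0, ?_⟩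
    rw [Units.val_mk0, hc, div_mul_cancel₀ _ (hne x)]
  let rep : LinSys D' → {x : L D' // x ≠ 0} := fun E => (hψsurj E).choose
  have hrep : ∀ E, ψ (rep E) = E := fun E => (hψsurj E).choose_spec
  let Φ : LinSys D' × kˣ → {x : L D' // x ≠ 0} := fun p =>
    ⟨(p.2 : k) • (rep p.1).1, fun h => (rep p.1).2 ((smul_eq_zero_iff_right (Units.ne_zero p.2)).1 h)⟩
  have hψΦ : ∀ (E : LinSys D') (u : kˣ), ψ (Φ (E, u)) = E := by
    intro E u
    refine Eq.trans ?_ (hrep E)
    apply Subtype.ext
    show FunFld.div k (((u : k) • (rep E).1 : L D') : K) + D' = FunFld.div k ((rep E).1 : K) + D'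
    rw [Submodule.coe_smul, Algebra.smul_def, div_algebraMap_mul hK (Units.ne_zero u) (hne _)]
  have hΦbij : Function.Bijective Φ := by
    constructor
    · rintro ⟨E, u⟩ ⟨E', u'⟩ h
      have hE : E = E' := by
        rw [← hψΦ E u, ← hψΦ E' u', h]
      subst hE
      have h1 : (u : k) • (rep E).1 = (u' : k) • (rep E).1 := congrArg Subtype.val h
      have h2 : (u : k) = u' := smul_left_injective k (rep E).2 h1
      rw [Units.ext h2]
    · intro x
      obtain ⟨u, hu⟩ := hψeq (rep (ψ x)) x (hrep (ψ x))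
      refine ⟨(ψ x, u), ?_⟩
      apply Subtype.ext
      apply Subtype.ext
      show (((u : k) • (rep (ψ x)).1 : L D') : K) = (x.1 : K)
      rw [Submodule.coe_smul, Algebra.smul_def, hu]
  have hfinL : Finite (L D') := Module.finite_of_finite k
  have hcardL : Nat.card (L D') = Nat.card k ^ ell D' := Module.natCard_eq_pow_finrank
  have hcardA : Nat.card {x : L D' // x ≠ 0} + 1 = Nat.card (L D') := by
    rw [← Nat.card_congr (Equiv.optionSubtypeNe (0 : L D')), Finite.card_option]
  have hcardΦ := Nat.card_congr (Equiv.ofBijective Φ hΦbij)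
  rw [Nat.card_prod, Nat.card_units] at hcardΦ
  rw [mul_comm, hcardΦ, ← hcardL, ← hcardA, Nat.add_sub_cancel]

/-- The fibre of `toPic D₁` over the class of `D` is the linear system of `D + D₁`. -/
noncomputable def fibreEquiv (hK : IsFunctionField k K) (D₁ : Divisor k K) {n : ℕ} (h₁ : D₁.deg = n)
    (D : Divisor k K) (hD : D ∈ (FunFld.degHom k K).ker) :
    {E : Eff k K n // toPic D₁ h₁ E = QuotientAddGroup.mk ⟨D, hD⟩} ≃ LinSys (D + D₁) where
  toFun E := ⟨E.1.1, E.1.2.1, (toPic_eq_mk_iff D₁ h₁ E.1 D hD).1 E.2⟩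
  invFun E := ⟨⟨E.1, E.2.1, by
      have h := deg_eq_zero_of_mem_prinDivs hK E.2.2
      rw [deg_sub, deg_add, mem_ker_degHom.1 hD, h₁] at h
      linarith⟩, (toPic_eq_mk_iff D₁ h₁ _ D hD).2 E.2.2⟩
  left_inv E := rfl
  right_inv E := rfl

theorem card_Eff [Finite k] (hK : IsFunctionField k K) (D₁ : Divisor k K) {n : ℕ}
    (h₁ : D₁.deg = n) (hn : 2 * genus k K ≤ n + 1) :
    (Nat.card k - 1) * Nat.card (Eff k K n) =
      Nat.card (Pic0 k K) * (Nat.card k ^ (n + 1 - genus k K) - 1) := by
  classical
  have := finite_Pic0 hK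
  let _ := Fintype.ofFinite (Pic0 k K)
  have := finite_Eff hK n
  have hfib : ∀ c : Pic0 k K, (Nat.card k - 1) * Nat.card {E : Eff k K n // toPic D₁ h₁ E = c} =
      Nat.card k ^ (n + 1 - genus k K) - 1 := by
    intro c
    obtain ⟨⟨D, hD⟩, rfl⟩ := QuotientAddGroup.mk_surjective c
    rw [Nat.card_congr (fibreEquiv hK D₁ h₁ D hD), card_linSys hK]
    have hdeg : (D + D₁).deg = n := by rw [deg_add, mem_ker_degHom.1 hD, h₁, zero_add]
    have hell := ell_eq_of_le_deg hK (D + D₁) (by rw [hdeg]; omega)
    rw [hdeg] at hell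
    have : ell (D + D₁) = n + 1 - genus k K := by omega
    rw [this]
  rw [← Nat.card_congr (Equiv.sigmaFiberEquiv (toPic D₁ h₁)), Nat.card_sigma, Finset.mul_sum,
    Finset.sum_congr rfl (fun c _ => hfib c), Finset.sum_const, Finset.card_univ, smul_eq_mul,
    ← Nat.card_eq_fintype_card (α := Pic0 k K)]

end Groth.Agent.Lib.Helper91.FunFldFin
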