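import Groth.Agent.Lib.Helper88.FunFldRR
import Groth.Agent.Lib.Helper68.FunFldRes
import Mathlib.FieldTheory.IsAlgClosed.Basic

/-!
# Function fields of one variable: consequences of Riemann–Roch (helper91)

On top of helper88's `FF` library:
* `ell_eq_of_le_deg`: `ℓ(D) = deg D + 1 - g` for `deg D ≥ 2g - 1`;
* `deg_eq_one`: over an algebraically closed constant field every place has degree one;
* `genus_eq_zero_of_two_le_ell_single`: if `deg P = 1` and `ℓ(P) ≥ 2` then `g = 0`.
-/

set_option autoImplicit false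

namespace Groth.Agent.Lib.Helper91.FunFldAC

open FunFld WithZero Groth.Agent.Lib.Helper88.FF

variable {k K : Type*} [Field k] [Field K] [Algebra k K]

/-- Nonspecial divisors: `ℓ(D) = deg D + 1 - g` for `deg D ≥ 2g - 1`. -/
theorem ell_eq_of_le_deg (hK : IsFunctionField k K) (D : Divisor k K)
    (h : 2 * (genus k K : ℤ) - 1 ≤ D.deg) : (ell D : ℤ) = D.deg + 1 - genus k K := by
  obtain ⟨C, hC⟩ := exists_isCanonical hK
  have h1 := riemann_roch hK hC D
  have h2 := ((isCanonical_iff hK C).1 hC).2
  have h3 : ell (C - D) = 0 := ell_eq_zero_of_deg_neg hK (by rw [deg_sub]; omega)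
  rw [h3] at h1
  push_cast at h1
  linarith

/-- Over an algebraically closed constant field every place has degree one. -/
theorem deg_eq_one [IsAlgClosed k] (hK : IsFunctionField k K) (P : Place k K) : P.deg = 1 := by
  unfold Place.deg
  rw [finrank_eq_one_iff_of_nonzero' (1 : IsLocalRing.ResidueField P.O) one_ne_zero]
  intro w
  obtain ⟨y, rfl⟩ := IsLocalRing.residue_surjective w
  obtain ⟨c, hc⟩ := Groth.Agent.Lib.Helper68.FunFldRes.exists_const hK P (y := (y : K))
    ((Valuation.mem_valuationSubring_iff _ _).mp y.2)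
  refine ⟨c, ?_⟩
  refine Eq.trans (?_ : _ = IsLocalRing.residue P.O (algebraMap k P.O c)) ?_
  · rw [Algebra.algebraMap_eq_smul_one]
    rfl
  · rw [eq_comm, ← sub_eq_zero, ← map_sub, IsLocalRing.residue_eq_zero_iff,
      Valuation.mem_maximalIdeal_iff]
    exact hc

/-- If `L(D)` has dimension at least two it contains a nonconstant function. -/
theorem exists_nonconst_mem_L (hK : IsFunctionField k K) (D : Divisor k K) (h : 2 ≤ ell D) :
    ∃ x ∈ L D, x ∉ Set.range (algebraMap k K) := by
  by_contra hcon
  push Not at hcon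
  have hle : L D ≤ L (0 : Divisor k K) := by
    intro x hx
    rw [L_zero_eq hK, Submodule.mem_one]
    exact hcon x hx
  have := finiteDimensional_L hK (0 : Divisor k K)
  have h1 := Submodule.finrank_mono hle
  have h2 : ell (0 : Divisor k K) = 1 := ell_zero hK
  unfold ell at h h2
  omega

/-- Powers of a function in `L(P)` lie in `L(nP)`. -/
theorem pow_mem_L_nsmul_single (P : Place k K) {x : K} (hx : x ∈ L (Finsupp.single P (1 : ℤ)))
    {j n : ℕ} (hjn : j ≤ n) : x ^ j ∈ L ((n : ℤ) • Finsupp.single P (1 : ℤ)) := by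
  classical
  intro Q
  have h1 := hx Q
  rw [map_pow, Finsupp.smul_apply, smul_eq_mul]
  have hd : (0 : ℤ) ≤ (Finsupp.single P (1 : ℤ)) Q := by
    rw [Finsupp.single_apply]
    split_ifs <;> norm_num
  calc (Q.1 x) ^ j ≤ (exp ((Finsupp.single P (1 : ℤ)) Q)) ^ j := pow_le_pow_left' h1 j
    _ = exp ((j : ℤ) * (Finsupp.single P (1 : ℤ)) Q) := by
        rw [← exp_nsmul]
        simp
    _ ≤ exp ((n : ℤ) * (Finsupp.single P (1 : ℤ)) Q) := by
        rw [exp_le_exp]
        exact mul_le_mul_of_nonneg_right (by exact_mod_cast hjn) hd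

/-- If a place of degree one carries a function with a simple pole there and no other pole
(`ℓ(P) ≥ 2`), the genus is zero. -/
theorem genus_eq_zero_of_two_le_ell_single (hK : IsFunctionField k K) (P : Place k K)
    (hP : P.deg = 1) (h : 2 ≤ ell (Finsupp.single P (1 : ℤ))) : genus k K = 0 := by
  obtain ⟨x, hxL, hxc⟩ := exists_nonconst_mem_L hK _ h
  have hxt := transcendental_of_not_mem_range hK hxc
  obtain ⟨N, hN⟩ := exists_delta_eq_genus_of_le hK
  set n : ℕ := N.toNat with hn
  set D : Divisor k K := (n : ℤ) • Finsupp.single P (1 : ℤ) with hD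
  have hdeg : D.deg = n := by
    rw [hD, show ((n : ℤ) • Finsupp.single P (1 : ℤ) : Divisor k K) = Finsupp.single P (n : ℤ) by
      rw [Finsupp.smul_single, smul_eq_mul, mul_one], deg_single, hP]
    simp
  have hδ := hN D (by rw [hdeg, hn]; exact Int.self_le_toNat N)
  have hfd := finiteDimensional_L hK D
  have hli : LinearIndependent k (fun i : Fin (n + 1) =>
      (⟨x ^ (i : ℕ), pow_mem_L_nsmul_single P hxL (Nat.lt_succ_iff.mp i.2)⟩ : L D)) := by
    apply LinearIndependent.of_comp (L D).subtype
    exact (linearIndependent_pow_of_transcendental hxt).comp _ Fin.val_injective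
  have hcard := hli.fintype_card_le_finrank
  rw [Fintype.card_fin] at hcard
  unfold delta at hδ
  rw [hdeg] at hδ
  have : (n + 1 : ℤ) ≤ (ell D : ℤ) := by
    unfold ell
    exact_mod_cast hcard
  have hg : (genus k K : ℤ) ≤ 0 := by linarith
  exact_mod_cast le_antisymm hg (Int.natCast_nonneg _)

end Groth.Agent.Lib.Helper91.FunFldAC
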