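import Groth.Agent.Lib.Helper91.FunFldAC

/-!
# Automorphisms of function fields acting on places (helper91)

* `comapPlace σ P`: the place `x ↦ P (σ x)`;
* `fixed_iff`: `σ` maps the maximal ideal of `P` into itself iff `comapPlace σ P = P`;
* `eq_one_of_forall_fixed`: an automorphism fixing every place is the identity.
-/

set_option autoImplicit false

namespace Groth.Agent.Lib.Helper91.FunFldAut

open FunFld WithZero Groth.Agent.Lib.Helper88.FF

variable {k K : Type*} [Field k] [Field K] [Algebra k K]

/-- The place `x ↦ P (σ x)`. -/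
def comapPlace (σ : K ≃ₐ[k] K) (P : Place k K) : Place k K :=
  ⟨P.1.comap (σ : K →+* K), fun c => by
      rw [Valuation.comap_apply]
      show P.1 (σ (algebraMap k K c)) ≤ 1
      rw [σ.commutes]
      exact P.2.1 c,
    fun γ => by
      obtain ⟨x, hx⟩ := P.2.2 γ
      refine ⟨σ.symm x, ?_⟩
      rw [Valuation.comap_apply]
      show P.1 (σ (σ.symm x)) = γ
      rw [σ.apply_symm_apply]
      exact hx⟩

@[simp] lemma comapPlace_apply (σ : K ≃ₐ[k] K) (P : Place k K) (x : K) :
    (comapPlace σ P).1 x = P.1 (σ x) := rfl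

lemma place_ext {P Q : Place k K} (h : ∀ x, P.1 x = Q.1 x) : P = Q :=
  Subtype.ext (Valuation.ext h)

lemma comapPlace_symm_comapPlace (σ : K ≃ₐ[k] K) (P : Place k K) :
    comapPlace σ.symm (comapPlace σ P) = P :=
  place_ext fun x => by simp

lemma comapPlace_comapPlace_symm (σ : K ≃ₐ[k] K) (P : Place k K) :
    comapPlace σ (comapPlace σ.symm P) = P :=
  place_ext fun x => by simp

/-- `σ` maps the maximal ideal of `P` into itself iff `P ∘ σ = P`. -/
theorem fixed_iff (σ : K ≃ₐ[k] K) (P : Place k K) :
    (∀ x : K, P.1 x < 1 → P.1 (σ x) < 1) ↔ comapPlace σ P = P := by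
  constructor
  · intro h
    apply place_eq_of_le
    intro y hy
    rw [comapPlace_apply] at hy
    by_contra hcon
    rw [not_le] at hcon
    have hy0 : y ≠ 0 := by
      rintro rfl
      simp at hcon
    have h1 : P.1 y⁻¹ < 1 := by
      rw [map_inv₀]
      exact inv_lt_one_of_one_lt₀ hcon
    have h2 := h _ h1
    rw [map_inv₀, map_inv₀] at h2
    have h3 : P.1 (σ y) ≠ 0 := by
      rw [ne_eq, map_eq_zero, EmbeddingLike.map_eq_zero_iff]
      exact hy0
    have h4 : 1 < P.1 (σ y) := by
      by_contra h5
      rw [not_lt] at h5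
      have := one_le_inv₀ (zero_lt_iff.mpr h3) |>.mpr h5
      exact absurd h2 (not_lt.mpr this)
    exact absurd hy (not_le.mpr h4)
  · intro h x hx
    have := congrArg (fun Q : Place k K => Q.1 x) h
    simp only [comapPlace_apply] at this
    rw [this]
    exact hx

/-- An element all of whose valuations are `1` is a constant. -/
lemma mem_range_of_forall_val_eq_one (hK : IsFunctionField k K) {w : K}
    (h : ∀ P : Place k K, P.1 w = 1) : w ∈ Set.range (algebraMap k K) := by
  by_contra hcon
  obtain ⟨Q, hQ⟩ := exists_pole hK hcon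
  unfold Place.ord at hQ
  rw [h Q] at hQ
  simp at hQ

/-- An automorphism fixing every place fixes every nonconstant function. -/
lemma fix_nonconst (hK : IsFunctionField k K) (σ : K ≃ₐ[k] K)
    (h : ∀ P : Place k K, comapPlace σ P = P) {z : K} (hz : z ∉ Set.range (algebraMap k K)) :
    σ z = z := by
  have hval : ∀ (y : K) (P : Place k K), P.1 (σ y) = P.1 y := by
    intro y P
    have := congrArg (fun Q : Place k K => Q.1 y) (h P)
    simpa using this
  have hconst : ∀ y : K, y ≠ 0 → ∃ a : k, σ y = algebraMap k K a * y := by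
    intro y hy
    have h1 : σ y / y ∈ Set.range (algebraMap k K) := by
      apply mem_range_of_forall_val_eq_one hK
      intro P
      rw [map_div₀, hval y P, div_self]
      rw [ne_eq, map_eq_zero]
      exact hy
    obtain ⟨a, ha⟩ := h1
    refine ⟨a, ?_⟩
    rw [ha, div_mul_cancel₀ _ hy]
  have hz0 : z ≠ 0 := by
    rintro rfl
    exact hz ⟨0, map_zero _⟩
  have hz1 : z + 1 ≠ 0 := by
    intro h0
    apply hz
    refine ⟨-1, ?_⟩
    rw [map_neg, map_one]
    linear_combination -h0
  obtain ⟨a, ha⟩ := hconst z hz0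
  obtain ⟨b, hb⟩ := hconst (z + 1) hz1
  rw [map_add, map_one, ha] at hb
  -- (a - b) z = b - 1
  have hab : algebraMap k K (a - b) * z = algebraMap k K (b - 1) := by
    rw [map_sub, map_sub, map_one]
    linear_combination hb
  by_cases hne : a = b
  · rw [hne, sub_self, map_zero, zero_mul] at hab
    have : b - 1 = 0 := by
      have := (algebraMap k K).injective (a₁ := b - 1) (a₂ := 0) (by rw [← hab, map_zero])
      exact this
    have hb1 : a = 1 := by rw [hne]; linear_combination this
    rw [ha, hb1, map_one, one_mul]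
  · exfalso
    apply hz
    refine ⟨(b - 1) / (a - b), ?_⟩
    have hne' : algebraMap k K (a - b) ≠ 0 := by
      rw [ne_eq, map_eq_zero]
      exact sub_ne_zero.mpr hne
    rw [map_div₀, ← hab, mul_div_cancel_left₀ _ hne']

/-- An automorphism fixing every place is the identity. -/
theorem eq_one_of_forall_fixed (hK : IsFunctionField k K) (σ : K ≃ₐ[k] K)
    (h : ∀ P : Place k K, comapPlace σ P = P) : σ = 1 := by
  ext z
  by_cases hz : z ∈ Set.range (algebraMap k K)
  · obtain ⟨c, rfl⟩ := hz
    simp
  · rw [fix_nonconst hK σ h hz]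
    rfl

end Groth.Agent.Lib.Helper91.FunFldAut
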