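import Mathlib

set_option autoImplicit false
open TopologicalSpace

namespace Groth.Agent.Lib.Helper91.PicDim1Top

variable {Y : Type*} [TopologicalSpace Y]

/-- a point with a proper specialization in a space of dimension at most one is generic -/
lemma mem_genericPoints_of_specializes_ne [T0Space Y] (hdim : topologicalKrullDim Y ≤ 1)
    {y e : Y} (h : y ⤳ e) (hne : y ≠ e) : y ∈ genericPoints Y := by
  let a : IrreducibleCloseds Y := ⟨closure {y}, isIrreducible_singleton.closure, isClosed_closure⟩
  let b : IrreducibleCloseds Y := ⟨closure {e}, isIrreducible_singleton.closure, isClosed_closure⟩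
  have hba : b ≤ a := by
    change closure {e} ⊆ closure {y}
    exact closure_minimal (Set.singleton_subset_iff.mpr (specializes_iff_mem_closure.mp h))
      isClosed_closure
  have hab : ¬ a ≤ b := by
    intro hab
    have h1 : y ∈ closure {e} := hab (subset_closure (Set.mem_singleton y))
    have h2 : e ⤳ y := specializes_iff_mem_closure.mpr h1
    exact hne (h.antisymm h2).eq
  have hmm := (Order.krullDim_le_one_iff (α := IrreducibleCloseds Y)).mp hdim a
  have hmax : IsMax a := by
    rcases hmm with hmin | hmax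
    · exact absurd (hmin hba) hab
    · exact hmax
  change closure {y} ∈ irreducibleComponents Y
  refine ⟨isIrreducible_singleton.closure, ?_⟩
  intro s hs hle
  let c : IrreducibleCloseds Y := ⟨closure s, hs.closure, isClosed_closure⟩
  have hac : a ≤ c := by
    change closure {y} ⊆ closure s
    exact hle.trans subset_closure
  have hca : c ≤ a := hmax hac
  exact subset_closure.trans hca

/-- a generic point of a Noetherian space has an open neighbourhood inside its closure -/
lemma exists_open_subset_closure [NoetherianSpace Y] {η : Y} (hη : η ∈ genericPoints Y) :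
    ∃ o : Set Y, IsOpen o ∧ η ∈ o ∧ o ⊆ closure {η} := by
  obtain ⟨o, ho, hne, hsub⟩ :=
    NoetherianSpace.exists_isOpen_nonempty_subset_irreducibleComponent (closure {η}) hη
  obtain ⟨z, hz⟩ := hne
  have h1 : η ⤳ z := specializes_iff_mem_closure.mpr (hsub hz)
  exact ⟨o, ho, h1.mem_open ho hz, hsub⟩

lemma mem_of_mem_closure_of_isOpen [NoetherianSpace Y] {η : Y} (hη : η ∈ genericPoints Y)
    {O : Set Y} (hO : IsOpen O) (h : η ∈ closure O) : η ∈ O := by
  obtain ⟨o, ho, hηo, hsub⟩ := exists_open_subset_closure hη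
  obtain ⟨z, hzo, hzO⟩ := mem_closure_iff.mp h o ho hηo
  have h1 : η ⤳ z := specializes_iff_mem_closure.mpr (hsub hzo)
  exact h1.mem_open hO hzO

lemma mem_of_dense_of_isOpen [NoetherianSpace Y] {η : Y} (hη : η ∈ genericPoints Y)
    {O : Set Y} (hO : IsOpen O) (h : Dense O) : η ∈ O :=
  mem_of_mem_closure_of_isOpen hη hO (h η)

lemma not_mem_boundary [NoetherianSpace Y] {η : Y} (hη : η ∈ genericPoints Y)
    {Z : Set Y} (hZ : IsClosed Z) (h1 : η ∈ Z) (h2 : η ∈ closure Zᶜ) : False :=
  (mem_of_mem_closure_of_isOpen hη hZ.isOpen_compl h2) h1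

lemma finite_generizations [NoetherianSpace Y] [T0Space Y] (hdim : topologicalKrullDim Y ≤ 1)
    (x : Y) : {z : Y | z ⤳ x}.Finite := by
  have hfin : (genericPoints Y).Finite :=
    genericPoints.finite NoetherianSpace.finite_irreducibleComponents
  refine (hfin.union (Set.finite_singleton x)).subset ?_
  intro z hz
  by_cases hzx : z = x
  · exact Or.inr hzx
  · exact Or.inl (mem_genericPoints_of_specializes_ne hdim hz hzx)

/-- points outside a dense open are closed -/
lemma isClosed_singleton_of_not_mem [NoetherianSpace Y] [T0Space Y]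
    (hdim : topologicalKrullDim Y ≤ 1) {O : Set Y} (hO : IsOpen O) (hd : Dense O) {y : Y}
    (hy : y ∉ O) : IsClosed ({y} : Set Y) := by
  have : closure ({y} : Set Y) = {y} := by
    apply Set.Subset.antisymm _ subset_closure
    intro z hz
    by_contra hzy
    have h1 : y ⤳ z := specializes_iff_mem_closure.mpr hz
    have h2 := mem_genericPoints_of_specializes_ne hdim h1 (fun h => hzy h.symm)
    exact hy (mem_of_dense_of_isOpen h2 hO hd)
  rw [← this]
  exact isClosed_closure

lemma finite_compl_of_dense [NoetherianSpace Y] [T0Space Y] [QuasiSober Y]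
    (hdim : topologicalKrullDim Y ≤ 1) {O : Set Y} (hO : IsOpen O) (hd : Dense O) :
    (Oᶜ).Finite := by
  obtain ⟨S, hSfin, hSc, hSi, hSU⟩ :=
    NoetherianSpace.exists_finite_set_isClosed_irreducible hO.isClosed_compl
  rw [hSU]
  refine Set.Finite.sUnion hSfin ?_
  intro t ht
  have hgp := (hSi t ht).isGenericPoint_genericPoint (hSc t ht)
  -- the generic point of `t`
  set ξ := (hSi t ht).genericPoint with hξ
  have hξt : ξ ∈ t := by
    rw [← hgp.def]
    exact subset_closure (Set.mem_singleton ξ)
  have hξO : ξ ∉ O := by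
    have : ξ ∈ Oᶜ := by
      rw [hSU]
      exact ⟨t, ht, hξt⟩
    exact this
  have hcl := isClosed_singleton_of_not_mem hdim hO hd hξO
  have : t = {ξ} := by
    rw [← hgp.def, hcl.closure_eq]
  rw [this]
  exact Set.finite_singleton ξ

lemma exists_isolating [NoetherianSpace Y] [T0Space Y] [QuasiSober Y]
    (hdim : topologicalKrullDim Y ≤ 1) {O : Set Y} (hO : IsOpen O) (hd : Dense O) (y : Y) :
    ∃ W : Set Y, IsOpen W ∧ y ∈ W ∧ ∀ z ∈ W, z ∉ O → z = y := by
  have hfin := finite_compl_of_dense hdim hO hd
  have hcl : IsClosed (Oᶜ \ {y}) := by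
    have hf : (Oᶜ \ {y}).Finite := hfin.subset Set.diff_subset
    have : Oᶜ \ {y} = ⋃ z ∈ Oᶜ \ {y}, ({z} : Set Y) := by
      ext w; simp
    rw [this]
    exact hf.isClosed_biUnion (fun z hz => isClosed_singleton_of_not_mem hdim hO hd hz.1)
  refine ⟨(Oᶜ \ {y})ᶜ, hcl.isOpen_compl, fun h => h.2 rfl, ?_⟩
  intro z hz hzO
  by_contra hzy
  exact hz ⟨hzO, hzy⟩

end Groth.Agent.Lib.Helper91.PicDim1Top
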