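import Mathlib

set_option autoImplicit false

namespace Groth.Agent.Lib.Helper91

open Polynomial

theorem binom_inv_aux (m k : ℕ) :
    ∑ r ∈ Finset.range (m + 1), ((-1 : ℚ) ^ (r + k) * (Nat.choose r k : ℚ) * (Nat.choose m r : ℚ)) =
      if m = k then 1 else 0 := by
  have h1 : (X : ℚ[X]) ^ m = ∑ r ∈ Finset.range (m + 1),
      (X + C (-1 : ℚ)) ^ r * 1 ^ (m - r) * (Nat.choose m r : ℚ[X]) := by
    rw [← add_pow]
    congr 1
    rw [map_neg, map_one]
    ring
  have h2 := congrArg (fun p => Polynomial.coeff p k) h1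
  simp only [coeff_X_pow, finsetSum_coeff] at h2
  have h3 : (if k = m then (1 : ℚ) else 0) = if m = k then 1 else 0 := by
    by_cases h : m = k
    · rw [if_pos h, if_pos h.symm]
    · rw [if_neg h, if_neg (fun h' => h h'.symm)]
  rw [← h3, h2]
  apply Finset.sum_congr rfl
  intro r _
  rw [one_pow, mul_one, ← C_eq_natCast, coeff_mul_C, coeff_X_add_C_pow]
  by_cases hkr : k ≤ r
  · have : (-1 : ℚ) ^ (r + k) = (-1) ^ (r - k) := by
      have e : r + k = (r - k) + 2 * k := by omega
      rw [e, pow_add, pow_mul]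
      simp
    rw [this]
  · rw [Nat.choose_eq_zero_of_lt (show r < k by omega)]
    simp

theorem binom_inv (m k N : ℕ) (hm : m ≤ N) :
    ∑ r ∈ Finset.range (N + 1), ((-1 : ℚ) ^ (r + k) * (Nat.choose r k : ℚ) * (Nat.choose m r : ℚ)) =
      if m = k then 1 else 0 := by
  rw [← binom_inv_aux m k]
  symm
  apply Finset.sum_subset
  · intro r hr
    rw [Finset.mem_range] at hr ⊢
    omega
  · intro r _ hr
    rw [Finset.mem_range] at hr
    rw [Nat.choose_eq_zero_of_lt (show m < r by omega)]
    simp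

end Groth.Agent.Lib.Helper91
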