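import Mathlib
import Groth.Prelude.Def_W4c5stcicurvesp3Euclid

set_option autoImplicit false

namespace Groth.Agent.Lib.Helper91

open W4c5stcicurvesp3

theorem irem_zero (a b : ℕ) : irem a b 0 = b := rfl
theorem irem_one (a b : ℕ) : irem a b 1 = a % b := rfl
theorem irem_succ_succ (a b n : ℕ) :
    irem a b (n + 2) = if irem a b (n + 1) = 0 then 0 else irem a b n % irem a b (n + 1) := rfl
theorem idiv_one (a b : ℕ) : idiv a b 1 = a / b := rfl
theorem idiv_succ_succ (a b n : ℕ) :
    idiv a b (n + 2) = if irem a b (n + 1) = 0 then 0 else irem a b n / irem a b (n + 1) := rfl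

theorem irem_shift (a b : ℕ) (hr : a % b ≠ 0) :
    ∀ n, irem a b (n + 1) = irem b (a % b) n := by
  have h : ∀ n, irem a b (n + 1) = irem b (a % b) n ∧ irem a b (n + 2) = irem b (a % b) (n + 1) := by
    intro n
    induction n with
    | zero =>
      refine ⟨rfl, ?_⟩
      rw [irem_succ_succ, irem_one, if_neg hr, irem_zero, irem_one]
    | succ n ih =>
      refine ⟨ih.2, ?_⟩
      rw [irem_succ_succ a b (n + 1), irem_succ_succ b (a % b) n, ih.1, ih.2]
  exact fun n => (h n).1

theorem idiv_shift (a b : ℕ) (hr : a % b ≠ 0) :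
    ∀ n, idiv a b (n + 2) = idiv b (a % b) (n + 1) := by
  intro n
  cases n with
  | zero =>
    rw [idiv_succ_succ, irem_one, if_neg hr, irem_zero, idiv_one]
  | succ n =>
    rw [idiv_succ_succ a b (n + 1), idiv_succ_succ b (a % b) n, irem_shift a b hr (n + 1),
      irem_shift a b hr n]

theorem sum_Icc_one_eq_sum_range {M : Type*} [AddCommMonoid M] (f : ℕ → M) (t : ℕ) :
    ∑ i ∈ Finset.Icc 1 t, f i = ∑ j ∈ Finset.range t, f (j + 1) := by
  induction t with
  | zero => simp
  | succ t ih =>
    rw [Finset.sum_Icc_succ_top (by omega), ih, Finset.sum_range_succ]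

theorem sum_idiv_mul_gcd_le_aux :
    ∀ t : ℕ, ∀ a b : ℕ, 0 < b → b ≤ a → irem a b (t + 1) = 0 →
      (∀ i, 0 < i → i < t + 1 → irem a b i ≠ 0) →
      (∑ j ∈ Finset.range (t + 1), idiv a b (j + 1)) * Nat.gcd b a ≤ a := by
  intro t
  induction t with
  | zero =>
    intro a b hb _ hz _
    rw [irem_one] at hz
    have hdvd : b ∣ a := Nat.dvd_of_mod_eq_zero hz
    rw [Finset.sum_range_one, idiv_one, Nat.gcd_eq_left hdvd, Nat.div_mul_cancel hdvd]
  | succ t ih =>
    intro a b hb hba hz hmin
    have hr : a % b ≠ 0 := by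
      have := hmin 1 (by omega) (by omega)
      rwa [irem_one] at this
    have hr0 : 0 < a % b := Nat.pos_of_ne_zero hr
    have hrb : a % b < b := Nat.mod_lt a hb
    have hz' : irem b (a % b) (t + 1) = 0 := by
      rw [← irem_shift a b hr]; exact hz
    have hmin' : ∀ i, 0 < i → i < t + 1 → irem b (a % b) i ≠ 0 := by
      intro i hi hit
      rw [← irem_shift a b hr]
      exact hmin (i + 1) (by omega) (by omega)
    have hIH := ih b (a % b) hr0 hrb.le hz' hmin'
    rw [Finset.sum_range_succ', idiv_one]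
    have hsum : ∑ k ∈ Finset.range (t + 1), idiv a b (k + 1 + 1) =
        ∑ j ∈ Finset.range (t + 1), idiv b (a % b) (j + 1) := by
      apply Finset.sum_congr rfl
      intro j _
      exact idiv_shift a b hr j
    rw [hsum, Nat.gcd_rec b a]
    set S := ∑ j ∈ Finset.range (t + 1), idiv b (a % b) (j + 1) with hS
    set g := Nat.gcd (a % b) b with hg
    set q := a / b with hq
    set r := a % b with hrr
    have hgr : g ≤ r := Nat.le_of_dvd hr0 (Nat.gcd_dvd_left _ _)
    have hgb : g ≤ b := Nat.le_of_dvd hb (Nat.gcd_dvd_right _ _)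
    have hq1 : 1 ≤ q := Nat.div_pos hba hb
    have ha : a = b * q + r := (Nat.div_add_mod a b).symm
    have h1 : q * g + b ≤ b * q + r := by
      obtain ⟨q', hq'⟩ : ∃ q', q = 1 + q' := ⟨q - 1, by omega⟩
      have : q' * g ≤ b * q' := by
        rw [mul_comm b q']
        exact Nat.mul_le_mul_left q' hgb
      rw [hq']
      nlinarith
    calc (S + q) * g = S * g + q * g := by ring
      _ ≤ b + q * g := by omega
      _ ≤ b * q + r := by omega
      _ = a := ha.symm

end Groth.Agent.Lib.Helper91
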