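import Mathlib
import Groth.Agent.Lib.Helper91.Groebner

/-!
# Concrete Gröbner certificates in nine variables (helper91)

Exponent vectors `Fin 9 → ℕ` (written `![..]`), term lists, decidable lexicographic comparison
(possibly after a permutation of the variables), and a constructor for `Groebner.GB` from
term-list data in which every side condition except the S-pair identities is closed by `decide`.
-/

namespace Groth.Agent.Lib.Helper91.GroebnerFin9

open MvPolynomial Groth.Agent.Lib.Helper91.Groebner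

/-- exponent vector to `Finsupp` -/
noncomputable def E (v : Fin 9 → ℕ) : Fin 9 →₀ ℕ := Finsupp.equivFunOnFinite.symm v

@[simp] theorem E_apply (v : Fin 9 → ℕ) (j : Fin 9) : E v j = v j := rfl

theorem E_add (v w : Fin 9 → ℕ) : E v + E w = E (v + w) := by
  ext j; simp

theorem E_le_iff (v w : Fin 9 → ℕ) : E v ≤ E w ↔ ∀ j, v j ≤ w j := Iff.rfl

theorem monomial_E9 {R : Type*} [CommRing R] (c : R) (e0 e1 e2 e3 e4 e5 e6 e7 e8 : ℕ) :
    monomial (E ![e0,e1,e2,e3,e4,e5,e6,e7,e8]) c =
      C c * (X 0 ^ e0 * X 1 ^ e1 * X 2 ^ e2 * X 3 ^ e3 * X 4 ^ e4 * X 5 ^ e5 * X 6 ^ e6 * X 7 ^ e7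
        * X 8 ^ e8) := by
  rw [monomial_eq]
  congr 1
  rw [Finsupp.prod_fintype _ _ (by simp)]
  simp [Fin.prod_univ_succ]
  ring

/-- lexicographic comparison of exponent vectors, `X 0` largest -/
def VLt (v w : Fin 9 → ℕ) : Prop := ∃ i : Fin 9, (∀ j : Fin 9, j < i → v j = w j) ∧ v i < w i

instance (v w : Fin 9 → ℕ) : Decidable (VLt v w) := by unfold VLt; infer_instance

theorem lex_lt_iff_vec (v w : Fin 9 → ℕ) :
    MonomialOrder.lex.toSyn (E v) < MonomialOrder.lex.toSyn (E w) ↔ VLt v w := by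
  rw [MonomialOrder.lex_lt_iff, Finsupp.Lex.lt_iff]
  rfl

/-- pull back a monomial order along a bijection of the variables -/
noncomputable def comapOrder {σ τ : Type*} (m : MonomialOrder σ) (e : τ ≃ σ) : MonomialOrder τ where
  syn := m.syn
  toSyn := (Finsupp.domCongr e).trans m.toSyn
  toSyn_monotone := by
    intro a b hab
    apply m.toSyn_monotone
    intro s
    simpa [Finsupp.domCongr_apply] using hab (e.symm s)

/-- a monomial order on nine variables whose strict comparison on exponent vectors is the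
lexicographic one after composing with `perm` -/
structure VOrd where
  /-- the order -/
  m : MonomialOrder (Fin 9)
  /-- position `k` of the lexicographic comparison looks at variable `perm k` -/
  perm : Fin 9 → Fin 9
  spec : ∀ v w, m.toSyn (E v) < m.toSyn (E w) ↔ VLt (v ∘ perm) (w ∘ perm)

/-- the plain lexicographic order `X 0 > X 1 > ... > X 8` -/
noncomputable def lexOrd : VOrd where
  m := MonomialOrder.lex
  perm := id
  spec := lex_lt_iff_vec

/-- lexicographic order with the variables taken in the order `e 0 > e 1 > ...` -/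
noncomputable def permOrd (e : Fin 9 ≃ Fin 9) : VOrd where
  m := comapOrder MonomialOrder.lex e.symm
  perm := e
  spec := by
    intro v w
    have h : ∀ u : Fin 9 → ℕ, Finsupp.domCongr e.symm (E u) = E (u ∘ e) := by
      intro u; ext j; simp [Finsupp.domCongr_apply]
    show MonomialOrder.lex.toSyn (Finsupp.domCongr e.symm (E v))
      < MonomialOrder.lex.toSyn (Finsupp.domCongr e.symm (E w)) ↔ _
    rw [h, h, lex_lt_iff_vec]

variable (R : Type*) [CommRing R]

/-- polynomial with integer coefficients given by a list of terms -/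
noncomputable def tp (l : List (ℤ × (Fin 9 → ℕ))) : MvPolynomial (Fin 9) R :=
  (l.map fun t => monomial (E t.2) (t.1 : R)).sum

@[simp] theorem tp_nil : tp R [] = 0 := rfl

@[simp] theorem tp_cons (t : ℤ × (Fin 9 → ℕ)) (l : List (ℤ × (Fin 9 → ℕ))) :
    tp R (t :: l) = monomial (E t.2) (t.1 : R) + tp R l := by
  simp [tp]

variable {R}

theorem sbdd_tp (O : VOrd) {l : List (ℤ × (Fin 9 → ℕ))} {μ δ : Fin 9 → ℕ}
    (h : ∀ t ∈ l, VLt ((t.2 + μ) ∘ O.perm) (δ ∘ O.perm)) :
    SBdd O.m (O.m.toSyn (E δ)) (E μ) (tp R l) := by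
  induction l with
  | nil => exact SBdd.zero
  | cons t l ih =>
    rw [tp_cons]
    refine SBdd.add (SBdd.monomial _ ?_) (ih fun t' ht' => h t' (List.mem_cons_of_mem _ ht'))
    rw [E_add, O.spec]
    exact h t List.mem_cons_self

theorem support_tp_lt (O : VOrd) {l : List (ℤ × (Fin 9 → ℕ))} {μ : Fin 9 → ℕ}
    (h : ∀ t ∈ l, VLt (t.2 ∘ O.perm) (μ ∘ O.perm)) :
    ∀ ν ∈ (tp R l).support, O.m.toSyn ν < O.m.toSyn (E μ) := by
  have := sbdd_tp (R := R) O (l := l) (μ := 0) (δ := μ) (by simpa using h)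
  intro ν hν
  have h2 := this ν hν
  have e0 : E (0 : Fin 9 → ℕ) = 0 := by ext j; simp
  rwa [e0, add_zero] at h2

/-- the S-pair certificate predicate (the body of `GB.hS`) -/
def PairCert {n : ℕ} (m : MonomialOrder (Fin 9)) (G : Fin n → MvPolynomial (Fin 9) R)
    (μ : Fin n → (Fin 9 →₀ ℕ)) (i j : Fin n) : Prop :=
  ∃ (a b : Fin 9 →₀ ℕ) (H : Fin n → MvPolynomial (Fin 9) R),
      a + μ i = b + μ j ∧ (∀ δ, μ i ≤ δ → μ j ≤ δ → a + μ i ≤ δ) ∧
      monomial a 1 * G i - monomial b 1 * G j = ∑ l, H l * G l ∧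
      ∀ l, SBdd m (m.toSyn (a + μ i)) (μ l) (H l)

theorem mkPair (O : VOrd) {n : ℕ} (G : Fin n → MvPolynomial (Fin 9) R)
    (μv : Fin n → (Fin 9 → ℕ)) (i j : Fin n) (a b : Fin 9 → ℕ)
    (H : Fin n → List (ℤ × (Fin 9 → ℕ)))
    (h1 : a + μv i = b + μv j)
    (h2 : ∀ s, (a + μv i) s = max (μv i s) (μv j s))
    (h3 : monomial (E a) 1 * G i - monomial (E b) 1 * G j = ∑ l, tp R (H l) * G l)
    (h4 : ∀ l, ∀ t ∈ H l, VLt ((t.2 + μv l) ∘ O.perm) ((a + μv i) ∘ O.perm)) :
    PairCert O.m G (fun k => E (μv k)) i j := by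
  refine ⟨E a, E b, fun l => tp R (H l), ?_, ?_, h3, ?_⟩
  · rw [E_add, E_add, h1]
  · intro δ hi hj s
    rw [E_add, E_apply, h2 s]
    exact max_le (hi s) (hj s)
  · intro l
    rw [E_add]
    exact sbdd_tp O (h4 l)

/-- coprime leading monomials: the trivial certificate -/
theorem coprimePair (m : MonomialOrder (Fin 9)) {n : ℕ} (G r : Fin n → MvPolynomial (Fin 9) R)
    (μ : Fin n → (Fin 9 →₀ ℕ)) (hG : ∀ k, G k = monomial (μ k) 1 + r k)
    (hr : ∀ k, ∀ ν ∈ (r k).support, m.toSyn ν < m.toSyn (μ k))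
    (i j : Fin n) (hij : i ≠ j) (hcop : ∀ s, μ i s = 0 ∨ μ j s = 0) :
    PairCert m G μ i j := by
  classical
  refine ⟨μ j, μ i, fun l => (if l = i then - r j else 0) + (if l = j then r i else 0),
    add_comm _ _, ?_, ?_, ?_⟩
  · intro δ hi hj s
    rcases hcop s with h | h
    · simpa [h] using hj s
    · simpa [h] using hi s
  · simp only [add_mul, Finset.sum_add_distrib, ite_mul, zero_mul, Finset.sum_ite_eq',
      Finset.mem_univ, if_true]
    have e1 : monomial (μ j) (1 : R) = G j - r j := by rw [hG j]; ring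
    have e2 : monomial (μ i) (1 : R) = G i - r i := by rw [hG i]; ring
    rw [e1, e2]; ring
  · intro l
    refine SBdd.add ?_ ?_
    · split_ifs with h
      · subst h
        intro ν hν
        rw [MvPolynomial.support_neg] at hν
        have := hr j ν hν
        rw [map_add, map_add]
        exact add_lt_add_left this _
      · exact SBdd.zero
    · split_ifs with h
      · subst h
        intro ν hν
        have := hr i ν hν
        rw [map_add, map_add, add_comm (m.toSyn (μ l))]
        exact add_lt_add_left this _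
      · exact SBdd.zero

/-- a monic family with pairwise coprime leading monomials is a Gröbner basis -/
noncomputable def ofCoprime (m : MonomialOrder (Fin 9)) {n : ℕ}
    (G r : Fin n → MvPolynomial (Fin 9) R)
    (μ : Fin n → (Fin 9 →₀ ℕ)) (hG : ∀ k, G k = monomial (μ k) 1 + r k)
    (hr : ∀ k, ∀ ν ∈ (r k).support, m.toSyn ν < m.toSyn (μ k))
    (hcop : ∀ i j, i ≠ j → ∀ s, μ i s = 0 ∨ μ j s = 0) : GB m n R where
  G := G
  μ := μ
  r := r
  hG := hG
  hr := hr
  hS := fun i j hij => coprimePair m G r μ hG hr i j hij.ne (hcop i j hij.ne)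

/-- in a monic family with pairwise coprime leading monomials, each member is a nonzerodivisor
modulo the ideal generated by the previous ones -/
theorem regular_step_of_coprime (m : MonomialOrder (Fin 9)) {n : ℕ}
    (G r : Fin n → MvPolynomial (Fin 9) R)
    (μ : Fin n → (Fin 9 →₀ ℕ)) (hG : ∀ k, G k = monomial (μ k) 1 + r k)
    (hr : ∀ k, ∀ ν ∈ (r k).support, m.toSyn ν < m.toSyn (μ k))
    (hcop : ∀ i j, i ≠ j → ∀ s, μ i s = 0 ∨ μ j s = 0) (k : Fin n)
    {p : MvPolynomial (Fin 9) R} (hp : G k * p ∈ Ideal.span (G '' {j | j < k})) :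
    p ∈ Ideal.span (G '' {j | j < k}) := by
  have hk : (k : ℕ) ≤ n := k.isLt.le
  let c : Fin (k : ℕ) → Fin n := Fin.castLE hk
  have hc : ∀ i, c i < k := fun i => by
    show (Fin.castLE hk i : ℕ) < k
    simp
  have hcinj : Function.Injective c := Fin.castLE_injective hk
  let B : GB m (k : ℕ) R := ofCoprime m (fun i => G (c i)) (fun i => r (c i)) (fun i => μ (c i))
    (fun i => hG (c i)) (fun i => hr (c i))
    (fun i j hij => hcop (c i) (c j) (fun h => hij (hcinj h)))
  have hB : B.ideal = Ideal.span (G '' {j | j < k}) := by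
    show Ideal.span (Set.range fun i => G (c i)) = _
    congr 1
    ext x
    constructor
    · rintro ⟨i, rfl⟩
      exact ⟨c i, hc i, rfl⟩
    · rintro ⟨j, hj, rfl⟩
      refine ⟨⟨j, hj⟩, ?_⟩
      show G (Fin.castLE hk ⟨j, hj⟩) = G j
      congr 1
  rw [← hB] at hp ⊢
  exact (B.mul_mem_iff_of_coprime (hG k) (hr k)
    (fun i s => hcop (c i) k (ne_of_lt (hc i)) s)).mp hp

/-- a monic family with pairwise coprime nonzero leading monomials generates a proper ideal -/
theorem one_notMem_of_coprime [Nontrivial R] (m : MonomialOrder (Fin 9)) {n : ℕ}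
    (G r : Fin n → MvPolynomial (Fin 9) R)
    (μ : Fin n → (Fin 9 →₀ ℕ)) (hG : ∀ k, G k = monomial (μ k) 1 + r k)
    (hr : ∀ k, ∀ ν ∈ (r k).support, m.toSyn ν < m.toSyn (μ k))
    (hcop : ∀ i j, i ≠ j → ∀ s, μ i s = 0 ∨ μ j s = 0) (hμ : ∀ k, μ k ≠ 0) :
    (1 : MvPolynomial (Fin 9) R) ∉ Ideal.span (Set.range G) :=
  (ofCoprime m G r μ hG hr hcop).one_notMem hμ

end Groth.Agent.Lib.Helper91.GroebnerFin9
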