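import Groth.Agent.Lib.Helper91.InertiaBasic

set_option autoImplicit false
universe u v

namespace Groth.Agent.Lib.Helper91.Inertia

open W4c5stacksedinertia

section tuples

variable {G : Type u} [Group G]

/-- the commuting-injective predicate on raw tuples -/
def IsCT {r : ℕ} (s : Fin r → G) : Prop := Function.Injective s ∧ ∀ i j, Commute (s i) (s j)

/-- centralizer of a raw tuple -/
def Cz {r : ℕ} (s : Fin r → G) : Subgroup G := Subgroup.centralizer (Set.range s)

/-- the averaged term attached to a raw tuple -/
noncomputable def term [Finite G] {r : ℕ} (s : Fin r → G) : K :=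
  ((Nat.card (Cz s) : ℚ) / Nat.card G) • cl (Cz s)

/-- conjugation of a raw tuple -/
def conjT {r : ℕ} (g : G) (s : Fin r → G) : Fin r → G := fun i => g * s i * g⁻¹

theorem isCT_conjT {r : ℕ} (g : G) (s : Fin r → G) (h : IsCT s) : IsCT (conjT g s) := by
  refine ⟨?_, ?_⟩
  · intro i j hij
    apply h.1
    simpa [conjT] using hij
  · intro i j
    have := h.2 i j
    simp only [conjT]
    rw [Commute, SemiconjBy] at this ⊢
    calc g * s i * g⁻¹ * (g * s j * g⁻¹) = g * (s i * s j) * g⁻¹ := by group
      _ = g * (s j * s i) * g⁻¹ := by rw [this]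
      _ = g * s j * g⁻¹ * (g * s i * g⁻¹) := by group

theorem Cz_conjT {r : ℕ} (g : G) (s : Fin r → G) :
    Cz (conjT g s) = (Cz s).map (MulAut.conj g).toMonoidHom := by
  ext x
  simp only [Cz, Subgroup.mem_centralizer_iff, Set.mem_range, forall_exists_index,
    forall_apply_eq_imp_iff, Subgroup.mem_map, MulEquiv.coe_toMonoidHom, MulAut.conj_apply]
  constructor
  · intro hx
    refine ⟨g⁻¹ * x * g, ?_, by group⟩
    intro i
    have := hx i
    simp only [conjT] at this
    calc s i * (g⁻¹ * x * g) = g⁻¹ * ((g * s i * g⁻¹) * x) * g := by group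
      _ = g⁻¹ * (x * (g * s i * g⁻¹)) * g := by rw [this]
      _ = g⁻¹ * x * g * s i := by group
  · rintro ⟨y, hy, rfl⟩ i
    have := hy i
    simp only [conjT]
    calc g * s i * g⁻¹ * (g * y * g⁻¹) = g * (s i * y) * g⁻¹ := by group
      _ = g * (y * s i) * g⁻¹ := by rw [this]
      _ = g * y * g⁻¹ * (g * s i * g⁻¹) := by group

/-- centralizers of conjugate tuples are isomorphic -/
noncomputable def CzConjEquiv {r : ℕ} (g : G) (s : Fin r → G) : Cz s ≃* Cz (conjT g s) :=
  ((Cz s).equivMapOfInjective (MulAut.conj g).toMonoidHom (MulAut.conj g).injective).trans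
    (MulEquiv.subgroupCongr (Cz_conjT g s).symm)

theorem term_conjT [Finite G] {r : ℕ} (g : G) (s : Fin r → G) : term (conjT g s) = term s := by
  unfold term
  rw [cl_eq_of_mulEquiv (CzConjEquiv g s).symm, Nat.card_congr (CzConjEquiv g s).symm.toEquiv]

end tuples

section avg

variable (G : Type u) [Group G] (r : ℕ)

/-- conjugation action on commuting tuples -/
@[instance_reducible]
def conjAction : MulAction G (CommTuple G r) where
  smul g s := ⟨conjT g s.1, isCT_conjT g s.1 s.2⟩
  one_smul s := Subtype.ext (by
    funext i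
    show (1 : G) * s.1 i * (1 : G)⁻¹ = s.1 i
    group)
  mul_smul g h s := Subtype.ext (by
    funext i
    show (g * h) * s.1 i * (g * h)⁻¹ = g * (h * s.1 i * h⁻¹) * g⁻¹
    group)

attribute [local instance] conjAction

theorem smul_val (g : G) (s : CommTuple G r) : (g • s).1 = conjT g s.1 := rfl

theorem setoid_iff (s t : CommTuple G r) :
    (CommTuple.setoid G r).r s t ↔ ∃ g : G, g • s = t := by
  constructor
  · rintro ⟨g, hg⟩
    exact ⟨g, Subtype.ext (funext hg)⟩
  · rintro ⟨g, rfl⟩
    exact ⟨g, fun i => rfl⟩

theorem stabilizer_eq (s : CommTuple G r) : MulAction.stabilizer G s = Cz s.1 := by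
  ext g
  rw [MulAction.mem_stabilizer_iff, Cz, Subgroup.mem_centralizer_iff]
  constructor
  · intro h x hx
    obtain ⟨i, rfl⟩ := hx
    have := congrFun (congrArg Subtype.val h) i
    simp only [smul_val, conjT] at this
    calc s.1 i * g = (g * s.1 i * g⁻¹) * g := by rw [this]
      _ = g * s.1 i := by group
  · intro h
    apply Subtype.ext
    funext i
    simp only [smul_val, conjT]
    have := h (s.1 i) ⟨i, rfl⟩
    calc g * s.1 i * g⁻¹ = (s.1 i * g) * g⁻¹ := by rw [this]
      _ = s.1 i := by group

instance finite_commTuple [Finite G] : Finite (CommTuple G r) := by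
  unfold CommTuple
  infer_instance

instance finite_orbit [Finite G] : Finite (CommTuple.Orbit G r) := by
  unfold CommTuple.Orbit
  infer_instance

theorem inertiaROf_eq_sum [Finite G] :
    inertiaROf r G = ∑ᶠ s : CommTuple G r, term s.1 := by
  classical
  haveI : Fintype G := Fintype.ofFinite G
  haveI : Fintype (CommTuple G r) := Fintype.ofFinite _
  haveI : Fintype (CommTuple.Orbit G r) := Quotient.fintype (CommTuple.setoid G r)
  rw [inertiaROf, finsum_eq_sum_of_fintype, finsum_eq_sum_of_fintype]
  rw [← Fintype.sum_fiberwise (κ := CommTuple.Orbit G r)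
    (fun s : CommTuple G r => (Quotient.mk (CommTuple.setoid G r) s : CommTuple.Orbit G r))
    (fun s => term s.1)]
  apply Finset.sum_congr rfl
  intro O _
  set x : CommTuple G r := Quotient.out (s := CommTuple.setoid G r) O with hx
  have hxO : (Quotient.mk (CommTuple.setoid G r) x : CommTuple.Orbit G r) = O := Quotient.out_eq O
  have hconst : ∀ s : {s : CommTuple G r //
      (Quotient.mk (CommTuple.setoid G r) s : CommTuple.Orbit G r) = O}, term s.1.1 = term x.1 := by
    rintro ⟨s, hs⟩
    have hrel : (CommTuple.setoid G r).r x s := Quotient.exact (hxO.trans hs.symm)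
    obtain ⟨g, hg⟩ := (setoid_iff G r x s).mp hrel
    have : s.1 = conjT g x.1 := by rw [← hg]; rfl
    show term s.1 = term x.1
    rw [this, term_conjT]
  simp only [hconst, Finset.sum_const, Finset.card_univ, Fintype.card_eq_nat_card]
  have hcard : Nat.card {s : CommTuple G r //
      (Quotient.mk (CommTuple.setoid G r) s : CommTuple.Orbit G r) = O} * Nat.card (Cz x.1) =
      Nat.card G := by
    have e1 : {s : CommTuple G r //
        (Quotient.mk (CommTuple.setoid G r) s : CommTuple.Orbit G r) = O} ≃
        MulAction.orbit G x := by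
      refine Equiv.subtypeEquivRight ?_
      intro s
      rw [MulAction.mem_orbit_iff, ← setoid_iff, ← hxO]
      constructor
      · intro h
        exact Quotient.exact h.symm
      · intro h
        exact (Quotient.sound h).symm
    rw [Nat.card_congr e1, ← stabilizer_eq,
      ← Nat.card_prod, Nat.card_congr (MulAction.orbitProdStabilizerEquivGroup G x)]
  have hG : (Nat.card G : ℚ) ≠ 0 := by
    have : 0 < Nat.card G := Nat.card_pos
    positivity
  show cl (Cz x.1) = _
  symm
  unfold term
  rw [← Nat.cast_smul_eq_nsmul ℚ, smul_smul, ← hcard]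
  have hC : (Nat.card (Cz x.1) : ℚ) ≠ 0 := by
    have : 0 < Nat.card (Cz x.1) := Nat.card_pos
    positivity
  have hF : ((Nat.card {s : CommTuple G r //
      (Quotient.mk (CommTuple.setoid G r) s : CommTuple.Orbit G r) = O} : ℕ) : ℚ) ≠ 0 := by
    intro h0
    rw [← hcard] at hG
    apply hG
    push_cast
    rw [h0, zero_mul]
  push_cast
  convert one_smul ℚ (cl ↥(Cz x.1)) using 2
  rw [mul_div_assoc', div_eq_one_iff_eq (mul_ne_zero hF hC)]
  rfl

end avg

end Groth.Agent.Lib.Helper91.Inertia
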