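import Groth.Agent.Lib.Helper91.InertiaAvg

set_option autoImplicit false
universe u v

namespace Groth.Agent.Lib.Helper91.Inertia

open W4c5stacksedinertia

open Classical in
/-- the averaged form of the `r`-th inertia operator on the class of `G` -/
noncomputable def avgOf (r : ℕ) (G : Type u) [Group G] [Finite G] : K :=
  ∑ᶠ s : Fin r → G, if IsCT s then term s else 0

theorem inertiaROf_eq_avgOf (r : ℕ) (G : Type u) [Group G] [Finite G] :
    inertiaROf r G = avgOf r G := by
  classical
  haveI : Fintype G := Fintype.ofFinite G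
  haveI : Fintype (CommTuple G r) := Fintype.ofFinite _
  rw [inertiaROf_eq_sum, avgOf, finsum_eq_sum_of_fintype, finsum_eq_sum_of_fintype,
    ← Finset.sum_filter]
  symm
  exact Finset.sum_subtype (Finset.univ.filter (fun s : Fin r → G => IsCT s))
    (by intro s; simp [IsCT]) (fun s => term s)

/-- transport of raw tuples along an isomorphism -/
theorem isCT_map {G : Type u} {H : Type v} [Group G] [Group H] (e : G ≃* H) {r : ℕ}
    (s : Fin r → G) : IsCT (fun i => e (s i)) ↔ IsCT s := by
  constructor
  · rintro ⟨h1, h2⟩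
    refine ⟨fun i j hij => h1 (by simp [hij]), fun i j => ?_⟩
    have := h2 i j
    rw [Commute, SemiconjBy] at this ⊢
    apply e.injective
    simpa using this
  · rintro ⟨h1, h2⟩
    refine ⟨fun i j hij => h1 (e.injective hij), fun i j => ?_⟩
    have := h2 i j
    rw [Commute, SemiconjBy] at this ⊢
    rw [← map_mul, ← map_mul, this]

theorem Cz_map {G : Type u} {H : Type v} [Group G] [Group H] (e : G ≃* H) {r : ℕ}
    (s : Fin r → G) : Cz (fun i => e (s i)) = (Cz s).map e.toMonoidHom := by
  ext x
  simp only [Cz, Subgroup.mem_centralizer_iff, Set.mem_range, forall_exists_index,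
    forall_apply_eq_imp_iff, Subgroup.mem_map, MulEquiv.coe_toMonoidHom]
  constructor
  · intro hx
    refine ⟨e.symm x, ?_, by simp⟩
    intro i
    apply e.injective
    simpa using hx i
  · rintro ⟨y, hy, rfl⟩ i
    rw [← map_mul, ← map_mul, hy i]

noncomputable def CzMapEquiv {G : Type u} {H : Type v} [Group G] [Group H] (e : G ≃* H) {r : ℕ}
    (s : Fin r → G) : Cz s ≃* Cz (fun i => e (s i)) :=
  ((Cz s).equivMapOfInjective e.toMonoidHom e.injective).trans
    (MulEquiv.subgroupCongr (Cz_map e s).symm)

theorem term_map {G : Type u} {H : Type v} [Group G] [Group H] [Finite G] [Finite H]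
    (e : G ≃* H) {r : ℕ} (s : Fin r → G) : term (fun i => e (s i)) = term s := by
  unfold term
  rw [cl_eq_of_mulEquiv (CzMapEquiv e s).symm, Nat.card_congr (CzMapEquiv e s).symm.toEquiv,
    Nat.card_congr e.symm.toEquiv]

theorem avgOf_congr {G : Type u} {H : Type v} [Group G] [Group H] [Finite G] [Finite H]
    (e : G ≃* H) (r : ℕ) : avgOf r G = avgOf r H := by
  classical
  unfold avgOf
  let E : (Fin r → G) ≃ (Fin r → H) := Equiv.piCongrRight (fun _ => e.toEquiv)
  rw [← finsum_comp_equiv E]
  apply finsum_congr
  intro s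
  have h1 : E s = fun i => e (s i) := rfl
  rw [h1, term_map]
  by_cases h : IsCT s
  · rw [if_pos h, if_pos ((isCT_map e s).mpr h)]
  · rw [if_neg h, if_neg (fun h' => h ((isCT_map e s).mp h'))]

theorem inertiaR_single (r : ℕ) (i : Idx) (c : ℚ) :
    inertiaR r (Finsupp.single i c) = c • avgOf r i.rep := by
  rw [inertiaR, Finsupp.linearCombination_single, inertiaROf_eq_avgOf]

theorem inertiaR_cl (r : ℕ) (H : Type u) [Group H] [Finite H] :
    inertiaR r (cl H) = avgOf r H := by
  rw [cl, inertiaR_single, one_smul]
  exact avgOf_congr (repEquiv H) r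

end Groth.Agent.Lib.Helper91.Inertia
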