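import Mathlib
import Groth.Prelude.Def_W4c5stacksedinertiaGpd

set_option autoImplicit false
universe u v

namespace Groth.Agent.Lib.Helper91.Inertia

open W4c5stacksedinertia

/-- the transported presentation is isomorphic to the group -/
noncomputable def ofCarrierEquiv (G : Type u) [Group G] [Finite G] : (FinGrp.of G).carrier ≃* G :=
  letI : Mul (Fin (Nat.card G)) :=
    (Nat.equivFinOfCardPos (α := G) Nat.card_pos.ne').symm.mul
  (Nat.equivFinOfCardPos (α := G) Nat.card_pos.ne').symm.mulEquiv

theorem Idx.of_eq_of_mulEquiv {G : Type u} {H : Type v} [Group G] [Finite G] [Group H] [Finite H]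
    (e : G ≃* H) : Idx.of G = Idx.of H :=
  Quotient.sound ⟨(ofCarrierEquiv G).trans (e.trans (ofCarrierEquiv H).symm)⟩

/-- the representative of the class of `G` is isomorphic to `G` -/
noncomputable def repEquiv (G : Type u) [Group G] [Finite G] : (Idx.of G).rep ≃* G :=
  (Classical.choice (Quotient.exact (Quotient.out_eq (Idx.of G)))).trans (ofCarrierEquiv G)

theorem Idx.of_rep (i : Idx) : Idx.of i.rep = i := by
  have h1 : Idx.of i.rep = Quotient.mk FinGrp.setoid (Quotient.out (s := FinGrp.setoid) i) := by
    apply Quotient.sound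
    exact ⟨ofCarrierEquiv _⟩
  rw [h1]
  exact Quotient.out_eq i

theorem Idx.card_of (G : Type u) [Group G] [Finite G] : (Idx.of G).card = Nat.card G :=
  Nat.card_congr (repEquiv G).toEquiv

theorem Idx.centerCard_of (G : Type u) [Group G] [Finite G] :
    (Idx.of G).centerCard = Nat.card (Subgroup.center G) :=
  Nat.card_congr (Subgroup.centerCongr (repEquiv G)).toEquiv

theorem cl_rep (i : Idx) : cl i.rep = Finsupp.single i 1 := by
  rw [cl, Idx.of_rep]

theorem cl_eq_of_mulEquiv {G : Type u} {H : Type v} [Group G] [Finite G] [Group H] [Finite H]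
    (e : G ≃* H) : cl G = cl H := by
  rw [cl, cl, Idx.of_eq_of_mulEquiv e]

theorem cl_mem_Kle (G : Type u) [Group G] [Finite G] (n : ℕ) (h : Nat.card G ≤ n) :
    cl G ∈ Kle n := by
  rw [cl, Kle, Finsupp.mem_supported]
  intro i hi
  have : i = Idx.of G := by
    have := Finsupp.support_single_subset hi
    simpa using this
  rw [this]
  show (Idx.of G).card ≤ n
  rw [Idx.card_of]
  exact h

theorem cl_mem_Kge (G : Type u) [Group G] [Finite G] (n : ℕ)
    (h : n ≤ Nat.card (Subgroup.center G)) : cl G ∈ Kge n := by
  rw [cl, Kge, Finsupp.mem_supported]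
  intro i hi
  have : i = Idx.of G := by
    have := Finsupp.support_single_subset hi
    simpa using this
  rw [this]
  show n ≤ (Idx.of G).centerCard
  rw [Idx.centerCard_of]
  exact h

end Groth.Agent.Lib.Helper91.Inertia
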