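import Groth.Agent.Lib.Helper91.InertiaFilt

set_option autoImplicit false
universe u v

namespace Groth.Agent.Lib.Helper91.Inertia

open W4c5stacksedinertia Polynomial

theorem avgOf_eq_zero_of_card_lt (r : ℕ) (G : Type u) [Group G] [Finite G] (h : Nat.card G < r) :
    avgOf r G = 0 := by
  classical
  haveI : Fintype G := Fintype.ofFinite G
  unfold avgOf
  rw [finsum_eq_sum_of_fintype]
  apply Finset.sum_eq_zero
  intro s _
  rw [if_neg]
  rintro ⟨hinj, _⟩
  have := Fintype.card_le_of_injective s hinj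
  rw [Fintype.card_fin, ← Nat.card_eq_fintype_card] at this
  omega

theorem inertiaR_eq_zero_of_mem_Kle (N : ℕ) (v : K) (hv : v ∈ Kle N) : inertiaR (N + 1) v = 0 := by
  have := map_supported_mem (inertiaR (N + 1)) {i : Idx | i.card ≤ N} ⊥ (fun i hi => by
    rw [inertiaR_single, one_smul, Submodule.mem_bot]
    apply avgOf_eq_zero_of_card_lt
    have : i.card ≤ N := hi
    have h2 : Nat.card i.rep = i.card := rfl
    omega) v hv
  simpa using this

theorem exists_mem_Kle (v : K) : ∃ N, v ∈ Kle N := by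
  refine ⟨v.support.sup Idx.card, ?_⟩
  rw [Kle, Finsupp.mem_supported]
  intro i hi
  exact Finset.le_sup (f := Idx.card) hi

theorem iSup_eigenspace_eq_top :
    (⨆ n : ℕ, Module.End.eigenspace inertia (n : ℚ)) = ⊤ := by
  rw [eq_top_iff]
  intro v _
  obtain ⟨N, hN⟩ := exists_mem_Kle v
  have h0 := inertiaR_eq_zero_of_mem_Kle N v hN
  have hker : v ∈ LinearMap.ker (inertiaR (N + 1)) := h0
  rw [ker_inertiaR] at hker
  have hle : (⨆ k ∈ Finset.range (N + 1), Module.End.eigenspace inertia (k : ℚ)) ≤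
      ⨆ n : ℕ, Module.End.eigenspace inertia (n : ℚ) :=
    iSup₂_le (fun k _ => le_iSup (fun n : ℕ => Module.End.eigenspace inertia (n : ℚ)) k)
  exact hle hker

theorem centerCard_pos (i : Idx) : 0 < i.centerCard := by
  show 0 < Nat.card (Subgroup.center i.rep)
  exact Nat.card_pos

theorem eigenvalue_eq (μ : ℚ) (v : K) (hv0 : v ≠ 0) (hv : inertia v = μ • v) :
    ∃ n : ℕ, 0 < n ∧ μ = (n : ℚ) := by
  have hne : v.support.Nonempty := Finsupp.support_nonempty_iff.mpr hv0
  obtain ⟨i₀, hi₀, hmin⟩ := Finset.exists_min_image v.support Idx.centerCard hne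
  refine ⟨i₀.centerCard, centerCard_pos i₀, ?_⟩
  by_contra hne'
  have hvK : v ∈ Kge i₀.centerCard := by
    rw [Kge, Finsupp.mem_supported]
    intro j hj
    exact hmin j hj
  have h1 := inertia_sub_mem_Kge i₀.centerCard v hvK
  rw [hv, ← sub_smul] at h1
  have hc : μ - (i₀.centerCard : ℚ) ≠ 0 := sub_ne_zero.mpr hne'
  have h2 : v ∈ Kge (i₀.centerCard + 1) := by
    have := Submodule.smul_mem _ (μ - (i₀.centerCard : ℚ))⁻¹ h1
    rwa [smul_smul, inv_mul_cancel₀ hc, one_smul] at this
  rw [Kge, Finsupp.mem_supported] at h2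
  have := h2 hi₀
  have this' : i₀.centerCard + 1 ≤ i₀.centerCard := this
  omega

theorem avgOf_one_of_comm (G : Type u) [CommGroup G] [Finite G] :
    avgOf 1 G = (Nat.card G : ℚ) • cl G := by
  classical
  haveI : Fintype G := Fintype.ofFinite G
  rw [avgOf_one, finsum_eq_sum_of_fintype, Finset.sum_congr rfl (g := fun _ => cl G)]
  · rw [Finset.sum_const, Finset.card_univ, ← Nat.cast_smul_eq_nsmul ℚ, Nat.card_eq_fintype_card]
  · intro g _
    apply term_of_Cz_eq_top
    apply Cz_eq_top_of_central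
    intro _
    rw [Subgroup.mem_center_iff]
    intro h
    exact mul_comm h g

theorem hasEigenvalue_natCast (n : ℕ) (hn : 0 < n) :
    Module.End.HasEigenvalue inertia (n : ℚ) := by
  haveI : NeZero n := ⟨hn.ne'⟩
  have hcard : Nat.card (Multiplicative (ZMod n)) = n := by
    rw [Nat.card_congr Multiplicative.toAdd, Nat.card_eq_fintype_card, ZMod.card]
  have h1 : inertia (cl (Multiplicative (ZMod n))) = (n : ℚ) • cl (Multiplicative (ZMod n)) := by
    rw [inertiaR_cl, avgOf_one_of_comm, hcard]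
  have h2 : cl (Multiplicative (ZMod n)) ≠ 0 := by
    rw [cl]
    exact Finsupp.single_ne_zero.mpr one_ne_zero
  exact Module.End.hasEigenvalue_of_hasEigenvector
    ⟨Module.End.mem_eigenspace_iff.mpr h1, h2⟩

theorem hasEigenvalue_iff (μ : ℚ) :
    Module.End.HasEigenvalue inertia μ ↔ ∃ n : ℕ, 0 < n ∧ μ = (n : ℚ) := by
  constructor
  · intro h
    obtain ⟨v, hv⟩ := h.exists_hasEigenvector
    exact eigenvalue_eq μ v hv.2 (Module.End.mem_eigenspace_iff.mp hv.1)
  · rintro ⟨n, hn, rfl⟩
    exact hasEigenvalue_natCast n hn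

end Groth.Agent.Lib.Helper91.Inertia
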