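import Groth.Agent.Lib.Helper91.InertiaKer

set_option autoImplicit false
universe u v

namespace Groth.Agent.Lib.Helper91.Inertia

open W4c5stacksedinertia Polynomial

theorem inertia_mem_Kge (m : ℕ) (v : K) (hv : v ∈ Kge m) : inertia v ∈ Kge m := by
  have h1 := Kge_anti (Nat.le_succ m) (inertia_sub_mem_Kge m v hv)
  have h2 : (m : ℚ) • v ∈ Kge m := Submodule.smul_mem _ _ hv
  have := Submodule.add_mem _ h1 h2
  rwa [sub_add_cancel] at this

theorem inertiaR_sub_mem_Kge_aux (k : ℕ) (r : ℕ) :
    ∀ v ∈ Kge k, inertiaR r v - ((descPochhammer ℚ r).eval (k : ℚ)) • v ∈ Kge (k + 1) := by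
  induction r with
  | zero =>
    intro v _
    rw [inertiaR_zero, descPochhammer_zero, eval_one, one_smul, LinearMap.id_apply, sub_self]
    exact Submodule.zero_mem _
  | succ r ih =>
    intro v hv
    set c := (descPochhammer ℚ r).eval (k : ℚ) with hc
    have hw := ih v hv
    set w := inertiaR r v - c • v with hwdef
    have hu : inertiaR r v = c • v + w := by rw [hwdef]; abel
    have hc' : (descPochhammer ℚ (r + 1)).eval (k : ℚ) = c * ((k : ℚ) - r) := by
      rw [descPochhammer_succ_right, eval_mul, eval_sub, eval_X, eval_natCast]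
    rw [hc', inertiaR_succ, LinearMap.comp_apply, hu]
    simp only [LinearMap.sub_apply, LinearMap.smul_apply, LinearMap.id_apply, map_add, map_smul]
    have e : c • (inertia v - (r : ℚ) • v) + (inertia w - (r : ℚ) • w) - (c * ((k : ℚ) - r)) • v =
        c • (inertia v - (k : ℚ) • v) + (inertia w - (r : ℚ) • w) := by
      module
    rw [e]
    apply Submodule.add_mem
    · exact Submodule.smul_mem _ _ (inertia_sub_mem_Kge k v hv)
    · exact Submodule.sub_mem _ (inertia_mem_Kge (k + 1) w hw) (Submodule.smul_mem _ _ hw)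

theorem inertiaR_sub_mem_Kge (r k : ℕ) (v : K) (hv : v ∈ Kge k) :
    inertiaR r v - ((Nat.factorial r * Nat.choose k r : ℕ) : ℚ) • v ∈ Kge (k + 1) := by
  have := inertiaR_sub_mem_Kge_aux k r v hv
  rwa [descPochhammer_eval_eq_descFactorial, Nat.descFactorial_eq_factorial_mul_choose] at this

end Groth.Agent.Lib.Helper91.Inertia
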