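import Groth.Agent.Lib.Helper91.InertiaPoly

set_option autoImplicit false
universe u v

namespace Groth.Agent.Lib.Helper91.Inertia

open W4c5stacksedinertia Polynomial

theorem isCoprime_descPochhammer (r : ℕ) :
    ∀ m : ℕ, r ≤ m → IsCoprime (descPochhammer ℚ r) (X - (m : ℚ[X])) := by
  induction r with
  | zero =>
    intro m _
    rw [descPochhammer_zero]
    exact isCoprime_one_left
  | succ r ih =>
    intro m hm
    rw [descPochhammer_succ_right]
    apply IsCoprime.mul_left (ih m (by omega))
    rw [← C_eq_natCast, ← C_eq_natCast]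
    apply isCoprime_X_sub_C_of_isUnit_sub
    rw [isUnit_iff_ne_zero, sub_ne_zero]
    intro h
    have : r = m := by exact_mod_cast h
    omega

theorem ker_aeval_X_sub {M : Type*} [AddCommGroup M] [Module ℚ M] (f : Module.End ℚ M) (m : ℕ) :
    LinearMap.ker (aeval f (X - (m : ℚ[X]))) = Module.End.eigenspace f (m : ℚ) := by
  rw [Module.End.eigenspace_def, map_sub, aeval_X, map_natCast]
  congr 2
  apply LinearMap.ext
  intro v
  rw [Module.End.natCast_apply, LinearMap.smul_apply, Module.End.one_apply,
    Nat.cast_smul_eq_nsmul ℚ]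

theorem ker_aeval_descPochhammer {M : Type*} [AddCommGroup M] [Module ℚ M] (f : Module.End ℚ M)
    (r : ℕ) :
    LinearMap.ker (aeval f (descPochhammer ℚ r)) =
      ⨆ k ∈ Finset.range r, Module.End.eigenspace f (k : ℚ) := by
  induction r with
  | zero =>
    rw [descPochhammer_zero, map_one]
    simp only [Finset.range_zero, Finset.notMem_empty, iSup_false, iSup_bot]
    rw [LinearMap.ker_eq_bot]
    exact fun x y h => h
  | succ r ih =>
    rw [descPochhammer_succ_right,
      ← sup_ker_aeval_eq_ker_aeval_mul_of_coprime f (isCoprime_descPochhammer r r le_rfl), ih,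
      ker_aeval_X_sub, Finset.range_add_one, Finset.iSup_insert, sup_comm]

theorem ker_inertiaR (r : ℕ) :
    LinearMap.ker (inertiaR r) = ⨆ k ∈ Finset.range r, Module.End.eigenspace inertia (k : ℚ) := by
  rw [inertiaR_eq_aeval]
  exact ker_aeval_descPochhammer inertia r

end Groth.Agent.Lib.Helper91.Inertia
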