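import Groth.Agent.Lib.Helper91.InertiaAvg2

set_option autoImplicit false
universe u v

namespace Groth.Agent.Lib.Helper91.Inertia

open W4c5stacksedinertia

/-- a linear map sending the basis vectors indexed by `T` into `S` sends `supported T` into `S` -/
theorem map_supported_mem (D : K →ₗ[ℚ] K) (T : Set Idx) (S : Submodule ℚ K)
    (h : ∀ i ∈ T, D (Finsupp.single i 1) ∈ S) (v : K) (hv : v ∈ Finsupp.supported ℚ ℚ T) :
    D v ∈ S := by
  classical
  rw [← Finsupp.sum_single v, map_finsuppSum]
  apply Submodule.sum_mem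
  intro i hi
  have hiT : i ∈ T := (Finsupp.mem_supported ℚ v).mp hv hi
  have : (Finsupp.single i (v i) : K) = (v i) • Finsupp.single i (1 : ℚ) := by
    rw [Finsupp.smul_single, smul_eq_mul, mul_one]
  show D (Finsupp.single i (v i)) ∈ S
  rw [this, map_smul]
  exact S.smul_mem _ (h i hiT)

theorem term_mem_Kle {G : Type u} [Group G] [Finite G] {r : ℕ} (s : Fin r → G) :
    term s ∈ Kle (Nat.card G) := by
  unfold term
  apply Submodule.smul_mem
  exact cl_mem_Kle _ _ (Subgroup.card_le_card_group _)

theorem avgOf_mem_Kle (r : ℕ) (G : Type u) [Group G] [Finite G] :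
    avgOf r G ∈ Kle (Nat.card G) := by
  classical
  haveI : Fintype G := Fintype.ofFinite G
  unfold avgOf
  rw [finsum_eq_sum_of_fintype]
  apply Submodule.sum_mem
  intro s _
  split_ifs
  · exact term_mem_Kle s
  · exact Submodule.zero_mem _

theorem Kle_mono {m n : ℕ} (h : m ≤ n) : Kle m ≤ Kle n := by
  unfold Kle
  apply Finsupp.supported_mono
  intro i hi
  exact le_trans hi h

theorem Kge_anti {m n : ℕ} (h : m ≤ n) : Kge n ≤ Kge m := by
  unfold Kge
  apply Finsupp.supported_mono
  intro i hi
  exact le_trans h hi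

theorem inertiaR_mem_Kle (r n : ℕ) (v : K) (hv : v ∈ Kle n) : inertiaR r v ∈ Kle n := by
  apply map_supported_mem (inertiaR r) {i : Idx | i.card ≤ n} (Kle n) _ v hv
  intro i hi
  rw [inertiaR_single, one_smul]
  exact Kle_mono hi (avgOf_mem_Kle r i.rep)

theorem isCT_const {G : Type u} [Group G] (g : G) : IsCT (fun _ : Fin 1 => g) :=
  ⟨Function.injective_of_subsingleton _, fun _ _ => Commute.refl g⟩

theorem avgOf_one (G : Type u) [Group G] [Finite G] :
    avgOf 1 G = ∑ᶠ g : G, term (fun _ : Fin 1 => g) := by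
  classical
  unfold avgOf
  rw [← finsum_comp_equiv (Equiv.funUnique (Fin 1) G).symm]
  apply finsum_congr
  intro g
  have h1 : (Equiv.funUnique (Fin 1) G).symm g = fun _ : Fin 1 => g := by
    funext i
    simp [Equiv.funUnique]
  rw [h1, if_pos (isCT_const g)]

theorem term_of_Cz_eq_top {G : Type u} [Group G] [Finite G] {r : ℕ} (s : Fin r → G)
    (h : Cz s = ⊤) : term s = cl G := by
  unfold term
  have e : ↥(Cz s) ≃* G := (MulEquiv.subgroupCongr h).trans Subgroup.topEquiv
  rw [cl_eq_of_mulEquiv e, Nat.card_congr e.toEquiv]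
  have hG : (Nat.card G : ℚ) ≠ 0 := by
    have : 0 < Nat.card G := Nat.card_pos
    positivity
  rw [div_self hG, one_smul]

theorem Cz_eq_top_of_central {G : Type u} [Group G] {r : ℕ} (s : Fin r → G)
    (h : ∀ j, s j ∈ Subgroup.center G) : Cz s = ⊤ := by
  rw [Cz, Subgroup.centralizer_eq_top_iff_subset]
  rintro _ ⟨j, rfl⟩
  exact h j

theorem card_center_lt {G : Type u} [Group G] [Finite G] {r : ℕ} (s : Fin r → G) (hs : IsCT s)
    (j : Fin r) (hj : s j ∉ Subgroup.center G) :
    Nat.card (Subgroup.center G) + 1 ≤ Nat.card (Subgroup.center (Cz s)) := by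
  have hmemC : ∀ y : G, y ∈ Cz s ↔ ∀ h ∈ Set.range s, h * y = y * h :=
    fun y => Subgroup.mem_centralizer_iff
  have hcard : Nat.card ((Subgroup.center (Cz s)).map (Cz s).subtype) =
      Nat.card (Subgroup.center (Cz s)) :=
    Subgroup.card_map_of_injective (Cz s).subtype_injective
  have hle : Subgroup.center G ≤ (Subgroup.center (Cz s)).map (Cz s).subtype := by
    intro x hx
    rw [Subgroup.mem_center_iff] at hx
    have hxC : x ∈ Cz s := (hmemC x).mpr (fun h _ => hx h)
    refine ⟨⟨x, hxC⟩, ?_, rfl⟩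
    rw [SetLike.mem_coe, Subgroup.mem_center_iff]
    intro y
    apply Subtype.ext
    exact hx y.1
  have hsj : s j ∈ (Subgroup.center (Cz s)).map (Cz s).subtype := by
    have hsjC : s j ∈ Cz s := by
      rw [hmemC]
      rintro _ ⟨i, rfl⟩
      exact (hs.2 i j).eq
    refine ⟨⟨s j, hsjC⟩, ?_, rfl⟩
    rw [SetLike.mem_coe, Subgroup.mem_center_iff]
    intro y
    apply Subtype.ext
    have hy := (hmemC y.1).mp y.2
    exact (hy (s j) ⟨j, rfl⟩).symm
  by_contra hlt
  have hge : Nat.card ((Subgroup.center (Cz s)).map (Cz s).subtype) ≤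
      Nat.card (Subgroup.center G) := by
    rw [hcard]; omega
  have := Subgroup.eq_of_le_of_card_ge hle hge
  rw [← this] at hsj
  exact hj hsj

theorem term_mem_Kge_of_noncentral {G : Type u} [Group G] [Finite G] {r : ℕ} (s : Fin r → G)
    (hs : IsCT s) (j : Fin r) (hj : s j ∉ Subgroup.center G) :
    term s ∈ Kge (Nat.card (Subgroup.center G) + 1) := by
  unfold term
  apply Submodule.smul_mem
  exact cl_mem_Kge _ _ (card_center_lt s hs j hj)

theorem avgOf_one_sub (G : Type u) [Group G] [Finite G] :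
    avgOf 1 G - (Nat.card (Subgroup.center G) : ℚ) • cl G ∈
      Kge (Nat.card (Subgroup.center G) + 1) := by
  classical
  haveI : Fintype G := Fintype.ofFinite G
  rw [avgOf_one, finsum_eq_sum_of_fintype,
    ← Finset.sum_filter_add_sum_filter_not Finset.univ (fun g : G => g ∈ Subgroup.center G)]
  have h1 : ∑ g ∈ Finset.univ.filter (fun g : G => g ∈ Subgroup.center G),
      term (fun _ : Fin 1 => g) = (Nat.card (Subgroup.center G) : ℚ) • cl G := by
    rw [Finset.sum_congr rfl (g := fun _ => cl G)]
    · rw [Finset.sum_const, ← Nat.cast_smul_eq_nsmul ℚ]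
      congr 2
      rw [Nat.card_eq_fintype_card, Fintype.card_subtype]
    · intro g hg
      rw [Finset.mem_filter] at hg
      exact term_of_Cz_eq_top _ (Cz_eq_top_of_central _ (fun _ => hg.2))
  rw [h1, add_sub_cancel_left]
  apply Submodule.sum_mem
  intro g hg
  rw [Finset.mem_filter] at hg
  exact term_mem_Kge_of_noncentral _ (isCT_const g) 0 hg.2

theorem inertia_single_sub (i : Idx) (k : ℕ) (hk : k ≤ i.centerCard) :
    inertia (Finsupp.single i 1) - (k : ℚ) • Finsupp.single i (1 : ℚ) ∈ Kge (k + 1) := by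
  have h1 := avgOf_one_sub i.rep
  rw [cl_rep] at h1
  have h2 : inertia (Finsupp.single i 1) = avgOf 1 i.rep := by
    rw [inertiaR_single, one_smul]
  rw [h2]
  have hz : Nat.card (Subgroup.center i.rep) = i.centerCard := rfl
  rw [hz] at h1
  have h3 : avgOf 1 i.rep - (k : ℚ) • Finsupp.single i (1 : ℚ) =
      (avgOf 1 i.rep - (i.centerCard : ℚ) • Finsupp.single i (1 : ℚ)) +
        ((i.centerCard : ℚ) - k) • Finsupp.single i (1 : ℚ) := by
    rw [sub_smul]; abel
  rw [h3]
  apply Submodule.add_mem
  · exact Kge_anti (by omega) h1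
  · rcases Nat.eq_or_lt_of_le hk with heq | hlt
    · rw [heq, sub_self, zero_smul]
      exact Submodule.zero_mem _
    · apply Submodule.smul_mem
      rw [Kge, Finsupp.mem_supported]
      intro j hj
      have : j = i := by
        have := Finsupp.support_single_subset hj
        simpa using this
      rw [this]
      exact hlt

theorem inertia_sub_mem_Kge (k : ℕ) (v : K) (hv : v ∈ Kge k) :
    inertia v - (k : ℚ) • v ∈ Kge (k + 1) := by
  have := map_supported_mem (inertia - (k : ℚ) • LinearMap.id) {j : Idx | k ≤ j.centerCard}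
    (Kge (k + 1)) (fun i hi => by
      simpa using inertia_single_sub i k hi) v hv
  simpa using this

end Groth.Agent.Lib.Helper91.Inertia
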