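import Groth.Agent.Lib.Helper91.InertiaRec

set_option autoImplicit false
universe u v

namespace Groth.Agent.Lib.Helper91.Inertia

open W4c5stacksedinertia Polynomial

theorem inertia_comp_inertiaR (r : ℕ) :
    inertia ∘ₗ inertiaR r = inertiaR (r + 1) + (r : ℚ) • inertiaR r := by
  apply Finsupp.lhom_ext
  intro i c
  simp only [LinearMap.comp_apply, LinearMap.add_apply, LinearMap.smul_apply, inertiaR_single,
    map_smul, inertia_avgOf]
  rw [smul_add, smul_comm]

theorem avgOf_zero (G : Type u) [Group G] [Finite G] : avgOf 0 G = cl G := by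
  classical
  unfold avgOf
  rw [finsum_eq_sum_of_fintype, Fintype.sum_unique]
  have h : IsCT (default : Fin 0 → G) :=
    ⟨Function.injective_of_subsingleton _, fun i => i.elim0⟩
  rw [if_pos h]
  apply term_of_Cz_eq_top
  apply Cz_eq_top_of_central
  intro j
  exact j.elim0

theorem inertiaR_zero : inertiaR 0 = LinearMap.id := by
  apply Finsupp.lhom_ext
  intro i c
  rw [inertiaR_single, avgOf_zero, cl_rep, LinearMap.id_apply, Finsupp.smul_single, smul_eq_mul,
    mul_one]

theorem inertiaR_succ (r : ℕ) :
    inertiaR (r + 1) = (inertia - (r : ℚ) • LinearMap.id) ∘ₗ inertiaR r := by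
  have h := inertia_comp_inertiaR r
  apply LinearMap.ext
  intro v
  have h' := LinearMap.congr_fun h v
  simp only [LinearMap.comp_apply, LinearMap.add_apply, LinearMap.smul_apply,
    LinearMap.sub_apply, LinearMap.id_apply] at h' ⊢
  rw [h']
  abel

theorem inertiaR_eq_aeval (r : ℕ) :
    inertiaR r = aeval (inertia : Module.End ℚ K) (descPochhammer ℚ r) := by
  induction r with
  | zero =>
    rw [inertiaR_zero, descPochhammer_zero, map_one]
    rfl
  | succ r ih =>
    rw [inertiaR_succ, descPochhammer_succ_right, mul_comm, map_mul, ← ih, map_sub, aeval_X,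
      map_natCast]
    apply LinearMap.ext
    intro v
    simp only [LinearMap.comp_apply, LinearMap.sub_apply, LinearMap.smul_apply,
      LinearMap.id_apply, Module.End.mul_apply]
    rw [Module.End.natCast_apply, Nat.cast_smul_eq_nsmul ℚ]

theorem inertiaR_apply_of_mem_eigenspace (k r : ℕ) (v : K)
    (hv : v ∈ Module.End.eigenspace inertia (k : ℚ)) :
    inertiaR r v = ((Nat.factorial r * Nat.choose k r : ℕ) : ℚ) • v := by
  by_cases hv0 : v = 0
  · simp [hv0]
  · have hev : Module.End.HasEigenvector inertia (k : ℚ) v := ⟨hv, hv0⟩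
    rw [inertiaR_eq_aeval, Module.End.aeval_apply_of_hasEigenvector hev,
      descPochhammer_eval_eq_descFactorial, Nat.descFactorial_eq_factorial_mul_choose]

end Groth.Agent.Lib.Helper91.Inertia
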