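import Groth.Agent.Lib.Helper91.InertiaDiag
import Groth.Agent.Lib.Helper91.BinomInv

set_option autoImplicit false
universe u v

namespace Groth.Agent.Lib.Helper91.Inertia

open W4c5stacksedinertia Polynomial

theorem proj_formula (v : K) :
    (∀ k : ℕ, (∑ᶠ r : ℕ, (((-1 : ℚ) ^ (r + k)) / (Nat.factorial r : ℚ) * (Nat.choose r k : ℚ)) •
        inertiaR r v) ∈ Module.End.eigenspace inertia (k : ℚ)) ∧
    (∑ᶠ k : ℕ, ∑ᶠ r : ℕ, (((-1 : ℚ) ^ (r + k)) / (Nat.factorial r : ℚ) * (Nat.choose r k : ℚ)) •
        inertiaR r v) = v := by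
  classical
  obtain ⟨N, hN⟩ := exists_mem_Kle v
  have hvan : ∀ r, N < r → inertiaR r v = 0 := by
    intro r hr
    obtain ⟨r', rfl⟩ : ∃ r', r = r' + 1 := ⟨r - 1, by omega⟩
    exact inertiaR_eq_zero_of_mem_Kle r' v (Kle_mono (by omega) hN)
  have hker : v ∈ LinearMap.ker (inertiaR (N + 1)) := hvan (N + 1) (by omega)
  rw [ker_inertiaR] at hker
  obtain ⟨μ, hμ⟩ := (Submodule.mem_iSup_finset_iff_exists_sum _ _).mp hker
  have hμr : ∀ (r m : ℕ), inertiaR r (μ m : K) =
      ((Nat.factorial r * Nat.choose m r : ℕ) : ℚ) • (μ m : K) :=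
    fun r m => inertiaR_apply_of_mem_eigenspace m r (μ m) (μ m).2
  have key : ∀ k : ℕ,
      (∑ᶠ r : ℕ, (((-1 : ℚ) ^ (r + k)) / (Nat.factorial r : ℚ) * (Nat.choose r k : ℚ)) •
        inertiaR r v) = if k ∈ Finset.range (N + 1) then (μ k : K) else 0 := by
    intro k
    rw [finsum_eq_sum_of_support_subset (s := Finset.range (N + 1))]
    · have h1 : ∀ r ∈ Finset.range (N + 1),
          (((-1 : ℚ) ^ (r + k)) / (Nat.factorial r : ℚ) * (Nat.choose r k : ℚ)) • inertiaR r v =
            ∑ m ∈ Finset.range (N + 1),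
              ((-1 : ℚ) ^ (r + k) * (Nat.choose r k : ℚ) * (Nat.choose m r : ℚ)) • (μ m : K) := by
        intro r _
        rw [← hμ, map_sum, Finset.smul_sum]
        apply Finset.sum_congr rfl
        intro m _
        rw [hμr, smul_smul]
        congr 1
        have hf : (Nat.factorial r : ℚ) ≠ 0 := by
          exact_mod_cast Nat.factorial_ne_zero r
        push_cast
        field_simp
      rw [Finset.sum_congr rfl h1, Finset.sum_comm]
      have h2 : ∀ m ∈ Finset.range (N + 1),
          ∑ r ∈ Finset.range (N + 1),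
            ((-1 : ℚ) ^ (r + k) * (Nat.choose r k : ℚ) * (Nat.choose m r : ℚ)) • (μ m : K) =
            (if m = k then (1 : ℚ) else 0) • (μ m : K) := by
        intro m hm
        rw [← Finset.sum_smul, binom_inv m k N (by rw [Finset.mem_range] at hm; omega)]
      rw [Finset.sum_congr rfl h2]
      simp only [ite_smul, one_smul, zero_smul]
      rw [Finset.sum_ite_eq' (Finset.range (N + 1)) k (fun m => (μ m : K))]
    · intro r hr
      rw [Function.mem_support] at hr
      rw [Finset.coe_range, Set.mem_Iio]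
      by_contra hlt
      apply hr
      rw [hvan r (by omega), smul_zero]
  refine ⟨fun k => ?_, ?_⟩
  · rw [key k]
    split_ifs
    · exact (μ k).2
    · exact Submodule.zero_mem _
  · simp only [key]
    rw [finsum_eq_sum_of_support_subset (s := Finset.range (N + 1))]
    · rw [← hμ]
      apply Finset.sum_congr rfl
      intro k hk
      rw [if_pos hk]
    · intro k hk
      rw [Function.mem_support] at hk
      by_contra hk'
      apply hk
      rw [if_neg (fun h => hk' (Finset.mem_coe.mpr h))]

end Groth.Agent.Lib.Helper91.Inertia
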