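import Groth.Agent.Lib.Helper91.InertiaOne

set_option autoImplicit false
universe u v

namespace Groth.Agent.Lib.Helper91.Inertia

open W4c5stacksedinertia

section

variable {G : Type u} [Group G]

theorem mem_Cz {r : ℕ} (s : Fin r → G) (y : G) : y ∈ Cz s ↔ ∀ i, s i * y = y * s i := by
  rw [Cz, Subgroup.mem_centralizer_iff]
  constructor
  · intro h i
    exact h (s i) ⟨i, rfl⟩
  · rintro h _ ⟨i, rfl⟩
    exact h i

theorem mem_Cz_snoc {r : ℕ} (s : Fin r → G) (g y : G) :
    y ∈ Cz (Fin.snoc s g : Fin (r + 1) → G) ↔ y ∈ Cz s ∧ g * y = y * g := by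
  rw [mem_Cz, mem_Cz]
  constructor
  · intro h
    refine ⟨fun i => ?_, ?_⟩
    · have := h i.castSucc
      rwa [Fin.snoc_castSucc] at this
    · have := h (Fin.last r)
      rwa [Fin.snoc_last] at this
  · rintro ⟨h1, h2⟩ i
    refine Fin.lastCases ?_ (fun i => ?_) i
    · rw [Fin.snoc_last]; exact h2
    · rw [Fin.snoc_castSucc]; exact h1 i

theorem term_congr_Cz [Finite G] {r r' : ℕ} {s : Fin r → G} {t : Fin r' → G} (h : Cz s = Cz t) :
    term s = term t := by
  unfold term
  rw [cl_eq_of_mulEquiv (MulEquiv.subgroupCongr h), Nat.card_congr (MulEquiv.subgroupCongr h).toEquiv]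

theorem isCT_snoc {r : ℕ} (s : Fin r → G) (g : G) :
    IsCT (Fin.snoc s g : Fin (r + 1) → G) ↔ IsCT s ∧ g ∈ Cz s ∧ g ∉ Set.range s := by
  unfold IsCT
  rw [Fin.snoc_injective_iff, mem_Cz]
  constructor
  · rintro ⟨⟨h1, h2⟩, h3⟩
    refine ⟨⟨h1, fun i j => ?_⟩, fun i => ?_, h2⟩
    · have := h3 i.castSucc j.castSucc
      rwa [Fin.snoc_castSucc, Fin.snoc_castSucc] at this
    · have := h3 i.castSucc (Fin.last r)
      rw [Fin.snoc_castSucc, Fin.snoc_last] at this
      exact this.eq
  · rintro ⟨⟨h1, h2⟩, h3, h4⟩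
    refine ⟨⟨h1, h4⟩, fun i j => ?_⟩
    refine Fin.lastCases ?_ (fun i => ?_) i <;> refine Fin.lastCases ?_ (fun j => ?_) j
    · exact Commute.refl _
    · rw [Fin.snoc_last, Fin.snoc_castSucc]
      exact (h3 j).symm
    · rw [Fin.snoc_last, Fin.snoc_castSucc]
      exact h3 i
    · rw [Fin.snoc_castSucc, Fin.snoc_castSucc]
      exact h2 i j

theorem mem_Cz_of_mem_range {r : ℕ} (s : Fin r → G) (hs : IsCT s) (g : G) (hg : g ∈ Set.range s) :
    g ∈ Cz s := by
  obtain ⟨j, rfl⟩ := hg
  rw [mem_Cz]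
  intro i
  exact (hs.2 i j).eq

theorem Cz_snoc_of_mem_range {r : ℕ} (s : Fin r → G) (g : G) (hg : g ∈ Set.range s) :
    Cz (Fin.snoc s g : Fin (r + 1) → G) = Cz s := by
  unfold Cz
  rw [Fin.range_snoc, Set.insert_eq_of_mem hg]

/-- the centralizer, inside the subgroup `Cz s`, of an element `g'` is `Cz (snoc s g')` -/
theorem Cz_const_map {r : ℕ} (s : Fin r → G) (g' : Cz s) :
    (Cz (fun _ : Fin 1 => g')).map (Cz s).subtype = Cz (Fin.snoc s (g' : G) : Fin (r + 1) → G) := by
  ext x
  rw [mem_Cz_snoc, Subgroup.mem_map]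
  constructor
  · rintro ⟨y, hy, rfl⟩
    refine ⟨y.2, ?_⟩
    rw [mem_Cz] at hy
    have := hy 0
    exact congrArg Subtype.val this
  · rintro ⟨h1, h2⟩
    refine ⟨⟨x, h1⟩, ?_, rfl⟩
    rw [mem_Cz]
    intro _
    exact Subtype.ext h2

noncomputable def CzConstEquiv {r : ℕ} (s : Fin r → G) (g' : Cz s) :
    Cz (fun _ : Fin 1 => g') ≃* Cz (Fin.snoc s (g' : G) : Fin (r + 1) → G) :=
  ((Cz (fun _ : Fin 1 => g')).equivMapOfInjective (Cz s).subtype (Cz s).subtype_injective).trans
    (MulEquiv.subgroupCongr (Cz_const_map s g'))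

theorem smul_term_const [Finite G] {r : ℕ} (s : Fin r → G) (g' : Cz s) :
    ((Nat.card (Cz s) : ℚ) / Nat.card G) • term (fun _ : Fin 1 => g') =
      term (Fin.snoc s (g' : G) : Fin (r + 1) → G) := by
  unfold term
  rw [cl_eq_of_mulEquiv (CzConstEquiv s g'), Nat.card_congr (CzConstEquiv s g').toEquiv, smul_smul]
  congr 1
  have hC : (Nat.card (Cz s) : ℚ) ≠ 0 := by
    have : 0 < Nat.card (Cz s) := Nat.card_pos
    positivity
  field_simp

theorem inertia_term [Finite G] {r : ℕ} (s : Fin r → G) :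
    inertia (term s) = ∑ᶠ g' : Cz s, term (Fin.snoc s (g' : G) : Fin (r + 1) → G) := by
  classical
  haveI : Fintype (Cz s) := Fintype.ofFinite _
  conv_lhs => rw [term, map_smul, inertiaR_cl, avgOf_one]
  rw [finsum_eq_sum_of_fintype, finsum_eq_sum_of_fintype, Finset.smul_sum]
  apply Finset.sum_congr rfl
  intro g' _
  exact smul_term_const s g'

theorem inertia_avgOf (r : ℕ) (G : Type u) [Group G] [Finite G] :
    inertia (avgOf r G) = avgOf (r + 1) G + (r : ℚ) • avgOf r G := by
  classical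
  haveI : Fintype G := Fintype.ofFinite G
  have h1 : inertia (avgOf r G) = ∑ s : Fin r → G, ∑ g : G,
      if (IsCT s ∧ g ∈ Cz s) then term (Fin.snoc s g : Fin (r + 1) → G) else 0 := by
    unfold avgOf
    rw [finsum_eq_sum_of_fintype, map_sum]
    apply Finset.sum_congr rfl
    intro s _
    by_cases hs : IsCT s
    · haveI : Fintype (Cz s) := Fintype.ofFinite _
      rw [if_pos hs, inertia_term, finsum_eq_sum_of_fintype]
      simp only [hs, true_and]
      rw [← Finset.sum_filter]
      exact (Finset.sum_subtype (Finset.univ.filter (fun g : G => g ∈ Cz s)) (by simp)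
        (fun g => term (Fin.snoc s g : Fin (r + 1) → G))).symm
    · rw [if_neg hs, map_zero]
      simp [hs]
  have h2 : ∀ (s : Fin r → G) (g : G),
      (if (IsCT s ∧ g ∈ Cz s) then term (Fin.snoc s g : Fin (r + 1) → G) else 0) =
        (if IsCT (Fin.snoc s g : Fin (r + 1) → G) then term (Fin.snoc s g : Fin (r + 1) → G) else 0) +
          (if (IsCT s ∧ g ∈ Set.range s) then term s else 0) := by
    intro s g
    by_cases hs : IsCT s
    · by_cases hg : g ∈ Set.range s
      · have hgC := mem_Cz_of_mem_range s hs g hg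
        rw [if_pos ⟨hs, hgC⟩, if_neg (fun h => ((isCT_snoc s g).mp h).2.2 hg), if_pos ⟨hs, hg⟩,
          zero_add, term_congr_Cz (Cz_snoc_of_mem_range s g hg)]
      · by_cases hgC : g ∈ Cz s
        · rw [if_pos ⟨hs, hgC⟩, if_pos ((isCT_snoc s g).mpr ⟨hs, hgC, hg⟩),
            if_neg (fun h => hg h.2), add_zero]
        · rw [if_neg (fun h => hgC h.2), if_neg (fun h => hgC ((isCT_snoc s g).mp h).2.1),
            if_neg (fun h => hg h.2), add_zero]
    · rw [if_neg (fun h => hs h.1), if_neg (fun h => hs ((isCT_snoc s g).mp h).1),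
        if_neg (fun h => hs h.1), add_zero]
  rw [h1]
  simp_rw [h2, Finset.sum_add_distrib]
  congr 1
  · unfold avgOf
    rw [finsum_eq_sum_of_fintype, Finset.sum_comm,
      ← Equiv.sum_comp (Fin.snocEquiv (fun _ : Fin (r + 1) => G)), Fintype.sum_prod_type]
    rfl
  · unfold avgOf
    rw [finsum_eq_sum_of_fintype, Finset.smul_sum]
    apply Finset.sum_congr rfl
    intro s _
    by_cases hs : IsCT s
    · simp only [hs, true_and, if_true]
      rw [← Finset.sum_filter, Finset.sum_const, ← Nat.cast_smul_eq_nsmul ℚ]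
      congr 2
      have : Finset.univ.filter (fun g : G => g ∈ Set.range s) = Finset.univ.image s := by
        ext g
        simp [eq_comm]
      rw [this, Finset.card_image_of_injective _ hs.1, Finset.card_univ, Fintype.card_fin]
    · simp [hs]

end

end Groth.Agent.Lib.Helper91.Inertia
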