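import Mathlib
import Groth.Prelude.Def_W4c2invhilbsl2
import Groth.Agent.Lib.Helper48.HJMono

/-!
# Weight pieces of quotients of `k[X₀,…,X₄]` by the ideals `I_s`, `J_s` (helper91)
-/

set_option autoImplicit false

namespace Groth.Agent.Lib.Helper91.InvHilb

open W4c2invhilbsl2 MvPolynomial Groth.Agent.Lib.Helper48.HJ

/-- rank ≤ 1 from a generator through which all monomials of the given weight factor -/
theorem rank_piece_le_one_of {σ : Type*} {k : Type*} [Field k] {M : Type*} [AddCommMonoid M]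
    (w : σ → M) (I : Ideal (MvPolynomial σ k)) (ν : M) (v₀ : MvPolynomial σ k ⧸ I)
    (h : ∀ d : σ →₀ ℕ, Finsupp.weight w d = ν →
      Ideal.Quotient.mkₐ k I (monomial d 1) ∈ Submodule.span k {v₀}) :
    Module.rank k (piece k w I ν) ≤ 1 := by
  classical
  rw [rank_submodule_le_one_iff']
  refine ⟨v₀, ?_⟩
  intro y hy
  obtain ⟨f, hf, rfl⟩ := Submodule.mem_map.mp hy
  rw [← support_sum_monomial_coeff f, map_sum]
  refine Submodule.sum_mem _ fun d hd => ?_
  have hdw : Finsupp.weight w d = ν := hf (mem_support_iff.mp hd)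
  have : monomial d (coeff d f) = coeff d f • monomial d (1 : k) := by
    rw [smul_monomial, smul_eq_mul, mul_one]
  rw [this, map_smul]
  exact Submodule.smul_mem _ _ (h d hdw)

/-- the arithmetic behind `J_s`: two exponent vectors `(d0,d1,d3)`, `(e0,e1,e3)` of the same
weight with `d0, e0 < gcd(m, q-p)` differ by a multiple of `(0, aq, ap)` -/
theorem diff_lemma {p q m : ℕ} (hp : 0 < p) (hpq : p < q) (hcop : Nat.Coprime p q) (hm : 0 < m)
    {d0 d1 d3 e0 e1 e3 : ℕ}
    (hd0 : d0 < Nat.gcd m (q - p)) (he0 : e0 < Nat.gcd m (q - p))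
    (h1 : (d0 : ℤ) - p * d1 + q * d3 = e0 - p * e1 + q * e3)
    (h2 : ((d3 : ZMod m) - d1) = (e3 : ZMod m) - e1) (hle : d1 ≤ e1) :
    ∃ t : ℕ, e0 = d0 ∧ e1 = d1 + t * (m / Nat.gcd m (q - p) * q) ∧
      e3 = d3 + t * (m / Nat.gcd m (q - p) * p) := by
  set G := Nat.gcd m (q - p) with hG
  have hGpos : 0 < G := Nat.gcd_pos_of_pos_left _ hm
  set a := m / G with ha
  set n' := (q - p) / G with hn'
  have hma : m = G * a := (Nat.mul_div_cancel' (Nat.gcd_dvd_left m (q - p))).symm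
  have hnn : q - p = G * n' := (Nat.mul_div_cancel' (Nat.gcd_dvd_right m (q - p))).symm
  have hnpos : 0 < q - p := Nat.sub_pos_of_lt hpq
  have hn'pos : 0 < n' := by
    rcases Nat.eq_zero_or_pos n' with h | h
    · rw [h, mul_zero] at hnn; omega
    · exact h
  have hqp : ((q - p : ℕ) : ℤ) = (q : ℤ) - p := by
    rw [Nat.cast_sub hpq.le]
  -- x with Δ3 - Δ1 = m x
  obtain ⟨x, hx⟩ : ∃ x : ℤ, ((e3 : ℤ) - e1) - (d3 - d1) = m * x := by
    have h3 : ((((e3 : ℤ) - e1) - (d3 - d1) : ℤ) : ZMod m) = 0 := by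
      push_cast
      rw [← h2]; ring
    exact (ZMod.intCast_zmod_eq_zero_iff_dvd _ _).mp h3
  -- Δ0 = -(q-p) Δ1 - q m x
  have hΔ0 : (e0 : ℤ) - d0 = -(((q : ℤ) - p) * (e1 - d1)) - q * (m * x) := by
    rw [← hx]; linarith
  have hdvd : (G : ℤ) ∣ (e0 : ℤ) - d0 := by
    rw [hΔ0, ← hqp, hnn, hma]
    push_cast
    exact ⟨-(n' * ((e1 : ℤ) - d1)) - q * (a * x), by ring⟩
  have habs : |(e0 : ℤ) - d0| < G := by
    rw [abs_lt]; constructor <;> omega
  have hΔ0z : (e0 : ℤ) - d0 = 0 := Int.eq_zero_of_abs_lt_dvd hdvd habs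
  have he0d0 : e0 = d0 := by omega
  -- n' Δ1 = - q a x
  have hkey : (n' : ℤ) * ((e1 : ℤ) - d1) = -((q : ℤ) * a * x) := by
    have h4 : ((q : ℤ) - p) * (e1 - d1) = -(q * (m * x)) := by linarith
    rw [← hqp, hnn, hma] at h4
    push_cast at h4
    have hG0 : (G : ℤ) ≠ 0 := by exact_mod_cast hGpos.ne'
    apply mul_left_cancel₀ hG0
    linarith
  -- coprimality
  have hc1 : Nat.Coprime n' a := by
    have := Nat.coprime_div_gcd_div_gcd (m := m) (n := q - p) hGpos
    exact this.symm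
  have hc2 : Nat.Coprime n' q := by
    have h5 : Nat.Coprime (q - p) q := by
      have h55 : Nat.Coprime p (q - p) := (Nat.coprime_sub_self_right hpq.le).mpr hcop
      have h56 : Nat.Coprime (q - p) (p + (q - p)) := Nat.coprime_add_self_right.mpr h55.symm
      rwa [Nat.add_sub_cancel' hpq.le] at h56
    exact Nat.Coprime.coprime_dvd_left ⟨G, by rw [hnn]; ring⟩ h5
  have hc3 : IsCoprime (n' : ℤ) ((q : ℤ) * a) := by
    have : Nat.Coprime n' (q * a) := Nat.Coprime.mul_right hc2 hc1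
    exact_mod_cast Nat.isCoprime_iff_coprime.mpr this
  have hdx : (n' : ℤ) ∣ x := by
    have h6 : (n' : ℤ) ∣ (q : ℤ) * a * x := by
      refine ⟨-((e1 : ℤ) - d1), ?_⟩
      linarith
    exact hc3.dvd_of_dvd_mul_left h6
  obtain ⟨y, rfl⟩ := hdx
  have hn'0 : (n' : ℤ) ≠ 0 := by exact_mod_cast hn'pos.ne'
  have hΔ1 : (e1 : ℤ) - d1 = -((q : ℤ) * a * y) := by
    apply mul_left_cancel₀ hn'0
    rw [hkey]; ring
  have hqa : 0 < (q : ℤ) * a := by
    have : 0 < a := by
      rcases Nat.eq_zero_or_pos a with h | h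
      · rw [h, mul_zero] at hma; omega
      · exact h
    have hq : 0 < q := by omega
    positivity
  have hy : y ≤ 0 := by
    by_contra hcon
    push Not at hcon
    have : (e1 : ℤ) - d1 < 0 := by
      rw [hΔ1]; nlinarith
    omega
  obtain ⟨t, ht⟩ : ∃ t : ℕ, (t : ℤ) = -y := ⟨(-y).toNat, Int.toNat_of_nonneg (by omega)⟩
  have hyt : y = -(t : ℤ) := by omega
  refine ⟨t, he0d0, ?_, ?_⟩
  · have : (e1 : ℤ) = d1 + t * (a * q) := by
      rw [hyt] at hΔ1; linarith
    exact_mod_cast this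
  · have h7 : (e3 : ℤ) - d3 = (e1 - d1) + m * ((n' : ℤ) * y) := by linarith
    have h8 : (m : ℤ) * n' = a * ((q : ℤ) - p) := by
      rw [← hqp, hnn, hma]; push_cast; ring
    have : (e3 : ℤ) = d3 + t * (a * p) := by
      have h9 : (m : ℤ) * ((n' : ℤ) * y) = a * ((q : ℤ) - p) * y := by
        rw [← mul_assoc, h8]
      rw [h9, hΔ1, hyt] at h7
      linarith
    exact_mod_cast this


section J

variable {k : Type*} [Field k] (p q m : ℕ) (s : k)

theorem mono_mem_J_of_X0 {d : Fin 5 →₀ ℕ} (h : Nat.gcd m (q - p) ≤ d 0) :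
    monomial d (1 : k) ∈ idealJ k p q m s := by
  have hle : Finsupp.single 0 (Nat.gcd m (q - p)) ≤ d := Finsupp.single_le_iff.mpr h
  have : monomial d (1 : k) =
      monomial (d - Finsupp.single 0 (Nat.gcd m (q - p))) 1 * X 0 ^ (Nat.gcd m (q - p)) := by
    rw [X_pow_eq_monomial, monomial_mul, mul_one, tsub_add_cancel_of_le hle]
  rw [this]
  exact Ideal.mul_mem_left _ _ (Ideal.subset_span (by simp))

theorem mono_mem_J_of_X2 {d : Fin 5 →₀ ℕ} (h : 1 ≤ d 2) :
    monomial d (1 : k) ∈ idealJ k p q m s := by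
  have hle : Finsupp.single 2 1 ≤ d := Finsupp.single_le_iff.mpr h
  have : monomial d (1 : k) = monomial (d - Finsupp.single 2 1) 1 * X 2 := by
    rw [X, monomial_mul, mul_one, tsub_add_cancel_of_le hle]
  rw [this]
  exact Ideal.mul_mem_left _ _ (Ideal.subset_span (by simp))

theorem mono_mem_J_of_X4 {d : Fin 5 →₀ ℕ} (h : 1 ≤ d 4) :
    monomial d (1 : k) ∈ idealJ k p q m s := by
  have hle : Finsupp.single 4 1 ≤ d := Finsupp.single_le_iff.mpr h
  have : monomial d (1 : k) = monomial (d - Finsupp.single 4 1) 1 * X 4 := by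
    rw [X, monomial_mul, mul_one, tsub_add_cancel_of_le hle]
  rw [this]
  exact Ideal.mul_mem_left _ _ (Ideal.subset_span (by simp))

theorem shift_J (d : Fin 5 →₀ ℕ) (t : ℕ) :
    monomial (d + t • vec5 0 (m / Nat.gcd m (q - p) * q) 0 (m / Nat.gcd m (q - p) * p) 0) (1 : k)
      - C (s ^ t) * monomial d 1 ∈ idealJ k p q m s := by
  set A := m / Nat.gcd m (q - p) * q with hA
  set B := m / Nat.gcd m (q - p) * p with hB
  have hgen : C s - X 1 ^ A * X 3 ^ B ∈ idealJ k p q m s :=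
    Ideal.subset_span (by simp [hA, hB])
  have hv : monomial (vec5 0 A 0 B 0) (1 : k) = X 1 ^ A * X 3 ^ B := by
    rw [monomial_vec5]; simp
  induction t with
  | zero => simp
  | succ t ih =>
    have h1 : monomial (d + (t + 1) • vec5 0 A 0 B 0) (1 : k) =
        monomial (d + t • vec5 0 A 0 B 0) 1 * (X 1 ^ A * X 3 ^ B) := by
      rw [← hv, monomial_mul, mul_one, succ_nsmul, add_assoc]
    have h2 : monomial (d + (t + 1) • vec5 0 A 0 B 0) (1 : k) - C (s ^ (t + 1)) * monomial d 1 =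
        -(monomial (d + t • vec5 0 A 0 B 0) 1 * (C s - X 1 ^ A * X 3 ^ B)) +
          C s * (monomial (d + t • vec5 0 A 0 B 0) 1 - C (s ^ t) * monomial d 1) := by
      rw [h1, pow_succ, C_mul]; ring
    rw [h2]
    exact Ideal.add_mem _ (neg_mem (Ideal.mul_mem_left _ _ hgen))
      (Ideal.mul_mem_left _ _ ih)

theorem rank_piece_J_le_one (hp : 0 < p) (hpq : p < q) (hcop : Nat.Coprime p q) (hm : 0 < m)
    (ν : ℤ × ZMod m) :
    Module.rank k (piece k (wt5 p q m) (idealJ k p q m s) ν) ≤ 1 := by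
  classical
  set J := idealJ k p q m s with hJ
  set G := Nat.gcd m (q - p) with hG
  set A := m / G * q with hA
  set B := m / G * p with hB
  by_cases hex : ∃ n : ℕ, ∃ d : Fin 5 →₀ ℕ, Finsupp.weight (wt5 p q m) d = ν ∧ d 0 < G ∧
      d 2 = 0 ∧ d 4 = 0 ∧ d 1 = n
  · obtain ⟨d₀, hw₀, h00, h02, h04, h01⟩ := Nat.find_spec hex
    have hmin : ∀ d : Fin 5 →₀ ℕ, Finsupp.weight (wt5 p q m) d = ν → d 0 < G → d 2 = 0 →
        d 4 = 0 → d₀ 1 ≤ d 1 := by
      intro d hw h0 h2 h4
      rw [h01]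
      exact Nat.find_min' hex ⟨d, hw, h0, h2, h4, rfl⟩
    apply rank_piece_le_one_of _ _ _ (Ideal.Quotient.mkₐ k J (monomial d₀ 1))
    intro d hw
    by_cases h0 : G ≤ d 0
    · have : Ideal.Quotient.mkₐ k J (monomial d 1) = 0 :=
        Ideal.Quotient.eq_zero_iff_mem.mpr (mono_mem_J_of_X0 p q m s h0)
      rw [this]; exact Submodule.zero_mem _
    by_cases h2 : 1 ≤ d 2
    · have : Ideal.Quotient.mkₐ k J (monomial d 1) = 0 :=
        Ideal.Quotient.eq_zero_iff_mem.mpr (mono_mem_J_of_X2 p q m s h2)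
      rw [this]; exact Submodule.zero_mem _
    by_cases h4 : 1 ≤ d 4
    · have : Ideal.Quotient.mkₐ k J (monomial d 1) = 0 :=
        Ideal.Quotient.eq_zero_iff_mem.mpr (mono_mem_J_of_X4 p q m s h4)
      rw [this]; exact Submodule.zero_mem _
    push Not at h0 h2 h4
    have h2' : d 2 = 0 := by omega
    have h4' : d 4 = 0 := by omega
    have hle := hmin d hw h0 h2' h4'
    have hww : Finsupp.weight (wt5 p q m) d₀ = Finsupp.weight (wt5 p q m) d := by rw [hw₀, hw]
    rw [wt5_weight, wt5_weight, Prod.mk.injEq, h02, h04, h2', h4'] at hww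
    obtain ⟨hw1, hw2⟩ := hww
    simp only [Nat.cast_zero, add_zero] at hw1 hw2
    obtain ⟨t, e0, e1, e3⟩ := diff_lemma hp hpq hcop hm h00 h0 hw1 hw2 hle
    have hd : d = d₀ + t • vec5 0 A 0 B 0 := by
      ext j
      fin_cases j
      · simpa using e0
      · simpa [hA, hG] using e1
      · simp [h2', h02]
      · simpa [hB, hG] using e3
      · simp [h4', h04]
    have hsh := shift_J p q m s d₀ t
    rw [← hd] at hsh
    have : Ideal.Quotient.mkₐ k J (monomial d 1) =
        s ^ t • Ideal.Quotient.mkₐ k J (monomial d₀ 1) := by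
      rw [← map_smul, ← sub_eq_zero, ← map_sub]
      have h5 : (s ^ t) • (monomial d₀ (1 : k)) = C (s ^ t) * monomial d₀ 1 := by
        rw [smul_eq_C_mul]
      rw [h5]
      exact Ideal.Quotient.eq_zero_iff_mem.mpr hsh
    rw [this]
    exact Submodule.smul_mem _ _ (Submodule.mem_span_singleton_self _)
  · apply rank_piece_le_one_of _ _ _ 0
    intro d hw
    have hmem : monomial d (1 : k) ∈ J := by
      by_cases h0 : G ≤ d 0
      · exact mono_mem_J_of_X0 p q m s h0
      by_cases h2 : 1 ≤ d 2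
      · exact mono_mem_J_of_X2 p q m s h2
      by_cases h4 : 1 ≤ d 4
      · exact mono_mem_J_of_X4 p q m s h4
      exfalso
      exact hex ⟨d 1, d, hw, by omega, by omega, by omega, rfl⟩
    have : Ideal.Quotient.mkₐ k J (monomial d 1) = 0 := Ideal.Quotient.eq_zero_iff_mem.mpr hmem
    rw [this]; exact Submodule.zero_mem _

end J


section I

variable {k : Type*} [Field k] (p q m : ℕ) (s : k)

theorem mono_mem_I_of_X2 {d : Fin 5 →₀ ℕ} (h : 1 ≤ d 2) :
    monomial d (1 : k) ∈ idealI k p q m s := by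
  have hle : Finsupp.single 2 1 ≤ d := Finsupp.single_le_iff.mpr h
  have : monomial d (1 : k) = monomial (d - Finsupp.single 2 1) 1 * X 2 := by
    rw [X, monomial_mul, mul_one, tsub_add_cancel_of_le hle]
  rw [this]
  exact Ideal.mul_mem_left _ _ (Ideal.subset_span (by simp))

theorem mono_mem_I_of_X3 {d : Fin 5 →₀ ℕ} (h : 1 ≤ d 3) :
    monomial d (1 : k) ∈ idealI k p q m s := by
  have hle : Finsupp.single 3 1 ≤ d := Finsupp.single_le_iff.mpr h
  have : monomial d (1 : k) = monomial (d - Finsupp.single 3 1) 1 * X 3 := by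
    rw [X, monomial_mul, mul_one, tsub_add_cancel_of_le hle]
  rw [this]
  exact Ideal.mul_mem_left _ _ (Ideal.subset_span (by simp))

theorem shift_I (d : Fin 5 →₀ ℕ) (t : ℕ) :
    monomial (d + t • vec5 (m * p) m 0 0 0) (1 : k)
      - C (s ^ t) * monomial d 1 ∈ idealI k p q m s := by
  have hgen : C s - X 0 ^ (m * p) * X 1 ^ m ∈ idealI k p q m s :=
    Ideal.subset_span (by simp)
  have hv : monomial (vec5 (m * p) m 0 0 0) (1 : k) = X 0 ^ (m * p) * X 1 ^ m := by
    rw [monomial_vec5]; simp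
  induction t with
  | zero => simp
  | succ t ih =>
    have h1 : monomial (d + (t + 1) • vec5 (m * p) m 0 0 0) (1 : k) =
        monomial (d + t • vec5 (m * p) m 0 0 0) 1 * (X 0 ^ (m * p) * X 1 ^ m) := by
      rw [← hv, monomial_mul, mul_one, succ_nsmul, add_assoc]
    have h2 : monomial (d + (t + 1) • vec5 (m * p) m 0 0 0) (1 : k)
          - C (s ^ (t + 1)) * monomial d 1 =
        -(monomial (d + t • vec5 (m * p) m 0 0 0) 1 * (C s - X 0 ^ (m * p) * X 1 ^ m)) +
          C s * (monomial (d + t • vec5 (m * p) m 0 0 0) 1 - C (s ^ t) * monomial d 1) := by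
      rw [h1, pow_succ, C_mul]; ring
    rw [h2]
    exact Ideal.add_mem _ (neg_mem (Ideal.mul_mem_left _ _ hgen))
      (Ideal.mul_mem_left _ _ ih)

/-- horizontal moves: same weight and same level `d 1 - d 4`, one-sided version -/
theorem horiz_I_aux (hpq : p < q) {d d' : Fin 5 →₀ ℕ} (h2 : d 2 = 0) (h3 : d 3 = 0)
    (h2' : d' 2 = 0) (h3' : d' 3 = 0)
    (hw : (d 0 : ℤ) - p * d 1 + q * d 4 = d' 0 - p * d' 1 + q * d' 4)
    (hl : (d 1 : ℤ) - d 4 = d' 1 - d' 4) (hle : d 4 ≤ d' 4) :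
    monomial d (1 : k) - monomial d' 1 ∈ idealI k p q m s := by
  obtain ⟨t, ht⟩ := Nat.exists_eq_add_of_le hle
  have h1 : d' 1 = d 1 + t := by omega
  have hqp : ((q - p : ℕ) : ℤ) = (q : ℤ) - p := Nat.cast_sub hpq.le
  have h0 : d 0 = d' 0 + t * (q - p) := by
    have : (d 0 : ℤ) = d' 0 + t * ((q : ℤ) - p) := by
      rw [h1, ht] at hw
      push_cast at hw
      linarith
    rw [← hqp] at this
    exact_mod_cast this
  set e := vec5 (d' 0) (d 1) 0 0 (d 4) with he
  have hd : d = e + t • vec5 (q - p) 0 0 0 0 := by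
    ext j
    fin_cases j
    · simpa [he] using h0
    · simp [he]
    · simpa [he] using h2
    · simpa [he] using h3
    · simp [he]
  have hd' : d' = e + t • vec5 0 1 0 0 1 := by
    ext j
    fin_cases j
    · simp [he]
    · simpa [he] using h1
    · simpa [he] using h2'
    · simpa [he] using h3'
    · simpa [he] using ht
  have hgen : X 0 ^ (q - p) - X 1 * X 4 ∈ idealI k p q m s :=
    Ideal.subset_span (by simp)
  have e1 : monomial d (1 : k) = monomial e 1 * (X 0 ^ (q - p)) ^ t := by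
    rw [hd, X_pow_eq_monomial, monomial_pow, one_pow, monomial_mul, mul_one]
    congr 2
    simp [vec5]
  have e2 : monomial d' (1 : k) = monomial e 1 * (X 1 * X 4) ^ t := by
    have : (X 1 * X 4 : MvPolynomial (Fin 5) k) = monomial (vec5 0 1 0 0 1) 1 := by
      rw [monomial_vec5]; simp
    rw [hd', this, monomial_pow, one_pow, monomial_mul, mul_one]
  rw [e1, e2, ← mul_sub]
  obtain ⟨c, hc⟩ := sub_dvd_pow_sub_pow (X 0 ^ (q - p) : MvPolynomial (Fin 5) k) (X 1 * X 4) t
  rw [hc]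
  exact Ideal.mul_mem_left _ _ (Ideal.mul_mem_right _ _ hgen)

theorem horiz_I (hpq : p < q) {d d' : Fin 5 →₀ ℕ} (h2 : d 2 = 0) (h3 : d 3 = 0)
    (h2' : d' 2 = 0) (h3' : d' 3 = 0)
    (hw : (d 0 : ℤ) - p * d 1 + q * d 4 = d' 0 - p * d' 1 + q * d' 4)
    (hl : (d 1 : ℤ) - d 4 = d' 1 - d' 4) :
    monomial d (1 : k) - monomial d' 1 ∈ idealI k p q m s := by
  rcases le_total (d 4) (d' 4) with hle | hle
  · exact horiz_I_aux p q m s hpq h2 h3 h2' h3' hw hl hle
  · have := horiz_I_aux p q m s hpq h2' h3' h2 h3 hw.symm hl.symm hle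
    rw [← neg_sub]
    exact neg_mem this

theorem rank_piece_I_le_one (hp : 0 < p) (hpq : p < q) (hm : 0 < m)
    (ν : ℤ × ZMod m) :
    Module.rank k (piece k (wt5 p q m) (idealI k p q m s) ν) ≤ 1 := by
  classical
  set I := idealI k p q m s with hI
  have hzero : ∀ d : Fin 5 →₀ ℕ, (1 ≤ d 2 ∨ 1 ≤ d 3) →
      Ideal.Quotient.mkₐ k I (monomial d 1) = 0 := by
    intro d h
    rcases h with h | h
    · exact Ideal.Quotient.eq_zero_iff_mem.mpr (mono_mem_I_of_X2 p q m s h)
    · exact Ideal.Quotient.eq_zero_iff_mem.mpr (mono_mem_I_of_X3 p q m s h)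
  by_cases hex : ∃ z : ℤ, ∃ d : Fin 5 →₀ ℕ, Finsupp.weight (wt5 p q m) d = ν ∧
      d 2 = 0 ∧ d 3 = 0 ∧ (d 1 : ℤ) - d 4 = z
  · have hbdd : ∃ b : ℤ, ∀ z : ℤ, (∃ d : Fin 5 →₀ ℕ, Finsupp.weight (wt5 p q m) d = ν ∧
        d 2 = 0 ∧ d 3 = 0 ∧ (d 1 : ℤ) - d 4 = z) → b ≤ z := by
      refine ⟨-|ν.1|, ?_⟩
      rintro z ⟨d, hw, h2, h3, rfl⟩
      rw [wt5_weight] at hw
      have hw1 : (d 0 : ℤ) - p * (d 1 + d 2) + q * (d 3 + d 4) = ν.1 := by rw [← hw]
      rw [h2, h3] at hw1
      simp only [Nat.cast_zero, add_zero, zero_add] at hw1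
      have hpZ : (1 : ℤ) ≤ p := by exact_mod_cast hp
      have hpqZ : (p : ℤ) ≤ q := by exact_mod_cast hpq.le
      have h5 : (p : ℤ) * ((d 1 : ℤ) - d 4) ≥ -ν.1 := by
        have : (p : ℤ) * d 4 ≤ q * d 4 := by
          apply mul_le_mul_of_nonneg_right hpqZ (by positivity)
        have : (0 : ℤ) ≤ d 0 := by positivity
        nlinarith
      by_contra hcon
      push Not at hcon
      have hneg : (d 1 : ℤ) - d 4 < 0 := by
        have := neg_abs_le ν.1
        have := abs_nonneg ν.1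
        linarith
      have : (p : ℤ) * ((d 1 : ℤ) - d 4) ≤ 1 * ((d 1 : ℤ) - d 4) := by
        apply mul_le_mul_of_nonpos_right hpZ hneg.le
      have := neg_abs_le ν.1
      have := le_abs_self ν.1
      linarith
    obtain ⟨z₀, ⟨d₀, hw₀, h02, h03, hz₀⟩, hmin⟩ := Int.exists_least_of_bdd hbdd hex
    apply rank_piece_le_one_of _ _ _ (Ideal.Quotient.mkₐ k I (monomial d₀ 1))
    intro d hw
    by_cases h23 : 1 ≤ d 2 ∨ 1 ≤ d 3
    · rw [hzero d h23]; exact Submodule.zero_mem _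
    push Not at h23
    have h2 : d 2 = 0 := by omega
    have h3 : d 3 = 0 := by omega
    have hle : z₀ ≤ (d 1 : ℤ) - d 4 := hmin _ ⟨d, hw, h2, h3, rfl⟩
    have hww : Finsupp.weight (wt5 p q m) d₀ = Finsupp.weight (wt5 p q m) d := by rw [hw₀, hw]
    rw [wt5_weight, wt5_weight, Prod.mk.injEq, h02, h03, h2, h3] at hww
    obtain ⟨hw1, hw2⟩ := hww
    simp only [Nat.cast_zero, add_zero, zero_add] at hw1 hw2
    -- level difference divisible by m
    obtain ⟨x, hx⟩ : ∃ x : ℤ, ((d 1 : ℤ) - d 4) - (d₀ 1 - d₀ 4) = m * x := by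
      have h6 : (((((d 1 : ℤ) - d 4) - (d₀ 1 - d₀ 4) : ℤ)) : ZMod m) = 0 := by
        push_cast
        have : (d 4 : ZMod m) - d 1 = d₀ 4 - d₀ 1 := hw2.symm
        linear_combination -this
      exact (ZMod.intCast_zmod_eq_zero_iff_dvd _ _).mp h6
    have hmZ : (0 : ℤ) < m := by exact_mod_cast hm
    have hx0 : 0 ≤ x := by
      by_contra hcon
      push Not at hcon
      have : (m : ℤ) * x < 0 := mul_neg_of_pos_of_neg hmZ hcon
      omega
    obtain ⟨t, rfl⟩ : ∃ t : ℕ, x = t := ⟨x.toNat, (Int.toNat_of_nonneg hx0).symm⟩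
    set d' := d₀ + t • vec5 (m * p) m 0 0 0 with hd'
    have hd'0 : d' 0 = d₀ 0 + t * (m * p) := by simp [hd']
    have hd'1 : d' 1 = d₀ 1 + t * m := by simp [hd']
    have hd'2 : d' 2 = 0 := by simp [hd', h02]
    have hd'3 : d' 3 = 0 := by simp [hd', h03]
    have hd'4 : d' 4 = d₀ 4 := by simp [hd']
    have hH := horiz_I p q m s hpq (d := d) (d' := d') h2 h3 hd'2 hd'3
      (by rw [hd'0, hd'1, hd'4, ← hw1]; push_cast; ring)
      (by rw [hd'1, hd'4]; push_cast; linarith)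
    have hV := shift_I p q m s d₀ t
    rw [← hd'] at hV
    have : Ideal.Quotient.mkₐ k I (monomial d 1) =
        s ^ t • Ideal.Quotient.mkₐ k I (monomial d₀ 1) := by
      rw [← map_smul, ← sub_eq_zero, ← map_sub]
      have h5 : (s ^ t) • (monomial d₀ (1 : k)) = C (s ^ t) * monomial d₀ 1 := by
        rw [smul_eq_C_mul]
      rw [h5]
      have : monomial d (1 : k) - C (s ^ t) * monomial d₀ 1 =
          (monomial d 1 - monomial d' 1) + (monomial d' 1 - C (s ^ t) * monomial d₀ 1) := by ring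
      rw [this]
      exact Ideal.Quotient.eq_zero_iff_mem.mpr (Ideal.add_mem _ hH hV)
    rw [this]
    exact Submodule.smul_mem _ _ (Submodule.mem_span_singleton_self _)
  · apply rank_piece_le_one_of _ _ _ 0
    intro d hw
    by_cases h23 : 1 ≤ d 2 ∨ 1 ≤ d 3
    · rw [hzero d h23]; exact Submodule.zero_mem _
    · exfalso
      push Not at h23
      exact hex ⟨_, d, hw, by omega, by omega, rfl⟩

end I


/-- decomposition along a cover by monomials of possibly different weights -/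
theorem decomp_of_cover' {σ ι : Type*} [DecidableEq ι] {k : Type*} [CommSemiring k] {M : Type*}
    [AddCommGroup M] (w : σ → M) (ν : M) (f : MvPolynomial σ k)
    (hf : f ∈ weightedHomogeneousSubmodule k w ν) (J : Finset ι) (u : ι → σ →₀ ℕ)
    (sel : (σ →₀ ℕ) → ι)
    (hsel : ∀ d ∈ f.support, sel d ∈ J ∧ u (sel d) ≤ d) :
    ∃ a : ι → MvPolynomial σ k,
      (∀ j, a j ∈ weightedHomogeneousSubmodule k w (ν - Finsupp.weight w (u j))) ∧
      f = ∑ j ∈ J, a j * monomial (u j) 1 := by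
  classical
  refine ⟨fun j => ∑ d ∈ f.support.filter (fun d => sel d = j),
    monomial (d - u j) (coeff d f), ?_, ?_⟩
  · intro j
    refine Submodule.sum_mem _ fun d hd => ?_
    rw [Finset.mem_filter] at hd
    obtain ⟨hd, rfl⟩ := hd
    rw [mem_weightedHomogeneousSubmodule]
    obtain ⟨hJ, hle⟩ := hsel d hd
    have hwd : Finsupp.weight w d = ν := hf (mem_support_iff.mp hd)
    refine isWeightedHomogeneous_monomial w _ _ ?_
    have : Finsupp.weight w (d - u (sel d)) + Finsupp.weight w (u (sel d)) =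
        Finsupp.weight w d := by
      rw [← map_add, tsub_add_cancel_of_le hle]
    rw [hwd] at this
    rw [← this]; abel
  · conv_lhs => rw [← support_sum_monomial_coeff f]
    rw [← Finset.sum_fiberwise_of_maps_to (g := sel) (t := J) (fun d hd => (hsel d hd).1)]
    refine Finset.sum_congr rfl fun j hj => ?_
    rw [Finset.sum_mul]
    refine Finset.sum_congr rfl fun d hd => ?_
    rw [Finset.mem_filter] at hd
    obtain ⟨hd, rfl⟩ := hd
    rw [monomial_mul, mul_one, tsub_add_cancel_of_le (hsel d hd).2]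

end Groth.Agent.Lib.Helper91.InvHilb
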