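import Groth.Agent.Lib.Helper91.Todd

set_option autoImplicit false

namespace Groth.Agent.Lib.Helper91

open PowerSeries

/-- `f` has the given coefficients in degrees `0..3` -/
def Jet (f : PowerSeries ℚ) (a0 a1 a2 a3 : ℚ) : Prop :=
  coeff 0 f = a0 ∧ coeff 1 f = a1 ∧ coeff 2 f = a2 ∧ coeff 3 f = a3

theorem Jet.mul {f g : PowerSeries ℚ} {a0 a1 a2 a3 b0 b1 b2 b3 : ℚ}
    (hf : Jet f a0 a1 a2 a3) (hg : Jet g b0 b1 b2 b3) :
    Jet (f * g) (a0 * b0) (a0 * b1 + a1 * b0) (a0 * b2 + a1 * b1 + a2 * b0)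
      (a0 * b3 + a1 * b2 + a2 * b1 + a3 * b0) := by
  obtain ⟨f0, f1, f2, f3⟩ := hf
  obtain ⟨g0, g1, g2, g3⟩ := hg
  have e0 : Finset.HasAntidiagonal.antidiagonal (0 : ℕ) = {((0 : ℕ), (0 : ℕ))} := rfl
  have e1 : Finset.HasAntidiagonal.antidiagonal (1 : ℕ) = {((0 : ℕ), (1 : ℕ)), (1, 0)} := rfl
  have e2 : Finset.HasAntidiagonal.antidiagonal (2 : ℕ) = {((0 : ℕ), (2 : ℕ)), (1, 1), (2, 0)} := rfl
  have e3 : Finset.HasAntidiagonal.antidiagonal (3 : ℕ) = {((0 : ℕ), (3 : ℕ)), (1, 2), (2, 1), (3, 0)} := rfl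
  refine ⟨?_, ?_, ?_, ?_⟩
  · rw [coeff_mul, e0]
    simp [f0, g0]
  · rw [coeff_mul, e1]
    simp [f0, g0, f1, g1]
  · rw [coeff_mul, e2]
    simp [f0, g0, f1, g1, f2, g2]
    ring
  · rw [coeff_mul, e3]
    simp [f0, g0, f1, g1, f2, g2, f3, g3]
    ring

theorem Jet.congr {f : PowerSeries ℚ} {a0 a1 a2 a3 b0 b1 b2 b3 : ℚ}
    (hf : Jet f a0 a1 a2 a3) (h0 : a0 = b0) (h1 : a1 = b1) (h2 : a2 = b2) (h3 : a3 = b3) :
    Jet f b0 b1 b2 b3 := by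
  subst h0 h1 h2 h3
  exact hf

theorem jet_B : Jet (bernoulli'PowerSeries ℚ) 1 (1 / 2) (1 / 12) 0 := by
  refine ⟨?_, ?_, ?_, ?_⟩
  · rw [coeff_B, bernoulli'_zero]; simp
  · rw [coeff_B, bernoulli'_one]; simp
  · rw [coeff_B, bernoulli'_two]; norm_num [Nat.factorial]
  · rw [coeff_B, bernoulli'_three]; simp

theorem jet_B4 : Jet (bernoulli'PowerSeries ℚ ^ 4) 1 2 (11 / 6) 1 := by
  have h2 : Jet (bernoulli'PowerSeries ℚ * bernoulli'PowerSeries ℚ) 1 1 (5 / 12) (1 / 12) := by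
    refine (jet_B.mul jet_B).congr ?_ ?_ ?_ ?_ <;> norm_num
  have h4 := (h2.mul h2).congr (b0 := 1) (b1 := 2) (b2 := 11 / 6) (b3 := 1)
    (by norm_num) (by norm_num) (by norm_num) (by norm_num)
  have e : bernoulli'PowerSeries ℚ ^ 4 =
      (bernoulli'PowerSeries ℚ * bernoulli'PowerSeries ℚ) *
        (bernoulli'PowerSeries ℚ * bernoulli'PowerSeries ℚ) := by ring
  rw [e]
  exact h4

theorem jet_rescale_E1 (d : ℚ) :
    Jet (rescale d E1) 1 (d / 2) (d ^ 2 / 6) (d ^ 3 / 24) := by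
  refine ⟨?_, ?_, ?_, ?_⟩ <;> rw [coeff_rescale] <;> simp [E1, Nat.factorial] <;> ring

theorem jet_rescale_exp (a : ℚ) :
    Jet (rescale a (exp ℚ)) 1 a (a ^ 2 / 2) (a ^ 3 / 6) := by
  refine ⟨?_, ?_, ?_, ?_⟩ <;> rw [coeff_rescale, coeff_exp] <;> simp [Nat.factorial] <;> ring

theorem jet_rescale_B (c : ℚ) :
    Jet (rescale c (bernoulli'PowerSeries ℚ)) 1 (c / 2) (c ^ 2 / 12) 0 := by
  obtain ⟨h0, h1, h2, h3⟩ := jet_B
  refine ⟨?_, ?_, ?_, ?_⟩ <;> rw [coeff_rescale] <;> simp [h0, h1, h2, h3] <;> ring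

end Groth.Agent.Lib.Helper91
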