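import Mathlib

set_option autoImplicit false
set_option linter.unusedSectionVars false
universe u

namespace Groth.Agent.Lib.Helper91.Kempf

variable {E : Type u} [NormedAddCommGroup E] [InnerProductSpace ℝ E] [FiniteDimensional ℝ E]

/-- minimum of a finite nonempty set of functionals -/
noncomputable def mn (S : Finset (Module.Dual ℝ E)) (hS : S.Nonempty) (v : E) : ℝ :=
  S.inf' hS (fun f => f v)

variable (S : Finset (Module.Dual ℝ E)) (hS : S.Nonempty)

theorem mn_le {f : Module.Dual ℝ E} (hf : f ∈ S) (v : E) : mn S hS v ≤ f v :=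
  Finset.inf'_le (fun f => f v) hf

theorem le_mn {a : ℝ} {v : E} : a ≤ mn S hS v ↔ ∀ f ∈ S, a ≤ f v :=
  Finset.le_inf'_iff hS (fun f => f v)

theorem exists_mn (v : E) : ∃ f ∈ S, mn S hS v = f v :=
  Finset.exists_mem_eq_inf' hS (fun f => f v)

theorem mn_zero : mn S hS (0 : E) = 0 := by
  obtain ⟨f, _, hf⟩ := exists_mn S hS (0 : E)
  rw [hf, map_zero]

theorem mn_smul {c : ℝ} (hc : 0 ≤ c) (v : E) : mn S hS (c • v) = c * mn S hS v := by
  apply le_antisymm
  · obtain ⟨f, hfS, hf⟩ := exists_mn S hS v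
    calc mn S hS (c • v) ≤ f (c • v) := mn_le S hS hfS _
      _ = c * mn S hS v := by rw [map_smul, smul_eq_mul, hf]
  · rw [le_mn]
    intro f hf
    rw [map_smul, smul_eq_mul]
    exact mul_le_mul_of_nonneg_left (mn_le S hS hf v) hc

theorem mn_add_le (v w : E) : mn S hS v + mn S hS w ≤ mn S hS (v + w) := by
  rw [le_mn]
  intro f hf
  rw [map_add]
  exact add_le_add (mn_le S hS hf v) (mn_le S hS hf w)

theorem continuous_mn : Continuous (mn S hS) := by
  unfold mn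
  apply Continuous.finset_inf'_apply
  intro f _
  exact LinearMap.continuous_of_finiteDimensional f

variable (F G : Finset (Module.Dual ℝ E)) (hF : F.Nonempty) (hG : G.Nonempty)

theorem exists_max (hpos : ∃ v : E, 0 ≤ mn F hF v ∧ 0 < mn G hG v) :
    ∃ u : E, ‖u‖ = 1 ∧ 0 ≤ mn F hF u ∧ 0 < mn G hG u ∧
      ∀ v, v ≠ 0 → 0 ≤ mn F hF v → mn G hG v / ‖v‖ ≤ mn G hG u := by
  obtain ⟨v₁, hv₁F, hv₁G⟩ := hpos
  have hv₁0 : v₁ ≠ 0 := by
    rintro rfl
    rw [mn_zero] at hv₁G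
    exact lt_irrefl _ hv₁G
  have hnorm : ∀ v : E, v ≠ 0 → ‖(‖v‖⁻¹ • v)‖ = 1 := by
    intro v hv
    rw [norm_smul, norm_inv, norm_norm, inv_mul_cancel₀ (norm_ne_zero_iff.mpr hv)]
  set K : Set E := Metric.sphere (0 : E) 1 ∩ {v | 0 ≤ mn F hF v} with hK
  have hKc : IsCompact K := by
    apply (isCompact_sphere (0 : E) 1).inter_right
    exact isClosed_le continuous_const (continuous_mn F hF)
  have hmemK : ∀ v : E, v ≠ 0 → 0 ≤ mn F hF v → ‖v‖⁻¹ • v ∈ K := by
    intro v hv hvF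
    refine ⟨?_, ?_⟩
    · rw [mem_sphere_zero_iff_norm]
      exact hnorm v hv
    · show 0 ≤ mn F hF (‖v‖⁻¹ • v)
      rw [mn_smul F hF (inv_nonneg.mpr (norm_nonneg v))]
      exact mul_nonneg (inv_nonneg.mpr (norm_nonneg v)) hvF
  have hKne : K.Nonempty := ⟨_, hmemK v₁ hv₁0 hv₁F⟩
  obtain ⟨u, huK, humax⟩ := hKc.exists_isMaxOn hKne (continuous_mn G hG).continuousOn
  have hu1 : ‖u‖ = 1 := by
    have := huK.1
    rwa [mem_sphere_zero_iff_norm] at this
  have hbound : ∀ v, v ≠ 0 → 0 ≤ mn F hF v → mn G hG v / ‖v‖ ≤ mn G hG u := by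
    intro v hv hvF
    have h1 := humax (hmemK v hv hvF)
    simp only [Set.mem_ofPred_eq] at h1
    rw [mn_smul G hG (inv_nonneg.mpr (norm_nonneg v))] at h1
    rw [div_eq_inv_mul]
    exact h1
  refine ⟨u, hu1, huK.2, ?_, hbound⟩
  have h2 := hbound v₁ hv₁0 hv₁F
  have h3 : 0 < mn G hG v₁ / ‖v₁‖ := div_pos hv₁G (norm_pos_iff.mpr hv₁0)
  exact lt_of_lt_of_le h3 h2

theorem ray_unique (u v : E) (hu : ‖u‖ = 1) (hv : ‖v‖ = 1) (hFu : 0 ≤ mn F hF u)
    (hFv : 0 ≤ mn F hF v) (M : ℝ) (hM : 0 < M) (hGu : mn G hG u = M) (hGv : mn G hG v = M)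
    (hmax : ∀ w, w ≠ 0 → 0 ≤ mn F hF w → mn G hG w / ‖w‖ ≤ M) : u = v := by
  by_contra hne
  have h1 : 2 * M ≤ mn G hG (u + v) := by
    have := mn_add_le G hG u v
    rw [hGu, hGv] at this
    linarith
  have hw0 : u + v ≠ 0 := by
    intro h0
    rw [h0, mn_zero] at h1
    linarith
  have hFw : 0 ≤ mn F hF (u + v) := le_trans (add_nonneg hFu hFv) (mn_add_le F hF u v)
  have hnlt : ‖u + v‖ < 2 := by
    have hns : ¬SameRay ℝ u v := by
      rw [not_sameRay_iff_of_norm_eq (by rw [hu, hv])]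
      exact hne
    have := norm_add_lt_of_not_sameRay hns
    rw [hu, hv] at this
    linarith
  have hpos : 0 < ‖u + v‖ := norm_pos_iff.mpr hw0
  have h2 := hmax (u + v) hw0 hFw
  rw [div_le_iff₀ hpos] at h2
  nlinarith

end Groth.Agent.Lib.Helper91.Kempf
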