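import Groth.Agent.Lib.Helper94.KosDivDefs

set_option autoImplicit false
universe u

namespace Groth.Agent.Lib.Helper91.KosDivMU

open CategoryTheory CategoryTheory.Limits AlgebraicGeometry Opposite TopologicalSpace
open Groth.Agent.Lib.Lead.Inv Groth.Agent.Lib.Helper94.KosDiv

variable {X : Scheme.{u}}

/-- `powMap c q` on the generator `genPow l q`. -/
theorem powMap_genPow {L : X.Modules} (c : L ⟶ Coh.structureModule X) (q : ℕ) (U : X.Opens)
    (l : Γ(L, U)) :
    OmegaSh.fnSect X U ((powMap c q).app U (genPow l q)) = (KoszSh.secForm c U l) ^ q := by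
  induction q with
  | zero =>
    rw [pow_zero]
    rfl
  | succ q ih =>
    have h1 : (powMap c (q + 1)).app U (genPow l (q + 1)) =
        ((SecTwist.unitorR (Coh.structureModule X)).hom.app U)
          ((KoszTw.tensorMap (powMap c q) c).app U
            (SecTwist.tmul (CohB1.tensorPow L q) L U (genPow l q) l)) := rfl
    rw [h1, KoszTw.tensorMap_tmul]
    have h2 := SecTwist.unitorR_tmul (Coh.structureModule X) U ((powMap c q).app U (genPow l q))
      (OmegaSh.fnSect X U (c.app U l))
    have h3 : ((SecTwist.unitorR (Coh.structureModule X)).hom.app U)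
        (SecTwist.tmul (Coh.structureModule X) (Coh.structureModule X) U
          ((powMap c q).app U (genPow l q)) (c.app U l)) =
        (OmegaSh.fnSect X U (c.app U l)) • ((powMap c q).app U (genPow l q)) := h2
    rw [h3]
    have h4 : OmegaSh.fnSect X U ((OmegaSh.fnSect X U (c.app U l)) •
        ((powMap c q).app U (genPow l q))) =
        OmegaSh.fnSect X U (c.app U l) * OmegaSh.fnSect X U ((powMap c q).app U (genPow l q)) := rfl
    rw [h4, ih, pow_succ, mul_comm]
    rfl

theorem mu_tmul {L : X.Modules} (c : L ⟶ Coh.structureModule X) (M : X.Modules) (q : ℕ)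
    (U : X.Opens) (m : Γ(M, U)) (l : Γ(L, U)) :
    (mu c M q).app U (SecTwist.tmul M (CohB1.tensorPow L q) U m (genPow l q)) =
      (KoszSh.secForm c U l) ^ q • m := by
  have h1 : (mu c M q).app U (SecTwist.tmul M (CohB1.tensorPow L q) U m (genPow l q)) =
      ((SecTwist.unitorR M).hom.app U)
        ((KoszTw.tensorMap (𝟙 M) (powMap c q)).app U
          (SecTwist.tmul M (CohB1.tensorPow L q) U m (genPow l q))) := rfl
  rw [h1, KoszTw.tensorMap_tmul]
  have h2 := SecTwist.unitorR_tmul M U m
    (OmegaSh.fnSect X U ((powMap c q).app U (genPow l q)))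
  have h3 : ((SecTwist.unitorR M).hom.app U)
      (SecTwist.tmul M (Coh.structureModule X) U ((𝟙 M : M ⟶ M).app U m)
        ((powMap c q).app U (genPow l q))) =
      (OmegaSh.fnSect X U ((powMap c q).app U (genPow l q))) • m := h2
  rw [h3, powMap_genPow]

end Groth.Agent.Lib.Helper91.KosDivMU
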