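import Groth.Agent.Lib.Helper94.KosDivDefs

set_option autoImplicit false
universe u

namespace Groth.Agent.Lib.Helper91.KosDivUN

open CategoryTheory CategoryTheory.Limits AlgebraicGeometry Opposite TopologicalSpace
open Groth.Agent.Lib.Lead.Inv Groth.Agent.Lib.Helper94.KosDiv

variable {X : Scheme.{u}}

theorem unit_app_eq_zero_iff_of_span (ID : X.IdealSheafData) (M : X.Modules) [M.IsQuasicoherent]
    (U : X.affineOpens) (x : Γ(X, U.1)) (hID : ID.ideal U = Ideal.span {x}) (m : Γ(M, U.1)) :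
    ((Scheme.Modules.pullbackPushforwardAdjunction ID.subschemeι).unit.app M).app U.1 m = 0 ↔
      ∃ m' : Γ(M, U.1), m = x • m' := by
  have h2 := Groth.Agent.Lib.Helper21.IdealMulSec.unit_app_eq_zero_iff ID.subschemeι M U.2 m
  have h3 : ID.ideal U = RingHom.ker (ID.subschemeι.app U.1).hom := by
    rw [← Scheme.Hom.ker_apply ID.subschemeι U, Scheme.IdealSheafData.ker_subschemeι]
  rw [h2, ← h3, hID]
  constructor
  · intro h
    refine Submodule.smul_induction_on h ?_ ?_
    · intro r hr n _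
      obtain ⟨a, rfl⟩ := Ideal.mem_span_singleton'.mp hr
      exact ⟨a • n, by rw [mul_comm, mul_smul]⟩
    · rintro _ _ ⟨m₁, rfl⟩ ⟨m₂, rfl⟩
      exact ⟨m₁ + m₂, (smul_add x m₁ m₂).symm⟩
  · rintro ⟨m', rfl⟩
    exact Submodule.smul_mem_smul (Ideal.mem_span_singleton_self x) Submodule.mem_top

end Groth.Agent.Lib.Helper91.KosDivUN
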