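import Mathlib
import Groth.Agent.Lib.Helper91.GroebnerFin9

/-!
# The Gröbner basis of the ideal `J` of the moduli of based 3-dimensional Lie algebras (helper91)

Coordinates `X 0 .. X 8 = e, h, v2, g, i, v1, f, c, v3` where `v1 = a - i`, `v2 = b + f`,
`v3 = d + h`; lexicographic order.  Data generated by a Buchberger run; everything is re-checked
here.
-/

namespace Groth.Agent.Lib.Helper91.Lie3GB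

open MvPolynomial Groth.Agent.Lib.Helper91.Groebner Groth.Agent.Lib.Helper91.GroebnerFin9

-- GB of J, lex order, variables ['e', 'h', 'v2', 'g', 'i', 'v1', 'f', 'c', 'v3']
-- G0 = +v2*i +v1*f -c*v3
-- G1 = +h*v1 -v2*g +i*v3
-- G2 = +e*v1 +h*v2 -v2*v3 +f*v3
-- G3 = +e*g*c -e*i^2 +h^2*c +2*h*i*f -h*c*v3 +g*f^2 -i*f*v3
-- G4 = +e*v2*g -e*i*v3 +h^2*v2 -h*v2*v3 +h*f*v3
/-- leading exponent vectors -/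
def muJ : Fin 5 → (Fin 9 → ℕ) := ![![0,0,1,0,1,0,0,0,0], ![0,1,0,0,0,1,0,0,0], ![1,0,0,0,0,1,0,0,0], ![1,0,0,1,0,0,0,1,0], ![1,0,1,1,0,0,0,0,0]]
/-- tails -/
def tailJ : Fin 5 → List (ℤ × (Fin 9 → ℕ)) := ![[((1 : ℤ), ![0,0,0,0,0,1,1,0,0]), ((-1 : ℤ), ![0,0,0,0,0,0,0,1,1])],
  [((-1 : ℤ), ![0,0,1,1,0,0,0,0,0]), ((1 : ℤ), ![0,0,0,0,1,0,0,0,1])],
  [((1 : ℤ), ![0,1,1,0,0,0,0,0,0]), ((-1 : ℤ), ![0,0,1,0,0,0,0,0,1]), ((1 : ℤ), ![0,0,0,0,0,0,1,0,1])],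
  [((-1 : ℤ), ![1,0,0,0,2,0,0,0,0]), ((1 : ℤ), ![0,2,0,0,0,0,0,1,0]), ((2 : ℤ), ![0,1,0,0,1,0,1,0,0]), ((-1 : ℤ), ![0,1,0,0,0,0,0,1,1]), ((1 : ℤ), ![0,0,0,1,0,0,2,0,0]), ((-1 : ℤ), ![0,0,0,0,1,0,1,0,1])],
  [((-1 : ℤ), ![1,0,0,0,1,0,0,0,1]), ((1 : ℤ), ![0,2,1,0,0,0,0,0,0]), ((-1 : ℤ), ![0,1,1,0,0,0,0,0,1]), ((1 : ℤ), ![0,1,0,0,0,0,1,0,1])]]
-- S(0,1): a=![0,1,0,0,0,1,0,0,0] b=![0,0,1,0,1,0,0,0,0]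
def certJ_0_1 : Fin 5 → List (ℤ × (Fin 9 → ℕ)) := ![[((1 : ℤ), ![0,0,1,1,0,0,0,0,0]), ((-1 : ℤ), ![0,0,0,0,1,0,0,0,1])],
  [((1 : ℤ), ![0,0,0,0,0,1,1,0,0]), ((-1 : ℤ), ![0,0,0,0,0,0,0,1,1])],
  [],
  [],
  []]
def aJ_0_1 : Fin 9 → ℕ := ![0,1,0,0,0,1,0,0,0]
def bJ_0_1 : Fin 9 → ℕ := ![0,0,1,0,1,0,0,0,0]
-- S(0,2): a=![1,0,0,0,0,1,0,0,0] b=![0,0,1,0,1,0,0,0,0]
def certJ_0_2 : Fin 5 → List (ℤ × (Fin 9 → ℕ)) := ![[((-1 : ℤ), ![0,1,1,0,0,0,0,0,0]), ((1 : ℤ), ![0,0,1,0,0,0,0,0,1]), ((-1 : ℤ), ![0,0,0,0,0,0,1,0,1])],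
  [],
  [((1 : ℤ), ![0,0,0,0,0,1,1,0,0]), ((-1 : ℤ), ![0,0,0,0,0,0,0,1,1])],
  [],
  []]
def aJ_0_2 : Fin 9 → ℕ := ![1,0,0,0,0,1,0,0,0]
def bJ_0_2 : Fin 9 → ℕ := ![0,0,1,0,1,0,0,0,0]
-- S(0,3): a=![1,0,0,1,0,0,0,1,0] b=![0,0,1,0,1,0,0,0,0]
def certJ_0_3 : Fin 5 → List (ℤ × (Fin 9 → ℕ)) := ![[((1 : ℤ), ![1,0,0,0,2,0,0,0,0]), ((-1 : ℤ), ![0,2,0,0,0,0,0,1,0]), ((-1 : ℤ), ![0,1,0,0,1,0,1,0,0]), ((1 : ℤ), ![0,1,0,0,0,0,0,1,1])],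
  [((1 : ℤ), ![0,1,0,0,0,0,1,1,0]), ((1 : ℤ), ![0,0,0,0,1,0,2,0,0]), ((-1 : ℤ), ![0,0,0,0,0,0,1,1,1])],
  [((1 : ℤ), ![0,0,0,1,0,0,1,1,0]), ((-1 : ℤ), ![0,0,0,0,2,0,1,0,0])],
  [((-1 : ℤ), ![0,0,0,0,0,0,0,1,1])],
  []]
def aJ_0_3 : Fin 9 → ℕ := ![1,0,0,1,0,0,0,1,0]
def bJ_0_3 : Fin 9 → ℕ := ![0,0,1,0,1,0,0,0,0]
-- S(0,4): a=![1,0,0,1,0,0,0,0,0] b=![0,0,0,0,1,0,0,0,0]
def certJ_0_4 : Fin 5 → List (ℤ × (Fin 9 → ℕ)) := ![[((-1 : ℤ), ![0,2,0,0,0,0,0,0,0]), ((1 : ℤ), ![0,1,0,0,0,0,0,0,1])],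
  [((1 : ℤ), ![0,1,0,0,0,0,1,0,0]), ((-1 : ℤ), ![0,0,0,0,0,0,1,0,1])],
  [((1 : ℤ), ![0,0,0,1,0,0,1,0,0])],
  [((-1 : ℤ), ![0,0,0,0,0,0,0,0,1])],
  []]
def aJ_0_4 : Fin 9 → ℕ := ![1,0,0,1,0,0,0,0,0]
def bJ_0_4 : Fin 9 → ℕ := ![0,0,0,0,1,0,0,0,0]
-- S(1,2): a=![1,0,0,0,0,0,0,0,0] b=![0,1,0,0,0,0,0,0,0]
def certJ_1_2 : Fin 5 → List (ℤ × (Fin 9 → ℕ)) := ![[],
  [],
  [],
  [],
  [((-1 : ℤ), ![0,0,0,0,0,0,0,0,0])]]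
def aJ_1_2 : Fin 9 → ℕ := ![1,0,0,0,0,0,0,0,0]
def bJ_1_2 : Fin 9 → ℕ := ![0,1,0,0,0,0,0,0,0]
-- S(1,3): a=![1,0,0,1,0,0,0,1,0] b=![0,1,0,0,0,1,0,0,0]
def certJ_1_3 : Fin 5 → List (ℤ × (Fin 9 → ℕ)) := ![[],
  [((1 : ℤ), ![1,0,0,0,2,0,0,0,0]), ((-1 : ℤ), ![0,2,0,0,0,0,0,1,0]), ((-2 : ℤ), ![0,1,0,0,1,0,1,0,0]), ((1 : ℤ), ![0,1,0,0,0,0,0,1,1]), ((-1 : ℤ), ![0,0,0,1,0,0,2,0,0]), ((1 : ℤ), ![0,0,0,0,1,0,1,0,1])],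
  [],
  [((-1 : ℤ), ![0,0,1,1,0,0,0,0,0]), ((1 : ℤ), ![0,0,0,0,1,0,0,0,1])],
  []]
def aJ_1_3 : Fin 9 → ℕ := ![1,0,0,1,0,0,0,1,0]
def bJ_1_3 : Fin 9 → ℕ := ![0,1,0,0,0,1,0,0,0]
-- S(1,4): a=![1,0,1,1,0,0,0,0,0] b=![0,1,0,0,0,1,0,0,0]
def certJ_1_4 : Fin 5 → List (ℤ × (Fin 9 → ℕ)) := ![[((1 : ℤ), ![1,0,0,1,0,0,0,0,1]), ((1 : ℤ), ![0,2,0,0,0,0,0,0,1]), ((-1 : ℤ), ![0,1,0,0,0,0,0,0,2])],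
  [((1 : ℤ), ![1,0,0,0,1,0,0,0,1]), ((-1 : ℤ), ![0,2,1,0,0,0,0,0,0]), ((1 : ℤ), ![0,1,1,0,0,0,0,0,1]), ((-2 : ℤ), ![0,1,0,0,0,0,1,0,1]), ((1 : ℤ), ![0,0,0,0,0,0,1,0,2])],
  [((-1 : ℤ), ![0,0,0,1,0,0,1,0,1])],
  [((1 : ℤ), ![0,0,0,0,0,0,0,0,2])],
  [((-1 : ℤ), ![0,0,1,1,0,0,0,0,0])]]
def aJ_1_4 : Fin 9 → ℕ := ![1,0,1,1,0,0,0,0,0]
def bJ_1_4 : Fin 9 → ℕ := ![0,1,0,0,0,1,0,0,0]
-- S(2,3): a=![0,0,0,1,0,0,0,1,0] b=![0,0,0,0,0,1,0,0,0]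
def certJ_2_3 : Fin 5 → List (ℤ × (Fin 9 → ℕ)) := ![[((-1 : ℤ), ![0,1,0,0,1,0,0,0,0]), ((-1 : ℤ), ![0,0,0,1,0,0,1,0,0]), ((1 : ℤ), ![0,0,0,0,1,0,0,0,1])],
  [((-1 : ℤ), ![0,1,0,0,0,0,0,1,0]), ((-1 : ℤ), ![0,0,0,0,1,0,1,0,0]), ((1 : ℤ), ![0,0,0,0,0,0,0,1,1])],
  [((1 : ℤ), ![0,0,0,0,2,0,0,0,0])],
  [],
  []]
def aJ_2_3 : Fin 9 → ℕ := ![0,0,0,1,0,0,0,1,0]
def bJ_2_3 : Fin 9 → ℕ := ![0,0,0,0,0,1,0,0,0]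
-- S(2,4): a=![0,0,1,1,0,0,0,0,0] b=![0,0,0,0,0,1,0,0,0]
def certJ_2_4 : Fin 5 → List (ℤ × (Fin 9 → ℕ)) := ![[],
  [((-1 : ℤ), ![0,1,1,0,0,0,0,0,0]), ((1 : ℤ), ![0,0,1,0,0,0,0,0,1]), ((-1 : ℤ), ![0,0,0,0,0,0,1,0,1])],
  [((1 : ℤ), ![0,0,0,0,1,0,0,0,1])],
  [],
  []]
def aJ_2_4 : Fin 9 → ℕ := ![0,0,1,1,0,0,0,0,0]
def bJ_2_4 : Fin 9 → ℕ := ![0,0,0,0,0,1,0,0,0]
-- S(3,4): a=![0,0,1,0,0,0,0,0,0] b=![0,0,0,0,0,0,0,1,0]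
def certJ_3_4 : Fin 5 → List (ℤ × (Fin 9 → ℕ)) := ![[((-1 : ℤ), ![1,0,0,0,1,0,0,0,0]), ((1 : ℤ), ![0,1,0,0,0,0,1,0,0])],
  [((-1 : ℤ), ![0,0,0,0,0,0,2,0,0])],
  [((1 : ℤ), ![0,0,0,0,1,0,1,0,0])],
  [],
  []]
def aJ_3_4 : Fin 9 → ℕ := ![0,0,1,0,0,0,0,0,0]
def bJ_3_4 : Fin 9 → ℕ := ![0,0,0,0,0,0,0,1,0]
-- Q1 = [1] +1
-- Q2 = [2] -1
-- Q3 = [0] -1
-- det = [0] +h ; [1] -f ; [3] -1

variable (R : Type*) [CommRing R]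

/-- the Gröbner basis elements -/
noncomputable def GJ (k : Fin 5) : MvPolynomial (Fin 9) R := tp R (((1 : ℤ), muJ k) :: tailJ k)

theorem GJ_0 : GJ R 0 = X 2 * X 4 + X 5 * X 6 - X 7 * X 8 := by
  simp [GJ, muJ, tailJ, monomial_E9]
  ring

theorem pairJ_0_1 : PairCert lexOrd.m (GJ R) (fun k => E (muJ k)) 0 1 := by
  refine mkPair lexOrd (GJ R) muJ 0 1 aJ_0_1 bJ_0_1 certJ_0_1 (by decide) (by decide) ?_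
    (by decide)
  simp [Fin.sum_univ_five, GJ, muJ, tailJ, certJ_0_1, aJ_0_1, bJ_0_1, monomial_E9, map_ofNat]
  ring

theorem pairJ_0_2 : PairCert lexOrd.m (GJ R) (fun k => E (muJ k)) 0 2 := by
  refine mkPair lexOrd (GJ R) muJ 0 2 aJ_0_2 bJ_0_2 certJ_0_2 (by decide) (by decide) ?_
    (by decide)
  simp [Fin.sum_univ_five, GJ, muJ, tailJ, certJ_0_2, aJ_0_2, bJ_0_2, monomial_E9, map_ofNat]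
  ring

theorem pairJ_0_3 : PairCert lexOrd.m (GJ R) (fun k => E (muJ k)) 0 3 := by
  refine mkPair lexOrd (GJ R) muJ 0 3 aJ_0_3 bJ_0_3 certJ_0_3 (by decide) (by decide) ?_
    (by decide)
  simp [Fin.sum_univ_five, GJ, muJ, tailJ, certJ_0_3, aJ_0_3, bJ_0_3, monomial_E9, map_ofNat]
  ring

theorem pairJ_0_4 : PairCert lexOrd.m (GJ R) (fun k => E (muJ k)) 0 4 := by
  refine mkPair lexOrd (GJ R) muJ 0 4 aJ_0_4 bJ_0_4 certJ_0_4 (by decide) (by decide) ?_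
    (by decide)
  simp [Fin.sum_univ_five, GJ, muJ, tailJ, certJ_0_4, aJ_0_4, bJ_0_4, monomial_E9, map_ofNat]
  ring

theorem pairJ_1_2 : PairCert lexOrd.m (GJ R) (fun k => E (muJ k)) 1 2 := by
  refine mkPair lexOrd (GJ R) muJ 1 2 aJ_1_2 bJ_1_2 certJ_1_2 (by decide) (by decide) ?_
    (by decide)
  simp [Fin.sum_univ_five, GJ, muJ, tailJ, certJ_1_2, aJ_1_2, bJ_1_2, monomial_E9, map_ofNat]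
  ring

theorem pairJ_1_3 : PairCert lexOrd.m (GJ R) (fun k => E (muJ k)) 1 3 := by
  refine mkPair lexOrd (GJ R) muJ 1 3 aJ_1_3 bJ_1_3 certJ_1_3 (by decide) (by decide) ?_
    (by decide)
  simp [Fin.sum_univ_five, GJ, muJ, tailJ, certJ_1_3, aJ_1_3, bJ_1_3, monomial_E9, map_ofNat]
  ring

theorem pairJ_1_4 : PairCert lexOrd.m (GJ R) (fun k => E (muJ k)) 1 4 := by
  refine mkPair lexOrd (GJ R) muJ 1 4 aJ_1_4 bJ_1_4 certJ_1_4 (by decide) (by decide) ?_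
    (by decide)
  simp [Fin.sum_univ_five, GJ, muJ, tailJ, certJ_1_4, aJ_1_4, bJ_1_4, monomial_E9, map_ofNat]
  ring

theorem pairJ_2_3 : PairCert lexOrd.m (GJ R) (fun k => E (muJ k)) 2 3 := by
  refine mkPair lexOrd (GJ R) muJ 2 3 aJ_2_3 bJ_2_3 certJ_2_3 (by decide) (by decide) ?_
    (by decide)
  simp [Fin.sum_univ_five, GJ, muJ, tailJ, certJ_2_3, aJ_2_3, bJ_2_3, monomial_E9, map_ofNat]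
  ring

theorem pairJ_2_4 : PairCert lexOrd.m (GJ R) (fun k => E (muJ k)) 2 4 := by
  refine mkPair lexOrd (GJ R) muJ 2 4 aJ_2_4 bJ_2_4 certJ_2_4 (by decide) (by decide) ?_
    (by decide)
  simp [Fin.sum_univ_five, GJ, muJ, tailJ, certJ_2_4, aJ_2_4, bJ_2_4, monomial_E9, map_ofNat]
  ring

theorem pairJ_3_4 : PairCert lexOrd.m (GJ R) (fun k => E (muJ k)) 3 4 := by
  refine mkPair lexOrd (GJ R) muJ 3 4 aJ_3_4 bJ_3_4 certJ_3_4 (by decide) (by decide) ?_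
    (by decide)
  simp [Fin.sum_univ_five, GJ, muJ, tailJ, certJ_3_4, aJ_3_4, bJ_3_4, monomial_E9, map_ofNat]
  ring

/-- the Gröbner basis of `J` -/
noncomputable def gbJ : GB lexOrd.m 5 R where
  G := GJ R
  μ := fun k => E (muJ k)
  r := fun k => tp R (tailJ k)
  hG := fun k => by simp [GJ]
  hr := fun k => support_tp_lt lexOrd (by revert k; decide)
  hS := by
    intro i j hij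
    fin_cases i <;> fin_cases j <;> first | exact absurd hij (by decide) | skip
    · exact pairJ_0_1 R
    · exact pairJ_0_2 R
    · exact pairJ_0_3 R
    · exact pairJ_0_4 R
    · exact pairJ_1_2 R
    · exact pairJ_1_3 R
    · exact pairJ_1_4 R
    · exact pairJ_2_3 R
    · exact pairJ_2_4 R
    · exact pairJ_3_4 R

end Groth.Agent.Lib.Helper91.Lie3GB
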