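import Mathlib
import Groth.Agent.Lib.Helper91.Lie3GB

/-!
# The ideals `I`, `J`, `L` of the moduli of based 3-dimensional Lie algebras, in adapted
coordinates (helper91)

Coordinates `X 0 .. X 8 = e, h, v2, g, i, v1, f, c, v3` where `v1 = a - i`, `v2 = b + f`,
`v3 = d + h`.
-/

namespace Groth.Agent.Lib.Helper91.Lie3Y

open MvPolynomial Groth.Agent.Lib.Helper91.Groebner Groth.Agent.Lib.Helper91.GroebnerFin9
open Groth.Agent.Lib.Helper91.Lie3GB

variable (R : Type*) [CommRing R]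

/-- the polynomial ring -/
abbrev P : Type _ := MvPolynomial (Fin 9) R

/-- `Q1 = h v1 - g v2 + i v3` -/
noncomputable def Q1Y : P R := X 1 * X 5 - X 3 * X 2 + X 4 * X 8
/-- `Q2 = - e v1 - h v2 - f v3 + v2 v3` -/
noncomputable def Q2Y : P R := -(X 0 * X 5) - X 1 * X 2 - X 6 * X 8 + X 2 * X 8
/-- `Q3 = - f v1 - i v2 + c v3` -/
noncomputable def Q3Y : P R := -(X 6 * X 5) - X 4 * X 2 + X 7 * X 8
/-- the determinant, with `b = v2 - f` -/
noncomputable def DY : P R :=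
  -(X 7 * X 1 ^ 2) + X 3 * (X 2 - X 6) * X 6 + X 0 * X 4 ^ 2 - X 3 * X 0 * X 7
    + X 1 * (X 2 - X 6) * X 4 - X 4 * X 1 * X 6

/-- `I` -/
noncomputable def IY : Ideal (P R) := Ideal.span {Q1Y R, Q2Y R, Q3Y R}
/-- `L` -/
noncomputable def LY : Ideal (P R) := Ideal.span {X 5, X 2, X 8}
/-- `J` -/
noncomputable def JY : Ideal (P R) := Ideal.span {Q1Y R, Q2Y R, Q3Y R, DY R}

theorem GJ_0 : GJ R 0 = X 2 * X 4 + X 5 * X 6 - X 7 * X 8 := by
  simp [GJ, muJ, tailJ, monomial_E9]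
  ring

theorem GJ_1 : GJ R 1 = X 1 * X 5 - X 2 * X 3 + X 4 * X 8 := by
  simp [GJ, muJ, tailJ, monomial_E9]
  ring

theorem GJ_2 : GJ R 2 = X 0 * X 5 + X 1 * X 2 - X 2 * X 8 + X 6 * X 8 := by
  simp [GJ, muJ, tailJ, monomial_E9]
  ring

theorem GJ_3 : GJ R 3 = X 0 * X 3 * X 7 - X 0 * X 4 ^ 2 + X 1 ^ 2 * X 7 + 2 * X 1 * X 4 * X 6
    - X 1 * X 7 * X 8 + X 3 * X 6 ^ 2 - X 4 * X 6 * X 8 := by
  simp [GJ, muJ, tailJ, monomial_E9, map_ofNat]
  ring

theorem GJ_4 : GJ R 4 = X 0 * X 2 * X 3 - X 0 * X 4 * X 8 + X 1 ^ 2 * X 2 - X 1 * X 2 * X 8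
    + X 1 * X 6 * X 8 := by
  simp [GJ, muJ, tailJ, monomial_E9]
  ring

theorem Q1Y_mem_JY : Q1Y R ∈ JY R := Ideal.subset_span (by simp)
theorem Q2Y_mem_JY : Q2Y R ∈ JY R := Ideal.subset_span (by simp)
theorem Q3Y_mem_JY : Q3Y R ∈ JY R := Ideal.subset_span (by simp)
theorem DY_mem_JY : DY R ∈ JY R := Ideal.subset_span (by simp)
theorem Q1Y_mem_IY : Q1Y R ∈ IY R := Ideal.subset_span (by simp)
theorem Q2Y_mem_IY : Q2Y R ∈ IY R := Ideal.subset_span (by simp)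
theorem Q3Y_mem_IY : Q3Y R ∈ IY R := Ideal.subset_span (by simp)
theorem X5_mem_LY : (X 5 : P R) ∈ LY R := Ideal.subset_span (by simp)
theorem X2_mem_LY : (X 2 : P R) ∈ LY R := Ideal.subset_span (by simp)
theorem X8_mem_LY : (X 8 : P R) ∈ LY R := Ideal.subset_span (by simp)

theorem gbJ_ideal : (gbJ R).ideal = JY R := by
  apply le_antisymm
  · apply Ideal.span_le.mpr
    rintro _ ⟨k, rfl⟩
    show GJ R k ∈ JY R
    fin_cases k
    · have : GJ R 0 = - Q3Y R := by rw [GJ_0, Q3Y]; ring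
      show GJ R 0 ∈ JY R
      rw [this]; exact neg_mem (Q3Y_mem_JY R)
    · have : GJ R 1 = Q1Y R := by rw [GJ_1, Q1Y]; ring
      show GJ R 1 ∈ JY R
      rw [this]; exact Q1Y_mem_JY R
    · have : GJ R 2 = - Q2Y R := by rw [GJ_2, Q2Y]; ring
      show GJ R 2 ∈ JY R
      rw [this]; exact neg_mem (Q2Y_mem_JY R)
    · have : GJ R 3 = -(X 1 * Q3Y R) - X 6 * Q1Y R - DY R := by
        rw [GJ_3, Q3Y, Q1Y, DY]; ring
      show GJ R 3 ∈ JY R
      rw [this]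
      exact sub_mem (sub_mem (neg_mem (Ideal.mul_mem_left _ _ (Q3Y_mem_JY R)))
        (Ideal.mul_mem_left _ _ (Q1Y_mem_JY R))) (DY_mem_JY R)
    · have : GJ R 4 = -(X 1 * Q2Y R) - X 0 * Q1Y R := by
        rw [GJ_4, Q2Y, Q1Y]; ring
      show GJ R 4 ∈ JY R
      rw [this]
      exact sub_mem (neg_mem (Ideal.mul_mem_left _ _ (Q2Y_mem_JY R)))
        (Ideal.mul_mem_left _ _ (Q1Y_mem_JY R))
  · apply Ideal.span_le.mpr
    intro x hx
    simp only [Set.mem_insert_iff, Set.mem_singleton_iff] at hx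
    rcases hx with rfl | rfl | rfl | rfl
    · have : Q1Y R = GJ R 1 := by rw [GJ_1, Q1Y]; ring
      rw [this]; exact (gbJ R).G_mem 1
    · have : Q2Y R = - GJ R 2 := by rw [GJ_2, Q2Y]; ring
      rw [this]; exact neg_mem ((gbJ R).G_mem 2)
    · have : Q3Y R = - GJ R 0 := by rw [GJ_0, Q3Y]; ring
      rw [this]; exact neg_mem ((gbJ R).G_mem 0)
    · have : DY R = X 1 * GJ R 0 - X 6 * GJ R 1 - GJ R 3 := by
        rw [GJ_0, GJ_1, GJ_3, DY]; ring
      rw [this]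
      exact sub_mem (sub_mem (Ideal.mul_mem_left _ _ ((gbJ R).G_mem 0))
        (Ideal.mul_mem_left _ _ ((gbJ R).G_mem 1))) ((gbJ R).G_mem 3)

/-- **F2**: `v3` is a nonzerodivisor modulo `J`. -/
theorem X8_mul_mem_JY {p : P R} (hp : X 8 * p ∈ JY R) : p ∈ JY R := by
  rw [← gbJ_ideal] at hp ⊢
  refine ((gbJ R).X_mul_mem_iff (s := 8) ?_).mp hp
  intro k
  show muJ k 8 = 0
  revert k; decide

/-- **F3**: regular constants are nonzerodivisors modulo `J`. -/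
theorem C_mul_mem_JY {c : R} (hc : ∀ x : R, c * x = 0 → x = 0) {p : P R}
    (hp : C c * p ∈ JY R) : p ∈ JY R := by
  rw [← gbJ_ideal] at hp ⊢
  exact ((gbJ R).C_mul_mem_iff hc).mp hp

/-- leading exponent vectors of `v1, v2, v3` -/
def muL : Fin 3 → (Fin 9 → ℕ) :=
  ![![0,0,0,0,0,1,0,0,0], ![0,0,1,0,0,0,0,0,0], ![0,0,0,0,0,0,0,0,1]]

/-- the generators of `L` -/
noncomputable def GLin (k : Fin 3) : P R := tp R [((1 : ℤ), muL k)]

/-- the Gröbner basis of `L` -/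
noncomputable def gbL : GB lexOrd.m 3 R :=
  ofCoprime lexOrd.m (GLin R) (fun _ => 0) (fun k => E (muL k)) (by intro k; simp [GLin])
    (by intro k ν hν; simp at hν)
    (by
      intro i j hij s
      show muL i s = 0 ∨ muL j s = 0
      revert i j s; decide)

theorem GLin_0 : GLin R 0 = X 5 := by simp [GLin, muL, monomial_E9]
theorem GLin_1 : GLin R 1 = X 2 := by simp [GLin, muL, monomial_E9]
theorem GLin_2 : GLin R 2 = X 8 := by simp [GLin, muL, monomial_E9]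

theorem gbL_ideal : (gbL R).ideal = LY R := by
  apply le_antisymm
  · apply Ideal.span_le.mpr
    rintro _ ⟨k, rfl⟩
    show GLin R k ∈ LY R
    fin_cases k
    · show GLin R 0 ∈ LY R
      rw [GLin_0]; exact X5_mem_LY R
    · show GLin R 1 ∈ LY R
      rw [GLin_1]; exact X2_mem_LY R
    · show GLin R 2 ∈ LY R
      rw [GLin_2]; exact X8_mem_LY R
  · apply Ideal.span_le.mpr
    intro x hx
    simp only [Set.mem_insert_iff, Set.mem_singleton_iff] at hx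
    rcases hx with rfl | rfl | rfl
    · rw [← GLin_0]; exact (gbL R).G_mem 0
    · rw [← GLin_1]; exact (gbL R).G_mem 1
    · rw [← GLin_2]; exact (gbL R).G_mem 2

theorem GJ0_mem_LY : GJ R 0 ∈ LY R := by
  rw [GJ_0]
  exact sub_mem (add_mem (Ideal.mul_mem_right _ _ (X2_mem_LY R))
    (Ideal.mul_mem_right _ _ (X5_mem_LY R))) (Ideal.mul_mem_left _ _ (X8_mem_LY R))

theorem GJ1_mem_LY : GJ R 1 ∈ LY R := by
  rw [GJ_1]
  exact add_mem (sub_mem (Ideal.mul_mem_left _ _ (X5_mem_LY R))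
    (Ideal.mul_mem_right _ _ (X2_mem_LY R))) (Ideal.mul_mem_left _ _ (X8_mem_LY R))

/-- **F1**: the determinant is a nonzerodivisor modulo `L`. -/
theorem DY_mul_mem_LY {p : P R} (hp : DY R * p ∈ LY R) : p ∈ LY R := by
  have key : GJ R 3 * p ∈ (gbL R).ideal ↔ p ∈ (gbL R).ideal :=
    (gbL R).mul_mem_iff_of_coprime (g := GJ R 3) (r := tp R (tailJ 3)) (ν := E (muJ 3))
      ((gbJ R).hG 3) ((gbJ R).hr 3)
      (by
        intro k s
        show muL k s = 0 ∨ muJ 3 s = 0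
        revert k s; decide)
  rw [gbL_ideal] at key
  apply key.mp
  have e : GJ R 3 * p = X 1 * p * GJ R 0 - X 6 * p * GJ R 1 - DY R * p := by
    rw [GJ_0, GJ_1, GJ_3, DY]; ring
  rw [e]
  exact sub_mem (sub_mem (Ideal.mul_mem_left _ _ (GJ0_mem_LY R))
    (Ideal.mul_mem_left _ _ (GJ1_mem_LY R))) hp

theorem IY_le_LY : IY R ≤ LY R := by
  apply Ideal.span_le.mpr
  intro x hx
  simp only [Set.mem_insert_iff, Set.mem_singleton_iff] at hx
  rcases hx with rfl | rfl | rfl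
  · exact add_mem (sub_mem (Ideal.mul_mem_left _ _ (X5_mem_LY R))
      (Ideal.mul_mem_left _ _ (X2_mem_LY R))) (Ideal.mul_mem_left _ _ (X8_mem_LY R))
  · exact add_mem (sub_mem (sub_mem (neg_mem (Ideal.mul_mem_left _ _ (X5_mem_LY R)))
      (Ideal.mul_mem_left _ _ (X2_mem_LY R))) (Ideal.mul_mem_left _ _ (X8_mem_LY R)))
      (Ideal.mul_mem_left _ _ (X8_mem_LY R))
  · exact add_mem (sub_mem (neg_mem (Ideal.mul_mem_left _ _ (X5_mem_LY R)))
      (Ideal.mul_mem_left _ _ (X2_mem_LY R))) (Ideal.mul_mem_left _ _ (X8_mem_LY R))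

/-- regular constants are nonzerodivisors modulo `L`. -/
theorem C_mul_mem_LY {c : R} (hc : ∀ x : R, c * x = 0 → x = 0) {p : P R}
    (hp : C c * p ∈ LY R) : p ∈ LY R := by
  rw [← gbL_ideal] at hp ⊢
  exact ((gbL R).C_mul_mem_iff hc).mp hp

/-- Cramer's rule -/
theorem DY_mul_X5 : DY R * X 5 = (-(X 1 * X 7) + (X 2 - X 6) * X 4) * Q1Y R
    + (X 3 * X 7 - X 4 ^ 2) * Q2Y R + (-(X 3 * (X 2 - X 6)) + X 4 * X 1) * Q3Y R := by
  rw [DY, Q1Y, Q2Y, Q3Y]; ring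

theorem DY_mul_X2 : DY R * X 2 = (X 0 * X 7 - (X 2 - X 6) * X 6) * Q1Y R
    + (X 1 * X 7 + X 4 * X 6) * Q2Y R + (-(X 1 * (X 2 - X 6) + X 4 * X 0)) * Q3Y R := by
  rw [DY, Q1Y, Q2Y, Q3Y]; ring

theorem DY_mul_X8 : DY R * X 8 = (X 0 * X 4 - X 1 * X 6) * Q1Y R
    + (X 1 * X 4 + X 3 * X 6) * Q2Y R + (-(X 1 ^ 2) - X 3 * X 0) * Q3Y R := by
  rw [DY, Q1Y, Q2Y, Q3Y]; ring

theorem DY_mul_X5_mem : DY R * X 5 ∈ IY R := by
  rw [DY_mul_X5]
  exact add_mem (add_mem (Ideal.mul_mem_left _ _ (Q1Y_mem_IY R))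
    (Ideal.mul_mem_left _ _ (Q2Y_mem_IY R))) (Ideal.mul_mem_left _ _ (Q3Y_mem_IY R))

theorem DY_mul_X2_mem : DY R * X 2 ∈ IY R := by
  rw [DY_mul_X2]
  exact add_mem (add_mem (Ideal.mul_mem_left _ _ (Q1Y_mem_IY R))
    (Ideal.mul_mem_left _ _ (Q2Y_mem_IY R))) (Ideal.mul_mem_left _ _ (Q3Y_mem_IY R))

theorem DY_mul_X8_mem : DY R * X 8 ∈ IY R := by
  rw [DY_mul_X8]
  exact add_mem (add_mem (Ideal.mul_mem_left _ _ (Q1Y_mem_IY R))
    (Ideal.mul_mem_left _ _ (Q2Y_mem_IY R))) (Ideal.mul_mem_left _ _ (Q3Y_mem_IY R))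

theorem IY_le_JY : IY R ≤ JY R := by
  apply Ideal.span_mono
  intro x hx
  simp only [Set.mem_insert_iff, Set.mem_singleton_iff] at hx ⊢
  tauto

theorem X8_pow_mul_mem_JY (N : ℕ) {p : P R} (hp : X 8 ^ N * p ∈ JY R) : p ∈ JY R := by
  induction N with
  | zero => simpa using hp
  | succ N ih =>
    apply ih
    apply X8_mul_mem_JY
    have : X 8 * (X 8 ^ N * p) = X 8 ^ (N + 1) * p := by ring
    rw [this]; exact hp

/-- kill `v1, v2, v3` -/
noncomputable def piL : P R →ₐ[R] P R :=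
  aeval (fun k : Fin 9 => if k = 5 ∨ k = 2 ∨ k = 8 then (0 : P R) else X k)

theorem sub_piL_mem (p : P R) : p - piL R p ∈ LY R := by
  induction p using MvPolynomial.induction_on with
  | C a => simp [piL]
  | add p q hp hq =>
    rw [map_add]
    have : p + q - (piL R p + piL R q) = (p - piL R p) + (q - piL R q) := by ring
    rw [this]; exact add_mem hp hq
  | mul_X p k hp =>
    rw [map_mul]
    have : p * X k - piL R p * piL R (X k)
        = (p - piL R p) * X k + piL R p * (X k - piL R (X k)) := by ring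
    rw [this]
    refine add_mem (Ideal.mul_mem_right _ _ hp) (Ideal.mul_mem_left _ _ ?_)
    simp only [piL, aeval_X]
    split_ifs with h
    · rw [sub_zero]
      rcases h with rfl | rfl | rfl
      · exact X5_mem_LY R
      · exact X2_mem_LY R
      · exact X8_mem_LY R
    · rw [sub_self]; exact zero_mem _

theorem LY_eq_ker : LY R = RingHom.ker (piL R).toRingHom := by
  apply le_antisymm
  · apply Ideal.span_le.mpr
    intro x hx
    simp only [Set.mem_insert_iff, Set.mem_singleton_iff] at hx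
    rcases hx with rfl | rfl | rfl <;> simp [RingHom.mem_ker, piL]
  · intro p hp
    have h0 : piL R p = 0 := hp
    have := sub_piL_mem R p
    rwa [h0, sub_zero] at this

theorem LY_isPrime [IsDomain R] : (LY R).IsPrime := by
  rw [LY_eq_ker]
  exact RingHom.ker_isPrime _

section prime

variable [IsDomain R]

/-- the inclusion into the fraction field -/
noncomputable def ι : P R →+* FractionRing (P R) := algebraMap _ _

theorem ι_inj : Function.Injective (ι R) := IsFractionRing.injective (P R) (FractionRing (P R))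

theorem ιX8_ne : ι R (X 8) ≠ 0 := by
  intro h
  have := ι_inj R (h.trans (map_zero _).symm)
  exact X_ne_zero (8 : Fin 9) this

/-- image of `i` -/
noncomputable def i' : FractionRing (P R) :=
  (ι R (X 3) * ι R (X 2) - ι R (X 1) * ι R (X 5)) / ι R (X 8)
/-- image of `f` -/
noncomputable def f' : FractionRing (P R) :=
  ι R (X 2) - (ι R (X 0) * ι R (X 5) + ι R (X 1) * ι R (X 2)) / ι R (X 8)
/-- image of `c` -/
noncomputable def c' : FractionRing (P R) :=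
  (f' R * ι R (X 5) + i' R * ι R (X 2)) / ι R (X 8)

/-- the parametrisation of the component `V(J)` over `v3 ≠ 0` -/
noncomputable def σ3 : P R →+* FractionRing (P R) :=
  eval₂Hom ((ι R).comp C)
    ![ι R (X 0), ι R (X 1), ι R (X 2), ι R (X 3), i' R, ι R (X 5), f' R, c' R, ι R (X 8)]

theorem σ3_C (a : R) : σ3 R (C a) = ι R (C a) := by simp [σ3]
theorem σ3_X0 : σ3 R (X 0) = ι R (X 0) := by simp [σ3]
theorem σ3_X1 : σ3 R (X 1) = ι R (X 1) := by simp [σ3]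
theorem σ3_X2 : σ3 R (X 2) = ι R (X 2) := by simp [σ3]
theorem σ3_X3 : σ3 R (X 3) = ι R (X 3) := by simp [σ3]
theorem σ3_X4 : σ3 R (X 4) = i' R := by simp [σ3]
theorem σ3_X5 : σ3 R (X 5) = ι R (X 5) := by simp [σ3]
theorem σ3_X6 : σ3 R (X 6) = f' R := by simp [σ3]
theorem σ3_X7 : σ3 R (X 7) = c' R := by simp [σ3]
theorem σ3_X8 : σ3 R (X 8) = ι R (X 8) := by simp [σ3]

theorem witness_X (k : Fin 9) : ∃ (N : ℕ) (q : P R),
    ι R q = ι R (X 8) ^ N * σ3 R (X k) ∧ X 8 ^ N * X k - q ∈ IY R := by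
  have h8 := ιX8_ne R
  fin_cases k
  · exact ⟨0, X 0, by simp [σ3_X0], by simp⟩
  · exact ⟨0, X 1, by simp [σ3_X1], by simp⟩
  · exact ⟨0, X 2, by simp [σ3_X2], by simp⟩
  · exact ⟨0, X 3, by simp [σ3_X3], by simp⟩
  · refine ⟨1, X 3 * X 2 - X 1 * X 5, ?_, ?_⟩
    · show ι R (X 3 * X 2 - X 1 * X 5) = ι R (X 8) ^ 1 * σ3 R (X 4)
      rw [σ3_X4, i', map_sub, map_mul, map_mul]
      field_simp
    · have : (X 8 ^ 1 * X 4 - (X 3 * X 2 - X 1 * X 5) : P R) = Q1Y R := by rw [Q1Y]; ring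
      show (X 8 ^ 1 * X 4 - (X 3 * X 2 - X 1 * X 5) : P R) ∈ IY R
      rw [this]; exact Q1Y_mem_IY R
  · exact ⟨0, X 5, by simp [σ3_X5], by simp⟩
  · refine ⟨1, X 2 * X 8 - X 0 * X 5 - X 1 * X 2, ?_, ?_⟩
    · show ι R (X 2 * X 8 - X 0 * X 5 - X 1 * X 2) = ι R (X 8) ^ 1 * σ3 R (X 6)
      rw [σ3_X6, f', map_sub, map_sub, map_mul, map_mul, map_mul]
      field_simp
      ring
    · have : (X 8 ^ 1 * X 6 - (X 2 * X 8 - X 0 * X 5 - X 1 * X 2) : P R) = - Q2Y R := by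
        rw [Q2Y]; ring
      show (X 8 ^ 1 * X 6 - (X 2 * X 8 - X 0 * X 5 - X 1 * X 2) : P R) ∈ IY R
      rw [this]; exact neg_mem (Q2Y_mem_IY R)
  · refine ⟨2, (X 2 * X 8 - X 0 * X 5 - X 1 * X 2) * X 5 + (X 3 * X 2 - X 1 * X 5) * X 2, ?_, ?_⟩
    · show ι R ((X 2 * X 8 - X 0 * X 5 - X 1 * X 2) * X 5 + (X 3 * X 2 - X 1 * X 5) * X 2)
        = ι R (X 8) ^ 2 * σ3 R (X 7)
      rw [σ3_X7, c', f', i']
      simp only [map_sub, map_mul, map_add]
      field_simp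
      ring
    · have : (X 8 ^ 2 * X 7 - ((X 2 * X 8 - X 0 * X 5 - X 1 * X 2) * X 5
          + (X 3 * X 2 - X 1 * X 5) * X 2) : P R)
          = X 8 * Q3Y R - X 5 * Q2Y R + X 2 * Q1Y R := by
        rw [Q1Y, Q2Y, Q3Y]; ring
      show (X 8 ^ 2 * X 7 - ((X 2 * X 8 - X 0 * X 5 - X 1 * X 2) * X 5
          + (X 3 * X 2 - X 1 * X 5) * X 2) : P R) ∈ IY R
      rw [this]
      exact add_mem (sub_mem (Ideal.mul_mem_left _ _ (Q3Y_mem_IY R))
        (Ideal.mul_mem_left _ _ (Q2Y_mem_IY R))) (Ideal.mul_mem_left _ _ (Q1Y_mem_IY R))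
  · exact ⟨0, X 8, by simp [σ3_X8], by simp⟩

theorem witness (p : P R) : ∃ (N : ℕ) (q : P R),
    ι R q = ι R (X 8) ^ N * σ3 R p ∧ X 8 ^ N * p - q ∈ IY R := by
  induction p using MvPolynomial.induction_on with
  | C a => exact ⟨0, C a, by simp [σ3_C], by simp⟩
  | add p q hp hq =>
    obtain ⟨N1, q1, h1, h1'⟩ := hp
    obtain ⟨N2, q2, h2, h2'⟩ := hq
    refine ⟨N1 + N2, X 8 ^ N2 * q1 + X 8 ^ N1 * q2, ?_, ?_⟩
    · rw [map_add, map_mul, map_mul, map_pow, map_pow, h1, h2, map_add]; ring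
    · have : X 8 ^ (N1 + N2) * (p + q) - (X 8 ^ N2 * q1 + X 8 ^ N1 * q2)
          = X 8 ^ N2 * (X 8 ^ N1 * p - q1) + X 8 ^ N1 * (X 8 ^ N2 * q - q2) := by ring
      rw [this]
      exact add_mem (Ideal.mul_mem_left _ _ h1') (Ideal.mul_mem_left _ _ h2')
  | mul_X p k hp =>
    obtain ⟨N1, q1, h1, h1'⟩ := hp
    obtain ⟨N2, q2, h2, h2'⟩ := witness_X R k
    refine ⟨N1 + N2, q1 * q2, ?_, ?_⟩
    · rw [map_mul, h1, h2, map_mul]; ring
    · have : X 8 ^ (N1 + N2) * (p * X k) - q1 * q2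
          = X 8 ^ N1 * p * (X 8 ^ N2 * X k - q2) + q2 * (X 8 ^ N1 * p - q1) := by ring
      rw [this]
      exact add_mem (Ideal.mul_mem_left _ _ h2') (Ideal.mul_mem_left _ _ h1')

theorem σ3_Q1Y : σ3 R (Q1Y R) = 0 := by
  have h8 := ιX8_ne R
  simp only [Q1Y, map_sub, map_add, map_mul, σ3_X1, σ3_X5, σ3_X3, σ3_X2, σ3_X4, σ3_X8, i']
  field_simp
  ring

theorem σ3_Q2Y : σ3 R (Q2Y R) = 0 := by
  have h8 := ιX8_ne R
  simp only [Q2Y, map_sub, map_add, map_neg, map_mul, σ3_X0, σ3_X1, σ3_X5, σ3_X2, σ3_X6, σ3_X8,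
    f']
  field_simp
  ring

theorem σ3_Q3Y : σ3 R (Q3Y R) = 0 := by
  have h8 := ιX8_ne R
  simp only [Q3Y, map_sub, map_add, map_neg, map_mul, σ3_X4, σ3_X5, σ3_X2, σ3_X6, σ3_X7, σ3_X8,
    c']
  field_simp
  ring

theorem IY_le_ker : IY R ≤ RingHom.ker (σ3 R) := by
  apply Ideal.span_le.mpr
  intro x hx
  simp only [Set.mem_insert_iff, Set.mem_singleton_iff] at hx
  rcases hx with rfl | rfl | rfl
  · exact σ3_Q1Y R
  · exact σ3_Q2Y R
  · exact σ3_Q3Y R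

theorem σ3_DY : σ3 R (DY R) = 0 := by
  have h : σ3 R (DY R * X 8) = 0 := IY_le_ker R (DY_mul_X8_mem R)
  rw [map_mul, σ3_X8] at h
  rcases mul_eq_zero.mp h with h | h
  · exact h
  · exact absurd h (ιX8_ne R)

theorem JY_eq_ker : JY R = RingHom.ker (σ3 R) := by
  apply le_antisymm
  · apply Ideal.span_le.mpr
    intro x hx
    simp only [Set.mem_insert_iff, Set.mem_singleton_iff] at hx
    rcases hx with rfl | rfl | rfl | rfl
    · exact σ3_Q1Y R
    · exact σ3_Q2Y R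
    · exact σ3_Q3Y R
    · exact σ3_DY R
  · intro p hp
    have hp0 : σ3 R p = 0 := hp
    obtain ⟨N, q, h1, h2⟩ := witness R p
    rw [hp0, mul_zero] at h1
    have hq : q = 0 := ι_inj R (h1.trans (map_zero _).symm)
    rw [hq, sub_zero] at h2
    exact X8_pow_mul_mem_JY R N (IY_le_JY R h2)

/-- **`J` is prime over every domain.** -/
theorem JY_isPrime : (JY R).IsPrime := by
  rw [JY_eq_ker]
  exact RingHom.ker_isPrime _

end prime

end Groth.Agent.Lib.Helper91.Lie3Y
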