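import Mathlib
import Groth.Prelude.Def_W4c1bouilletffgsL3
import Groth.Agent.Lib.Helper91.Lie3Y

/-!
# The ideals `I`, `J`, `L` of the moduli of based 3-dimensional Lie algebras (helper91)

Transfer from the adapted coordinates of `Lie3Y` and the ideal-theoretic consequences.
-/

namespace Groth.Agent.Lib.Helper91.Lie3D

open MvPolynomial Lie3Mod Groth.Agent.Lib.Helper91.Lie3Y

variable (A : Type*) [CommRing A]

/-- to adapted coordinates -/
noncomputable def toY : D A →ₐ[A] P A :=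
  aeval ![X 5 + X 4, X 2 - X 6, X 7, X 8 - X 1, X 0, X 6, X 3, X 1, X 4]

/-- back -/
noncomputable def ofY : P A →ₐ[A] D A :=
  aeval ![X 4, X 7, X 1 + X 5, X 6, X 8, X 0 - X 8, X 5, X 2, X 3 + X 7]

theorem ofY_toY (p : D A) : ofY A (toY A p) = p := by
  have : (ofY A).comp (toY A) = AlgHom.id A _ := by
    apply algHom_ext
    intro k
    fin_cases k <;> simp [toY, ofY]
  exact AlgHom.congr_fun this p

theorem toY_ofY (p : P A) : toY A (ofY A p) = p := by
  have : (toY A).comp (ofY A) = AlgHom.id A _ := by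
    apply algHom_ext
    intro k
    fin_cases k <;> simp [toY, ofY]
  exact AlgHom.congr_fun this p

theorem toY_Q1 : toY A (Q1 A) = Q1Y A := by
  simp [Q1, Q1Y, toY]; ring
theorem toY_Q2 : toY A (Q2 A) = Q2Y A := by
  simp [Q2, Q2Y, toY]; ring
theorem toY_Q3 : toY A (Q3 A) = Q3Y A := by
  simp [Q3, Q3Y, toY]; ring
theorem toY_detM : toY A (detM A) = DY A := by
  simp [detM, DY, toY]
theorem toY_L1 : toY A (L1 A) = X 5 := by
  simp [L1, toY]
theorem toY_L2 : toY A (L2 A) = X 2 := by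
  simp [L2, toY]
theorem toY_L3 : toY A (L3 A) = X 8 := by
  simp [L3, toY]

theorem span_eq_comap {S : Set (D A)} {T : Set (P A)}
    (h1 : ∀ s ∈ S, toY A s ∈ Ideal.span T) (h2 : ∀ t ∈ T, ∃ s ∈ Ideal.span S, toY A s = t) :
    Ideal.span S = Ideal.comap (toY A) (Ideal.span T) := by
  apply le_antisymm
  · exact Ideal.span_le.mpr fun s hs => Ideal.mem_comap.mpr (h1 s hs)
  · intro p hp
    have hp' : toY A p ∈ Ideal.span T := Ideal.mem_comap.mp hp
    have h : ∀ q ∈ Ideal.span T, ofY A q ∈ Ideal.span S := by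
      intro q hq
      induction hq using Submodule.span_induction with
      | mem t ht =>
        obtain ⟨s, hs, hst⟩ := h2 t ht
        rw [← hst, ofY_toY]; exact hs
      | zero => rw [map_zero]; exact zero_mem _
      | add x y _ _ hx hy => rw [map_add]; exact add_mem hx hy
      | smul a x _ hx => rw [smul_eq_mul, map_mul]; exact Ideal.mul_mem_left _ _ hx
    have := h _ hp'
    rwa [ofY_toY] at this

theorem idI_eq : idI A = Ideal.comap (toY A) (IY A) := by
  apply span_eq_comap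
  · intro s hs
    simp only [Set.mem_insert_iff, Set.mem_singleton_iff] at hs
    rcases hs with rfl | rfl | rfl
    · rw [toY_Q1]; exact Q1Y_mem_IY A
    · rw [toY_Q2]; exact Q2Y_mem_IY A
    · rw [toY_Q3]; exact Q3Y_mem_IY A
  · intro t ht
    simp only [Set.mem_insert_iff, Set.mem_singleton_iff] at ht
    rcases ht with rfl | rfl | rfl
    · exact ⟨Q1 A, Ideal.subset_span (by simp), toY_Q1 A⟩
    · exact ⟨Q2 A, Ideal.subset_span (by simp), toY_Q2 A⟩
    · exact ⟨Q3 A, Ideal.subset_span (by simp), toY_Q3 A⟩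

theorem idJ_eq : idJ A = Ideal.comap (toY A) (JY A) := by
  apply span_eq_comap
  · intro s hs
    simp only [Set.mem_insert_iff, Set.mem_singleton_iff] at hs
    rcases hs with rfl | rfl | rfl | rfl
    · rw [toY_Q1]; exact Q1Y_mem_JY A
    · rw [toY_Q2]; exact Q2Y_mem_JY A
    · rw [toY_Q3]; exact Q3Y_mem_JY A
    · rw [toY_detM]; exact DY_mem_JY A
  · intro t ht
    simp only [Set.mem_insert_iff, Set.mem_singleton_iff] at ht
    rcases ht with rfl | rfl | rfl | rfl
    · exact ⟨Q1 A, Ideal.subset_span (by simp), toY_Q1 A⟩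
    · exact ⟨Q2 A, Ideal.subset_span (by simp), toY_Q2 A⟩
    · exact ⟨Q3 A, Ideal.subset_span (by simp), toY_Q3 A⟩
    · exact ⟨detM A, Ideal.subset_span (by simp), toY_detM A⟩

theorem idL_eq : idL A = Ideal.comap (toY A) (LY A) := by
  apply span_eq_comap
  · intro s hs
    simp only [Set.mem_insert_iff, Set.mem_singleton_iff] at hs
    rcases hs with rfl | rfl | rfl
    · rw [toY_L1]; exact X5_mem_LY A
    · rw [toY_L2]; exact X2_mem_LY A
    · rw [toY_L3]; exact X8_mem_LY A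
  · intro t ht
    simp only [Set.mem_insert_iff, Set.mem_singleton_iff] at ht
    rcases ht with rfl | rfl | rfl
    · exact ⟨L1 A, Ideal.subset_span (by simp), toY_L1 A⟩
    · exact ⟨L2 A, Ideal.subset_span (by simp), toY_L2 A⟩
    · exact ⟨L3 A, Ideal.subset_span (by simp), toY_L3 A⟩

/-! ### The transferred facts -/

/-- **F1** -/
theorem detM_mul_mem_idL {p : D A} (hp : detM A * p ∈ idL A) : p ∈ idL A := by
  rw [idL_eq, Ideal.mem_comap] at hp ⊢
  rw [map_mul, toY_detM] at hp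
  exact DY_mul_mem_LY A hp

/-- **F2** -/
theorem L3_mul_mem_idJ {p : D A} (hp : L3 A * p ∈ idJ A) : p ∈ idJ A := by
  rw [idJ_eq, Ideal.mem_comap] at hp ⊢
  rw [map_mul, toY_L3] at hp
  exact X8_mul_mem_JY A hp

/-- **F3** -/
theorem C_mul_mem_idJ {c : A} (hc : ∀ x : A, c * x = 0 → x = 0) {p : D A}
    (hp : C c * p ∈ idJ A) : p ∈ idJ A := by
  rw [idJ_eq, Ideal.mem_comap] at hp ⊢
  have : toY A (C c) = C c := by simp [toY]
  rw [map_mul, this] at hp
  exact C_mul_mem_JY A hc hp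

theorem idJ_isPrime [IsDomain A] : (idJ A).IsPrime := by
  rw [idJ_eq]
  have := JY_isPrime A
  exact Ideal.comap_isPrime _ _

theorem idL_isPrime [IsDomain A] : (idL A).IsPrime := by
  rw [idL_eq]
  have := LY_isPrime A
  exact Ideal.comap_isPrime _ _

theorem detM_mul_L1_mem : detM A * L1 A ∈ idI A := by
  rw [idI_eq, Ideal.mem_comap, map_mul, toY_detM, toY_L1]; exact DY_mul_X5_mem A
theorem detM_mul_L2_mem : detM A * L2 A ∈ idI A := by
  rw [idI_eq, Ideal.mem_comap, map_mul, toY_detM, toY_L2]; exact DY_mul_X2_mem A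
theorem detM_mul_L3_mem : detM A * L3 A ∈ idI A := by
  rw [idI_eq, Ideal.mem_comap, map_mul, toY_detM, toY_L3]; exact DY_mul_X8_mem A

theorem C_mul_mem_idL {c : A} (hc : ∀ x : A, c * x = 0 → x = 0) {p : D A}
    (hp : C c * p ∈ idL A) : p ∈ idL A := by
  rw [idL_eq, Ideal.mem_comap] at hp ⊢
  have : toY A (C c) = C c := by simp [toY]
  rw [map_mul, this] at hp
  exact C_mul_mem_LY A hc hp

/-! ### Consequences -/

theorem idI_le_idJ : idI A ≤ idJ A := by
  apply Ideal.span_mono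
  intro x hx
  simp only [Set.mem_insert_iff, Set.mem_singleton_iff] at hx ⊢
  tauto

theorem idI_le_idL : idI A ≤ idL A := by
  rw [idI_eq, idL_eq]; exact Ideal.comap_mono (IY_le_LY A)

theorem detM_mem_idJ : detM A ∈ idJ A := Ideal.subset_span (by simp)
theorem L1_mem_idL : L1 A ∈ idL A := Ideal.subset_span (by simp)
theorem L2_mem_idL : L2 A ∈ idL A := Ideal.subset_span (by simp)
theorem L3_mem_idL : L3 A ∈ idL A := Ideal.subset_span (by simp)

theorem detM_mul_mem_of_mem_idL {y : D A} (hy : y ∈ idL A) : detM A * y ∈ idI A := by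
  induction hy using Submodule.span_induction with
  | mem t ht =>
    simp only [Set.mem_insert_iff, Set.mem_singleton_iff] at ht
    rcases ht with rfl | rfl | rfl
    · exact detM_mul_L1_mem A
    · exact detM_mul_L2_mem A
    · exact detM_mul_L3_mem A
  | zero => rw [mul_zero]; exact zero_mem _
  | add x y _ _ hx hy => rw [mul_add]; exact add_mem hx hy
  | smul a x _ hx => rw [smul_eq_mul, mul_left_comm]; exact Ideal.mul_mem_left _ _ hx

theorem idJ_eq_sup : idJ A = idI A ⊔ Ideal.span {detM A} := by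
  rw [idJ, idI, ← Ideal.span_union]
  congr 1
  ext x
  simp only [Set.mem_insert_iff, Set.mem_singleton_iff, Set.mem_union]
  tauto

theorem idJ_mul_idL {x : D A} (hx : x ∈ idJ A) {y : D A} (hy : y ∈ idL A) : x * y ∈ idI A := by
  rw [idJ_eq_sup] at hx
  obtain ⟨q, hq, z, hz, rfl⟩ := Submodule.mem_sup.mp hx
  obtain ⟨t, rfl⟩ := Ideal.mem_span_singleton'.mp hz
  have : (q + t * detM A) * y = q * y + t * (detM A * y) := by ring
  rw [this]
  exact add_mem (Ideal.mul_mem_right _ _ hq)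
    (Ideal.mul_mem_left _ _ (detM_mul_mem_of_mem_idL A hy))

/-- `I = J ∩ L` -/
theorem idI_eq_inf : idI A = idJ A ⊓ idL A := by
  apply le_antisymm (le_inf (idI_le_idJ A) (idI_le_idL A))
  rintro x ⟨hxJ, hxL⟩
  have hxJ' : x ∈ idJ A := hxJ
  have hxL' : x ∈ idL A := hxL
  rw [idJ_eq_sup] at hxJ'
  obtain ⟨q, hq, z, hz, rfl⟩ := Submodule.mem_sup.mp hxJ'
  obtain ⟨t, rfl⟩ := Ideal.mem_span_singleton'.mp hz
  have h1 : detM A * t ∈ idL A := by
    have : detM A * t = (q + t * detM A) - q := by ring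
    rw [this]; exact sub_mem hxL' (idI_le_idL A hq)
  have h2 := detM_mul_mem_idL A h1
  have h3 := detM_mul_mem_of_mem_idL A h2
  rw [mul_comm] at h3
  exact add_mem hq h3

/-- `(I : J) = L` -/
theorem colon_idJ : (idI A).colon (idJ A : Set (D A)) = idL A := by
  ext x
  rw [Submodule.mem_colon]
  constructor
  · intro h
    have := h (detM A) (detM_mem_idJ A)
    rw [smul_eq_mul, mul_comm] at this
    exact detM_mul_mem_idL A (idI_le_idL A this)
  · intro hx p hp
    rw [smul_eq_mul, mul_comm]; exact idJ_mul_idL A hp hx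

/-- `(I : L) = J` -/
theorem colon_idL : (idI A).colon (idL A : Set (D A)) = idJ A := by
  ext x
  rw [Submodule.mem_colon]
  constructor
  · intro h
    have := h (L3 A) (L3_mem_idL A)
    rw [smul_eq_mul, mul_comm] at this
    exact L3_mul_mem_idJ A (idI_le_idJ A this)
  · intro hx p hp
    rw [smul_eq_mul]; exact idJ_mul_idL A hx hp

theorem idL_minimal [IsDomain A] : idL A ∈ (idI A).minimalPrimes := by
  refine ⟨⟨idL_isPrime A, idI_le_idL A⟩, ?_⟩
  rintro q ⟨hq, hIq⟩ hqL
  intro y hy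
  have h1 : detM A * y ∈ q := hIq (detM_mul_mem_of_mem_idL A hy)
  rcases hq.mem_or_mem h1 with h | h
  · exfalso
    have h2 : detM A ∈ idL A := hqL h
    have h3 : (1 : D A) ∈ idL A := detM_mul_mem_idL A (by rwa [mul_one])
    exact (idL_isPrime A).ne_top ((Ideal.eq_top_iff_one _).mpr h3)
  · exact h

theorem idJ_minimal [IsDomain A] : idJ A ∈ (idI A).minimalPrimes := by
  refine ⟨⟨idJ_isPrime A, idI_le_idJ A⟩, ?_⟩
  rintro q ⟨hq, hIq⟩ hqJ
  intro x hx
  have h1 : x * L3 A ∈ q := hIq (idJ_mul_idL A hx (L3_mem_idL A))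
  rcases hq.mem_or_mem h1 with h | h
  · exact h
  · exfalso
    have h2 : L3 A ∈ idJ A := hqJ h
    have h3 : (1 : D A) ∈ idJ A := L3_mul_mem_idJ A (by rwa [mul_one])
    exact (idJ_isPrime A).ne_top ((Ideal.eq_top_iff_one _).mpr h3)

theorem C_mul_mem_idI {c : A} (hc : ∀ x : A, c * x = 0 → x = 0) {p : D A}
    (hp : C c * p ∈ idI A) : p ∈ idI A := by
  rw [idI_eq_inf] at hp ⊢
  exact ⟨C_mul_mem_idJ A hc hp.1, C_mul_mem_idL A hc hp.2⟩

theorem idI_isRadical [IsDomain A] : (idI A).IsRadical := by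
  rw [idI_eq_inf]
  exact Ideal.IsRadical.inf (idJ_isPrime A).isRadical (idL_isPrime A).isRadical

theorem flat_of_C_mul_mem {I : Ideal (D ℤ)}
    (h : ∀ n : ℤ, n ≠ 0 → ∀ p : D ℤ, C n * p ∈ I → p ∈ I) : Module.Flat ℤ (D ℤ ⧸ I) := by
  have : Module.IsTorsionFree ℤ (D ℤ ⧸ I) := by
    constructor
    intro r hr
    have hr0 : r ≠ 0 := hr.ne_zero
    intro x y hxy
    obtain ⟨p, rfl⟩ := Ideal.Quotient.mk_surjective x
    obtain ⟨q, rfl⟩ := Ideal.Quotient.mk_surjective y
    have h1 : r • (Ideal.Quotient.mk I p - Ideal.Quotient.mk I q) = 0 := by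
      rw [smul_sub]; exact sub_eq_zero.mpr hxy
    rw [← map_sub, ← map_zsmul, zsmul_eq_mul, Ideal.Quotient.eq_zero_iff_mem] at h1
    have h2 : ((r : D ℤ)) = C r := by simp
    rw [h2] at h1
    exact Ideal.Quotient.eq.mpr (h r hr0 _ h1)
  infer_instance

theorem flat_idJ : Module.Flat ℤ (D ℤ ⧸ idJ ℤ) :=
  flat_of_C_mul_mem fun n hn p hp =>
    C_mul_mem_idJ ℤ (fun x hx => (mul_eq_zero.mp hx).resolve_left hn) hp

theorem flat_idI : Module.Flat ℤ (D ℤ ⧸ idI ℤ) :=
  flat_of_C_mul_mem fun n hn p hp =>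
    C_mul_mem_idI ℤ (fun x hx => (mul_eq_zero.mp hx).resolve_left hn) hp

end Groth.Agent.Lib.Helper91.Lie3D
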