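import Mathlib
import Groth.Prelude.Def_W4c1bouilletffgsL3
import Groth.Agent.Lib.Helper91.Lie3D

/-!
# Regular sequences for the Lie3Mod ideals (helper91)
-/

namespace Groth.Agent.Lib.Helper91.Lie3Reg

open MvPolynomial Lie3Mod Groth.Agent.Lib.Helper91.Lie3Y Groth.Agent.Lib.Helper91.Lie3D
open Groth.Agent.Lib.Helper91.Groebner Groth.Agent.Lib.Helper91.GroebnerFin9
open Groth.Agent.Lib.Helper91.Lie3GB

/-- variables in decreasing order `c > g > e > v3 > i > v2 > f > h > v1` -/
def permQ : Fin 9 ≃ Fin 9 where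
  toFun := ![7,3,0,8,4,2,6,1,5]
  invFun := ![2,7,5,1,4,8,6,0,3]
  left_inv := by decide
  right_inv := by decide

/-- the monomial order for the Jacobi polynomials -/
noncomputable def ordQ : VOrd := permOrd permQ

/-- leading exponent vectors of `-Q1, -Q2, Q3` -/
def muQ : Fin 3 → (Fin 9 → ℕ) :=
  ![![0,0,1,1,0,0,0,0,0], ![1,0,0,0,0,1,0,0,0], ![0,0,0,0,0,0,0,1,1]]

/-- tails of `-Q1, -Q2, Q3` -/
def tailQ : Fin 3 → List (ℤ × (Fin 9 → ℕ)) :=
  ![[((-1 : ℤ), ![0,1,0,0,0,1,0,0,0]), ((-1 : ℤ), ![0,0,0,0,1,0,0,0,1])],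
    [((1 : ℤ), ![0,1,1,0,0,0,0,0,0]), ((1 : ℤ), ![0,0,0,0,0,0,1,0,1]),
      ((-1 : ℤ), ![0,0,1,0,0,0,0,0,1])],
    [((-1 : ℤ), ![0,0,0,0,0,1,1,0,0]), ((-1 : ℤ), ![0,0,1,0,1,0,0,0,0])]]

theorem muQ_ne : ∀ k, muQ k ≠ 0 := by decide

theorem muL_ne : ∀ k, muL k ≠ 0 := by decide

variable (R : Type*) [CommRing R]

/-- `-Q1, -Q2, Q3` -/
noncomputable def GQ (k : Fin 3) : P R := tp R (((1 : ℤ), muQ k) :: tailQ k)

theorem GQ_0 : GQ R 0 = - Q1Y R := by
  simp [GQ, muQ, tailQ, monomial_E9, Q1Y]; ring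
theorem GQ_1 : GQ R 1 = - Q2Y R := by
  simp [GQ, muQ, tailQ, monomial_E9, Q2Y]; ring
theorem GQ_2 : GQ R 2 = Q3Y R := by
  simp [GQ, muQ, tailQ, monomial_E9, Q3Y]; ring

theorem GQ_hG (k : Fin 3) : GQ R k = monomial (E (muQ k)) 1 + tp R (tailQ k) := by simp [GQ]

theorem GQ_hr (k : Fin 3) : ∀ ν ∈ (tp R (tailQ k)).support,
    ordQ.m.toSyn ν < ordQ.m.toSyn (E (muQ k)) :=
  support_tp_lt ordQ (by revert k; decide)

theorem GQ_cop : ∀ i j : Fin 3, i ≠ j → ∀ s, E (muQ i) s = 0 ∨ E (muQ j) s = 0 := by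
  intro i j hij s
  show muQ i s = 0 ∨ muQ j s = 0
  revert i j s; decide

theorem GQ_step (k : Fin 3) {p : P R} (hp : GQ R k * p ∈ Ideal.span (GQ R '' {j | j < k})) :
    p ∈ Ideal.span (GQ R '' {j | j < k}) :=
  regular_step_of_coprime ordQ.m (GQ R) (fun k => tp R (tailQ k)) (fun k => E (muQ k))
    (GQ_hG R) (GQ_hr R) GQ_cop k hp

theorem GQ_one [Nontrivial R] : (1 : P R) ∉ Ideal.span (Set.range (GQ R)) :=
  one_notMem_of_coprime ordQ.m (GQ R) (fun k => tp R (tailQ k)) (fun k => E (muQ k))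
    (GQ_hG R) (GQ_hr R) GQ_cop (by
      intro k h
      have h1 : muQ k = 0 := by
        funext s
        have := DFunLike.congr_fun h s
        simpa using this
      exact muQ_ne k h1)

theorem GLin_hG (k : Fin 3) : GLin R k = monomial (E (muL k)) 1 + (0 : P R) := by simp [GLin]

theorem GLin_cop : ∀ i j : Fin 3, i ≠ j → ∀ s, E (muL i) s = 0 ∨ E (muL j) s = 0 := by
  intro i j hij s
  show muL i s = 0 ∨ muL j s = 0
  revert i j s; decide

theorem GLin_step (k : Fin 3) {p : P R} (hp : GLin R k * p ∈ Ideal.span (GLin R '' {j | j < k})) :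
    p ∈ Ideal.span (GLin R '' {j | j < k}) :=
  regular_step_of_coprime lexOrd.m (GLin R) (fun _ => 0) (fun k => E (muL k))
    (GLin_hG R) (by intro k ν hν; simp at hν) GLin_cop k hp

theorem GLin_one [Nontrivial R] : (1 : P R) ∉ Ideal.span (Set.range (GLin R)) :=
  one_notMem_of_coprime lexOrd.m (GLin R) (fun _ => 0) (fun k => E (muL k))
    (GLin_hG R) (by intro k ν hν; simp at hν) GLin_cop (by
      intro k h
      have h1 : muL k = 0 := by
        funext s
        have := DFunLike.congr_fun h s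
        simpa using this
      exact muL_ne k h1)

theorem lt_zero_set : {j : Fin 3 | j < 0} = ∅ := by
  ext j; fin_cases j <;> simp
theorem lt_one_set : {j : Fin 3 | j < 1} = {0} := by
  ext j; fin_cases j <;> simp
theorem lt_two_set : {j : Fin 3 | j < 2} = {0, 1} := by
  ext j; fin_cases j <;> simp
theorem range_three (f : Fin 3 → P R) : Set.range f = {f 0, f 1, f 2} := by
  ext x
  simp only [Set.mem_range, Set.mem_insert_iff, Set.mem_singleton_iff]
  constructor
  · rintro ⟨j, rfl⟩
    fin_cases j <;> simp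
  · rintro (rfl | rfl | rfl) <;> exact ⟨_, rfl⟩

/-- regular-sequence facts for three elements, in elementwise form -/
structure Reg3 {S : Type*} [CommRing S] (r1 r2 r3 : S) : Prop where
  h1 : ∀ p, r1 * p = 0 → p = 0
  h2 : ∀ p, r2 * p ∈ Ideal.span {r1} → p ∈ Ideal.span {r1}
  h3 : ∀ p, r3 * p ∈ Ideal.span {r1, r2} → p ∈ Ideal.span {r1, r2}
  h4 : (1 : S) ∉ Ideal.span {r1, r2, r3}

theorem reg3_of_steps [Nontrivial R] (G : Fin 3 → P R)
    (hstep : ∀ (k : Fin 3) (p : P R), G k * p ∈ Ideal.span (G '' {j | j < k}) →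
      p ∈ Ideal.span (G '' {j | j < k}))
    (hone : (1 : P R) ∉ Ideal.span (Set.range G)) : Reg3 (G 0) (G 1) (G 2) := by
  refine ⟨?_, ?_, ?_, ?_⟩
  · intro p hp
    have := hstep 0 p (by rw [hp]; exact zero_mem _)
    rw [lt_zero_set, Set.image_empty, Ideal.span_empty] at this
    exact this
  · intro p hp
    have := hstep 1 p (by rw [lt_one_set, Set.image_singleton]; exact hp)
    rwa [lt_one_set, Set.image_singleton] at this
  · intro p hp
    have := hstep 2 p (by rw [lt_two_set, Set.image_pair]; exact hp)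
    rwa [lt_two_set, Set.image_pair] at this
  · rwa [range_three] at hone

theorem reg3_L_Y [Nontrivial R] : Reg3 (X 5 : P R) (X 2) (X 8) := by
  have := reg3_of_steps R (GLin R) (fun k p => GLin_step R k) (GLin_one R)
  rwa [GLin_0, GLin_1, GLin_2] at this

theorem reg3_Q_Y' [Nontrivial R] : Reg3 (- Q1Y R) (- Q2Y R) (Q3Y R) := by
  have := reg3_of_steps R (GQ R) (fun k p => GQ_step R k) (GQ_one R)
  rwa [GQ_0, GQ_1, GQ_2] at this

theorem span_neg_single {S : Type*} [CommRing S] (a : S) :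
    Ideal.span ({-a} : Set S) = Ideal.span {a} := Ideal.span_singleton_neg a

theorem span_neg_pair {S : Type*} [CommRing S] (a b : S) :
    Ideal.span ({-a, -b} : Set S) = Ideal.span {a, b} := by
  apply le_antisymm <;> apply Ideal.span_le.mpr <;> intro x hx <;>
    simp only [Set.mem_insert_iff, Set.mem_singleton_iff] at hx <;> rcases hx with rfl | rfl
  · exact neg_mem (Ideal.subset_span (by simp))
  · exact neg_mem (Ideal.subset_span (by simp))
  · rw [← neg_neg x]; exact neg_mem (Ideal.subset_span (by simp))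
  · rw [← neg_neg x]; exact neg_mem (Ideal.subset_span (by simp))

theorem span_neg_triple {S : Type*} [CommRing S] (a b c : S) :
    Ideal.span ({-a, -b, c} : Set S) = Ideal.span {a, b, c} := by
  apply le_antisymm <;> apply Ideal.span_le.mpr <;> intro x hx <;>
    simp only [Set.mem_insert_iff, Set.mem_singleton_iff] at hx <;> rcases hx with rfl | rfl | rfl
  · exact neg_mem (Ideal.subset_span (by simp))
  · exact neg_mem (Ideal.subset_span (by simp))
  · exact Ideal.subset_span (by simp)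
  · rw [← neg_neg x]; exact neg_mem (Ideal.subset_span (by simp))
  · rw [← neg_neg x]; exact neg_mem (Ideal.subset_span (by simp))
  · exact Ideal.subset_span (by simp)

theorem reg3_Q_Y [Nontrivial R] : Reg3 (Q1Y R) (Q2Y R) (Q3Y R) := by
  obtain ⟨h1, h2, h3, h4⟩ := reg3_Q_Y' R
  refine ⟨?_, ?_, ?_, ?_⟩
  · intro p hp
    exact h1 p (by rw [neg_mul, hp, neg_zero])
  · intro p hp
    rw [span_neg_single] at h2
    exact h2 p (by rw [neg_mul]; exact neg_mem hp)
  · intro p hp
    rw [span_neg_pair] at h3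
    exact h3 p hp
  · rwa [span_neg_triple] at h4

theorem isSMulRegular_quot {S : Type*} [CommRing S] (N : Submodule S S) (r : S)
    (h : ∀ p, r * p ∈ N → p ∈ N) : IsSMulRegular (S ⧸ N) r := by
  intro x y hxy
  obtain ⟨p, rfl⟩ := Submodule.Quotient.mk_surjective N x
  obtain ⟨q, rfl⟩ := Submodule.Quotient.mk_surjective N y
  simp only [← Submodule.Quotient.mk_smul] at hxy
  rw [Submodule.Quotient.eq] at hxy ⊢
  apply h
  rw [mul_sub]
  exact hxy

theorem isRegular_of_reg3 {S : Type*} [CommRing S] {r1 r2 r3 : S} (h : Reg3 r1 r2 r3) :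
    RingTheory.Sequence.IsRegular S [r1, r2, r3] := by
  obtain ⟨h1, h2, h3, h4⟩ := h
  refine ⟨⟨fun i hi => ?_⟩, ?_⟩
  · have hi' : i < 3 := by simpa using hi
    apply isSMulRegular_quot
    intro p hp
    interval_cases i
    · simp only [List.take_zero, Ideal.ofList_nil, Submodule.bot_smul, Submodule.mem_bot,
        List.getElem_cons_zero] at hp ⊢
      exact h1 p hp
    · have e : (Ideal.ofList ([r1, r2, r3].take 1) • (⊤ : Submodule S S)) = Ideal.span {r1} := by
        simp
      rw [e] at hp ⊢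
      exact h2 p hp
    · have e : (Ideal.ofList ([r1, r2, r3].take 2) • (⊤ : Submodule S S))
          = Ideal.span {r1, r2} := by
        simp [Ideal.span_insert]
      rw [e] at hp ⊢
      exact h3 p hp
  · have e : (Ideal.ofList [r1, r2, r3] • (⊤ : Submodule S S)) = Ideal.span {r1, r2, r3} := by
      simp [Ideal.span_insert]
    rw [e]
    intro htop
    apply h4
    rw [← htop]
    exact Submodule.mem_top

variable (A : Type*) [CommRing A]

theorem reg3_transfer {r1 r2 r3 : D A} {s1 s2 s3 : P A} (e1 : toY A r1 = s1) (e2 : toY A r2 = s2)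
    (e3 : toY A r3 = s3) (h : Reg3 s1 s2 s3) : Reg3 r1 r2 r3 := by
  obtain ⟨h1, h2, h3, h4⟩ := h
  have c1 : Ideal.span {r1} = Ideal.comap (toY A) (Ideal.span {s1}) := by
    apply span_eq_comap
    · intro s hs
      rw [Set.mem_singleton_iff] at hs
      rw [hs, e1]; exact Ideal.subset_span rfl
    · intro t ht
      rw [Set.mem_singleton_iff] at ht
      exact ⟨r1, Ideal.subset_span rfl, by rw [e1, ht]⟩
  have c2 : Ideal.span {r1, r2} = Ideal.comap (toY A) (Ideal.span {s1, s2}) := by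
    apply span_eq_comap
    · intro s hs
      simp only [Set.mem_insert_iff, Set.mem_singleton_iff] at hs
      rcases hs with rfl | rfl
      · rw [e1]; exact Ideal.subset_span (by simp)
      · rw [e2]; exact Ideal.subset_span (by simp)
    · intro t ht
      simp only [Set.mem_insert_iff, Set.mem_singleton_iff] at ht
      rcases ht with rfl | rfl
      · exact ⟨r1, Ideal.subset_span (by simp), e1⟩
      · exact ⟨r2, Ideal.subset_span (by simp), e2⟩
  have c3 : Ideal.span {r1, r2, r3} = Ideal.comap (toY A) (Ideal.span {s1, s2, s3}) := by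
    apply span_eq_comap
    · intro s hs
      simp only [Set.mem_insert_iff, Set.mem_singleton_iff] at hs
      rcases hs with rfl | rfl | rfl
      · rw [e1]; exact Ideal.subset_span (by simp)
      · rw [e2]; exact Ideal.subset_span (by simp)
      · rw [e3]; exact Ideal.subset_span (by simp)
    · intro t ht
      simp only [Set.mem_insert_iff, Set.mem_singleton_iff] at ht
      rcases ht with rfl | rfl | rfl
      · exact ⟨r1, Ideal.subset_span (by simp), e1⟩
      · exact ⟨r2, Ideal.subset_span (by simp), e2⟩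
      · exact ⟨r3, Ideal.subset_span (by simp), e3⟩
  refine ⟨?_, ?_, ?_, ?_⟩
  · intro p hp
    have : toY A p = 0 := h1 _ (by rw [← e1, ← map_mul, hp, map_zero])
    rw [← ofY_toY A p, this, map_zero]
  · intro p hp
    rw [c1, Ideal.mem_comap] at hp ⊢
    rw [map_mul, e2] at hp
    exact h2 _ hp
  · intro p hp
    rw [c2, Ideal.mem_comap] at hp ⊢
    rw [map_mul, e3] at hp
    exact h3 _ hp
  · rw [c3, Ideal.mem_comap, map_one]
    exact h4

theorem isRegular_L [Nontrivial A] :
    RingTheory.Sequence.IsRegular (D A) [L1 A, L2 A, L3 A] :=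
  isRegular_of_reg3 (reg3_transfer A (toY_L1 A) (toY_L2 A) (toY_L3 A) (reg3_L_Y A))

theorem isRegular_Q [Nontrivial A] :
    RingTheory.Sequence.IsRegular (D A) [Q1 A, Q2 A, Q3 A] :=
  isRegular_of_reg3 (reg3_transfer A (toY_Q1 A) (toY_Q2 A) (toY_Q3 A) (reg3_Q_Y A))

end Groth.Agent.Lib.Helper91.Lie3Reg
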