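import Mathlib

set_option autoImplicit false
open Polynomial
universe u

namespace Groth.Agent.Lib.Helper91.LogConn

variable {R : Type u} [CommRing R] {d r : ℕ}

theorem eval_derivative_prod (θ : Fin r → R) (i : Fin r) :
    (derivative (∏ k, (X - C (θ k)))).eval (θ i) = ∏ k ∈ Finset.univ.erase i, (θ i - θ k) := by
  rw [Polynomial.derivative_prod_finset, eval_finsetSum, Finset.sum_eq_single i]
  · simp [eval_prod]
  · intro k _ hki
    rw [eval_mul, eval_prod, Finset.prod_eq_zero (i := i) (Finset.mem_erase.mpr ⟨hki.symm,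
      Finset.mem_univ _⟩), zero_mul]
    simp
  · intro h
    exact absurd (Finset.mem_univ i) h

theorem isCoprime_of_isUnit_eval (p : R[X]) (a : R) (h : IsUnit (p.eval a)) :
    IsCoprime p (X - C a) := by
  obtain ⟨c, hc⟩ := h
  have h1 : p %ₘ (X - C a) + (X - C a) * (p /ₘ (X - C a)) = p :=
    Polynomial.modByMonic_add_div p (X - C a)
  rw [Polynomial.modByMonic_X_sub_C_eq_C_eval, ← hc] at h1
  refine ⟨C (↑c⁻¹ : R), -(C (↑c⁻¹ : R) * (p /ₘ (X - C a))), ?_⟩
  have h2 : C (↑c⁻¹ : R) * C (c : R) = 1 := by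
    rw [← C_mul, Units.inv_mul, C_1]
  calc C (↑c⁻¹ : R) * p + -(C (↑c⁻¹ : R) * (p /ₘ (X - C a))) * (X - C a)
      = C (↑c⁻¹ : R) * (p - (X - C a) * (p /ₘ (X - C a))) := by ring
    _ = C (↑c⁻¹ : R) * C (c : R) := by rw [(eq_sub_of_add_eq h1).symm]
    _ = 1 := h2

/-- the matrix part of a "log connection" operator -/
noncomputable def Nmat (D₀ : (Fin d → R[X]) →+ (Fin d → R[X])) : Matrix (Fin d) (Fin d) R[X] :=
  Matrix.of fun l j => D₀ (Pi.single j 1) l

theorem D₀_eq (Θ : R[X]) (D₀ : (Fin d → R[X]) →+ (Fin d → R[X]))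
    (hD₀ : ∀ (p : R[X]) (v : Fin d → R[X]),
      D₀ (p • v) = (Θ * Polynomial.derivative p) • v + p • D₀ v) (v : Fin d → R[X]) :
    D₀ v = Θ • (fun j => derivative (v j)) + (Nmat D₀).mulVec v := by
  conv_lhs => rw [pi_eq_sum_univ' v]
  rw [map_sum]
  funext l
  rw [Finset.sum_apply]
  simp only [hD₀, Pi.add_apply, Pi.smul_apply, smul_eq_mul, Matrix.mulVec, dotProduct, Nmat,
    Matrix.of_apply]
  rw [Finset.sum_add_distrib]
  congr 1
  · rw [Finset.sum_eq_single l]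
    · simp
    · intro j _ hjl
      rw [Pi.single_eq_of_ne (Ne.symm hjl), mul_zero]
    · intro h
      exact absurd (Finset.mem_univ l) h
  · apply Finset.sum_congr rfl
    intro j _
    ring

/-- the matrix `N - nΘ'` -/
noncomputable def Bmat (Θ : R[X]) (D₀ : (Fin d → R[X]) →+ (Fin d → R[X])) (n : ℕ) :
    Matrix (Fin d) (Fin d) R[X] :=
  Nmat D₀ - (C (n : R) * derivative Θ) • (1 : Matrix (Fin d) (Fin d) R[X])

theorem Bmat_mulVec (Θ : R[X]) (D₀ : (Fin d → R[X]) →+ (Fin d → R[X])) (n : ℕ)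
    (v : Fin d → R[X]) :
    (Bmat Θ D₀ n).mulVec v = (Nmat D₀).mulVec v - (C (n : R) * derivative Θ) • v := by
  unfold Bmat
  rw [Matrix.sub_mulVec, Matrix.smul_mulVec, Matrix.one_mulVec]

theorem surj_of_coprime (B : Matrix (Fin d) (Fin d) R[X]) (Θ : R[X])
    (h : IsCoprime B.det Θ) (v : Fin d → R[X]) :
    ∃ u t : Fin d → R[X], B.mulVec u = v + Θ • t := by
  obtain ⟨a, b, hab⟩ := h
  refine ⟨a • (B.adjugate).mulVec v, -(b • v), ?_⟩
  rw [Matrix.mulVec_smul, Matrix.mulVec_mulVec, Matrix.mul_adjugate, Matrix.smul_mulVec,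
    Matrix.one_mulVec]
  have : a * B.det = 1 - b * Θ := by rw [← hab]; ring
  funext l
  simp only [Pi.smul_apply, Pi.add_apply, Pi.neg_apply, smul_eq_mul]
  calc a * (B.det * v l) = (a * B.det) * v l := by ring
    _ = (1 - b * Θ) * v l := by rw [this]
    _ = v l + Θ * -(b * v l) := by ring

theorem inj_of_coprime (B : Matrix (Fin d) (Fin d) R[X]) (Θ : R[X])
    (h : IsCoprime B.det Θ) (v s : Fin d → R[X]) (hv : B.mulVec v = Θ • s) :
    ∃ v₁ : Fin d → R[X], v = Θ • v₁ := by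
  obtain ⟨a, b, hab⟩ := h
  have h1 : (B.adjugate).mulVec (B.mulVec v) = B.det • v := by
    rw [Matrix.mulVec_mulVec, Matrix.adjugate_mul, Matrix.smul_mulVec, Matrix.one_mulVec]
  rw [hv, Matrix.mulVec_smul] at h1
  refine ⟨a • (B.adjugate).mulVec s + b • v, ?_⟩
  funext l
  have h2 := congrFun h1 l
  simp only [Pi.smul_apply, Pi.add_apply, smul_eq_mul] at h2 ⊢
  calc v l = (a * B.det + b * Θ) * v l := by rw [hab, one_mul]
    _ = a * (B.det * v l) + Θ * (b * v l) := by ring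
    _ = a * (Θ * (B.adjugate).mulVec s l) + Θ * (b * v l) := by rw [h2]
    _ = Θ * (a * (B.adjugate).mulVec s l + b * v l) := by ring


theorem isUnit_eval_det_Bmat [Algebra ℂ R] (θ : Fin r → R)
    (hθ : ∀ i k, i ≠ k → IsUnit (θ i - θ k))
    (Θ : R[X]) (hΘ : Θ = ∏ i, (X - Polynomial.C (θ i)))
    (D₀ : (Fin d → R[X]) →+ (Fin d → R[X]))
    (Res : Fin r → ((Fin d → R) →ₗ[R] (Fin d → R)))
    (hRes : ∀ (i : Fin r) (m : Fin d → R) (j : Fin d),
      (D₀ (fun j => Polynomial.C (m j)) j).eval (θ i) =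
        (∏ k ∈ Finset.univ.erase i, (θ i - θ k)) * Res i m j)
    (hχ : ∀ i : Fin r, ∃ χ : ℂ[X], (Res i).charpoly = χ.map (algebraMap ℂ R) ∧
      ∀ n : ℤ, n ≠ 0 → χ.eval (n : ℂ) ≠ 0)
    (n : ℕ) (hn : n ≠ 0) (i : Fin r) : IsUnit ((Bmat Θ D₀ n).det.eval (θ i)) := by
  set P := ∏ k ∈ Finset.univ.erase i, (θ i - θ k) with hP
  have hPu : IsUnit P := Finset.prod_induction _ IsUnit (fun a b => IsUnit.mul) isUnit_one
    (fun k hk => hθ i k (Finset.ne_of_mem_erase hk).symm)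
  have hΘ' : (derivative Θ).eval (θ i) = P := by rw [hΘ]; exact eval_derivative_prod θ i
  set M := LinearMap.toMatrix' (Res i) with hM
  have hB : (Polynomial.evalRingHom (θ i)).mapMatrix (Bmat Θ D₀ n) =
      P • (M - Matrix.scalar (Fin d) (n : R)) := by
    ext l j
    have h1 := hRes i (Pi.single j 1) l
    have h2 : (fun j' => C ((Pi.single j 1 : Fin d → R) j')) = (Pi.single j 1 : Fin d → R[X]) := by
      funext j'
      by_cases h : j' = j
      · subst h; simp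
      · simp [Pi.single_eq_of_ne h]
    rw [h2] at h1
    simp only [RingHom.mapMatrix_apply, Matrix.map_apply, Bmat, Nmat, Matrix.sub_apply,
      Matrix.smul_apply, Matrix.of_apply, coe_evalRingHom, eval_sub, smul_eq_mul, eval_mul, eval_C,
      hΘ', Matrix.one_apply, Matrix.scalar_apply, Matrix.diagonal_apply]
    rw [h1, hM, LinearMap.toMatrix'_apply]
    split_ifs <;> simp <;> ring
  rw [← Polynomial.coe_evalRingHom, RingHom.map_det, hB, Matrix.det_smul]
  apply IsUnit.mul (hPu.pow _)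
  obtain ⟨χ, hχ1, hχ2⟩ := hχ i
  have h3 : (Matrix.scalar (Fin d) (n : R) - M).det = algebraMap ℂ R (χ.eval (n : ℂ)) := by
    rw [← Matrix.eval_charpoly, hM, ← LinearMap.toMatrix_eq_toMatrix',
      LinearMap.charpoly_toMatrix, hχ1, eval_map, ← map_natCast (algebraMap ℂ R) n,
      eval₂_at_apply]
  have h4 : M - Matrix.scalar (Fin d) (n : R) = -(Matrix.scalar (Fin d) (n : R) - M) := by
    rw [neg_sub]
  rw [h4, Matrix.det_neg, h3]
  apply IsUnit.mul
  · exact (isUnit_one.neg).pow _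
  · have := hχ2 (n : ℤ) (by exact_mod_cast hn)
    simp only [Int.cast_natCast] at this
    exact (IsUnit.mk0 _ this).map (algebraMap ℂ R)

theorem coprime_det_Bmat [Algebra ℂ R] (θ : Fin r → R)
    (hθ : ∀ i k, i ≠ k → IsUnit (θ i - θ k))
    (Θ : R[X]) (hΘ : Θ = ∏ i, (X - Polynomial.C (θ i)))
    (D₀ : (Fin d → R[X]) →+ (Fin d → R[X]))
    (Res : Fin r → ((Fin d → R) →ₗ[R] (Fin d → R)))
    (hRes : ∀ (i : Fin r) (m : Fin d → R) (j : Fin d),
      (D₀ (fun j => Polynomial.C (m j)) j).eval (θ i) =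
        (∏ k ∈ Finset.univ.erase i, (θ i - θ k)) * Res i m j)
    (hχ : ∀ i : Fin r, ∃ χ : ℂ[X], (Res i).charpoly = χ.map (algebraMap ℂ R) ∧
      ∀ n : ℤ, n ≠ 0 → χ.eval (n : ℂ) ≠ 0)
    (n : ℕ) (hn : n ≠ 0) : IsCoprime (Bmat Θ D₀ n).det Θ := by
  have key : IsCoprime (Bmat Θ D₀ n).det (∏ i, (X - Polynomial.C (θ i))) := by
    apply IsCoprime.prod_right
    intro i _
    exact isCoprime_of_isUnit_eval _ _ (isUnit_eval_det_Bmat θ hθ Θ hΘ D₀ Res hRes hχ n hn i)
  rw [← hΘ] at key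
  exact key

theorem mul_derivative_pow (Θ : R[X]) (n : ℕ) :
    Θ * derivative (Θ ^ n) = C (n : R) * derivative Θ * Θ ^ n := by
  cases n with
  | zero => simp
  | succ m =>
    rw [derivative_pow, Nat.add_sub_cancel, pow_succ]
    ring

section Loc

variable {L : Type u} [CommRing L] (ι : R[X] →+* L) (Θ : R[X])
  (D₀ : (Fin d → R[X]) →+ (Fin d → R[X])) (D : (Fin d → L) →+ (Fin d → L))

theorem F1 (hD : ∀ (p : R[X]) (w : Fin d → L),
      D (fun j => ι p * w j) = fun j => ι (Θ * derivative p) * w j + ι p * D w j)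
    (hDD₀ : ∀ v : Fin d → R[X], D (fun j => ι (v j)) = fun j => ι (D₀ v j))
    (n : ℕ) (w : Fin d → L) (v : Fin d → R[X]) (hw : ∀ j, ι Θ ^ n * w j = ι (v j)) (j : Fin d) :
    ι Θ ^ n * D w j = ι (D₀ v j - C (n : R) * derivative Θ * v j) := by
  have h1 := hD (Θ ^ n) w
  have h2 : (fun j => ι (Θ ^ n) * w j) = fun j => ι (v j) := by
    funext j
    rw [map_pow, hw]
  rw [h2, hDD₀] at h1
  have h3 : ι (D₀ v j) = ι (Θ * derivative (Θ ^ n)) * w j + ι (Θ ^ n) * D w j := congrFun h1 j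
  rw [mul_derivative_pow, map_mul, mul_assoc, map_pow, hw] at h3
  rw [map_sub, h3, map_mul, map_mul, map_mul]
  ring

theorem claim2 (hΘu : IsUnit (ι Θ)) (hinj : Function.Injective ι)
    (hD : ∀ (p : R[X]) (w : Fin d → L),
      D (fun j => ι p * w j) = fun j => ι (Θ * derivative p) * w j + ι p * D w j)
    (hDD₀ : ∀ v : Fin d → R[X], D (fun j => ι (v j)) = fun j => ι (D₀ v j))
    (hD₀ : ∀ (p : R[X]) (v : Fin d → R[X]),
      D₀ (p • v) = (Θ * Polynomial.derivative p) • v + p • D₀ v)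
    (hcop : ∀ n : ℕ, n ≠ 0 → IsCoprime (Bmat Θ D₀ n).det Θ) (n : ℕ) :
    ∀ (f : Fin d → L) (v : Fin d → R[X]), (∀ j, ι Θ ^ n * f j = ι (v j)) →
      ∀ (g : Fin d → R[X]), (∀ j, D f j = ι (g j)) → ∃ v' : Fin d → R[X], ∀ j, f j = ι (v' j) := by
  induction n with
  | zero =>
    intro f v hf g _
    exact ⟨v, fun j => by have := hf j; rwa [pow_zero, one_mul] at this⟩
  | succ n ih =>
    intro f v hf g hg
    have h1 : ∀ j, Θ ^ (n + 1) * g j = D₀ v j - C ((n + 1 : ℕ) : R) * derivative Θ * v j := by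
      intro j
      apply hinj
      rw [← F1 ι Θ D₀ D hD hDD₀ (n + 1) f v hf j, hg j, map_mul, map_pow]
    have h2 := D₀_eq Θ D₀ hD₀ v
    have h3 : (Bmat Θ D₀ (n + 1)).mulVec v = Θ • (fun j => Θ ^ n * g j - derivative (v j)) := by
      rw [Bmat_mulVec]
      funext j
      have h4 := congrFun h2 j
      have h5 := h1 j
      simp only [Pi.add_apply, Pi.smul_apply, Pi.sub_apply, smul_eq_mul] at h4 ⊢
      rw [h4] at h5
      rw [pow_succ] at h5
      linear_combination -h5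
    obtain ⟨v₁, hv₁⟩ := inj_of_coprime _ Θ (hcop (n + 1) (Nat.succ_ne_zero n)) v _ h3
    apply ih f v₁ _ g hg
    intro j
    have h6 := hf j
    rw [hv₁, Pi.smul_apply, smul_eq_mul, map_mul, pow_succ', mul_assoc] at h6
    exact hΘu.mul_left_cancel h6

theorem claim1 (hΘu : IsUnit (ι Θ))
    (hD : ∀ (p : R[X]) (w : Fin d → L),
      D (fun j => ι p * w j) = fun j => ι (Θ * derivative p) * w j + ι p * D w j)
    (hDD₀ : ∀ v : Fin d → R[X], D (fun j => ι (v j)) = fun j => ι (D₀ v j))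
    (hD₀ : ∀ (p : R[X]) (v : Fin d → R[X]),
      D₀ (p • v) = (Θ * Polynomial.derivative p) • v + p • D₀ v)
    (hcop : ∀ n : ℕ, n ≠ 0 → IsCoprime (Bmat Θ D₀ n).det Θ) (n : ℕ) :
    ∀ (w : Fin d → L) (v : Fin d → R[X]), (∀ j, ι Θ ^ n * w j = ι (v j)) →
      ∃ (w' : Fin d → L) (v' : Fin d → R[X]), ∀ j, w j = D w' j + ι (v' j) := by
  induction n with
  | zero =>
    intro w v hw
    refine ⟨0, v, fun j => ?_⟩
    have := hw j
    rw [pow_zero, one_mul] at this
    rw [map_zero, Pi.zero_apply, zero_add, this]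
  | succ n ih =>
    intro w v hw
    obtain ⟨u, t, hut⟩ := surj_of_coprime _ Θ (hcop (n + 1) (Nat.succ_ne_zero n)) v
    obtain ⟨c, hc⟩ := hΘu
    set w₁ : Fin d → L := fun j => (↑(c⁻¹) : L) ^ (n + 1) * ι (u j) with hw₁
    have hw₁' : ∀ j, ι Θ ^ (n + 1) * w₁ j = ι (u j) := by
      intro j
      rw [hw₁, ← mul_assoc, ← mul_pow, ← hc, Units.mul_inv, one_pow, one_mul]
    have h1 := fun j => F1 ι Θ D₀ D hD hDD₀ (n + 1) w₁ u hw₁' j
    have h2 := D₀_eq Θ D₀ hD₀ u
    rw [Bmat_mulVec] at hut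
    have h3 : ∀ j, D₀ u j - C ((n + 1 : ℕ) : R) * derivative Θ * u j =
        v j + Θ * (derivative (u j) + t j) := by
      intro j
      have h4 := congrFun h2 j
      have h5 := congrFun hut j
      simp only [Pi.add_apply, Pi.smul_apply, Pi.sub_apply, smul_eq_mul] at h4 h5
      rw [h4]
      linear_combination h5
    obtain ⟨w'', v'', hwv⟩ := ih (fun j => w j - D w₁ j) (fun j => -(derivative (u j) + t j))
      (by
        intro j
        have h6 := h1 j
        rw [h3 j] at h6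
        have h7 := hw j
        have hcu : IsUnit (ι Θ) := ⟨c, hc⟩
        apply hcu.mul_left_cancel
        rw [← mul_assoc, ← pow_succ', mul_sub, h7, h6, map_add, map_mul, map_neg]
        ring)
    refine ⟨w₁ + w'', v'', fun j => ?_⟩
    have := hwv j
    rw [map_add, Pi.add_apply]
    linear_combination this

end Loc

end Groth.Agent.Lib.Helper91.LogConn
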