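import Mathlib

set_option autoImplicit false
universe u

namespace Groth.Agent.Lib.Helper91.NodeNF

open IsLocalRing

section SumPi

variable {R : Type u} [CommRing R] [IsLocalRing R] [IsAdicComplete (maximalIdeal R) R]

/-- partial sums of `Σ π^l c_l` -/
def psum (π : R) (c : ℕ → R) (n : ℕ) : R := ∑ l ∈ Finset.range n, π ^ l * c l

theorem psum_succ' (π : R) (c : ℕ → R) (n : ℕ) :
    psum π c (n + 1) = c 0 + π * psum π (fun l => c (l + 1)) n := by
  unfold psum
  rw [Finset.sum_range_succ', Finset.mul_sum, pow_zero, one_mul, add_comm]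
  congr 1
  apply Finset.sum_congr rfl
  intro l _
  rw [pow_succ]
  ring

theorem smul_top_eq (n : ℕ) :
    ((maximalIdeal R) ^ n • (⊤ : Submodule R R)) = (maximalIdeal R) ^ n := by
  rw [Ideal.smul_eq_mul, Ideal.mul_top]

theorem psum_cauchy (π : R) (hπ : π ∈ maximalIdeal R) (c : ℕ → R) {m n : ℕ} (hmn : m ≤ n) :
    psum π c m ≡ psum π c n [SMOD ((maximalIdeal R) ^ m • (⊤ : Submodule R R))] := by
  rw [SModEq.sub_mem, smul_top_eq]
  induction n, hmn using Nat.le_induction with
  | base => rw [sub_self]; exact Submodule.zero_mem _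
  | succ n hmn ih =>
    have : psum π c m - psum π c (n + 1) = (psum π c m - psum π c n) - π ^ n * c n := by
      unfold psum
      rw [Finset.sum_range_succ]
      ring
    rw [this]
    apply Submodule.sub_mem _ ih
    apply Ideal.mul_mem_right
    exact Ideal.pow_le_pow_right hmn (Ideal.pow_mem_pow hπ n)

theorem exists_limit (π : R) (hπ : π ∈ maximalIdeal R) (c : ℕ → R) :
    ∃ L : R, ∀ n, psum π c n - L ∈ (maximalIdeal R) ^ n := by
  obtain ⟨L, hL⟩ := IsPrecomplete.prec' (I := maximalIdeal R) (M := R) (psum π c)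
    (fun hmn => psum_cauchy π hπ c hmn)
  refine ⟨L, fun n => ?_⟩
  have := hL n
  rwa [SModEq.sub_mem, smul_top_eq] at this

/-- the sum `Σ_l π^l c_l` in the complete ring `R` -/
noncomputable def sumPi (π : R) (hπ : π ∈ maximalIdeal R) (c : ℕ → R) : R :=
  (exists_limit π hπ c).choose

theorem sumPi_spec (π : R) (hπ : π ∈ maximalIdeal R) (c : ℕ → R) (n : ℕ) :
    psum π c n - sumPi π hπ c ∈ (maximalIdeal R) ^ n :=
  (exists_limit π hπ c).choose_spec n

theorem eq_zero_of_forall_mem (x : R) (h : ∀ n, x ∈ (maximalIdeal R) ^ n) : x = 0 := by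
  apply IsHausdorff.haus' (I := maximalIdeal R) (M := R)
  intro n
  rw [SModEq.sub_mem, smul_top_eq, sub_zero]
  exact h n

theorem sumPi_succ (π : R) (hπ : π ∈ maximalIdeal R) (c : ℕ → R) :
    sumPi π hπ c = c 0 + π * sumPi π hπ (fun l => c (l + 1)) := by
  rw [← sub_eq_zero]
  apply eq_zero_of_forall_mem
  intro n
  have h1 := sumPi_spec π hπ c (n + 1)
  have h2 := sumPi_spec π hπ (fun l => c (l + 1)) n
  rw [psum_succ'] at h1
  have h1' : c 0 + π * psum π (fun l => c (l + 1)) n - sumPi π hπ c ∈ (maximalIdeal R) ^ n :=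
    Ideal.pow_le_pow_right (Nat.le_succ n) h1
  have h3 : π * (psum π (fun l => c (l + 1)) n - sumPi π hπ (fun l => c (l + 1))) ∈
      (maximalIdeal R) ^ n := Ideal.mul_mem_left _ _ h2
  have : sumPi π hπ c - (c 0 + π * sumPi π hπ (fun l => c (l + 1))) =
      π * (psum π (fun l => c (l + 1)) n - sumPi π hπ (fun l => c (l + 1))) -
      (c 0 + π * psum π (fun l => c (l + 1)) n - sumPi π hπ c) := by ring
  rw [this]
  exact Submodule.sub_mem _ h3 h1'

end SumPi


section Coeff

open MvPowerSeries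

variable {R : Type u} [CommRing R]

theorem coeff_toMv_single (i : Fin 2) (f : PowerSeries R) (n : ℕ) :
    MvPowerSeries.coeff (Finsupp.single i n) (PowerSeries.toMvPowerSeries (σ := Fin 2) i f) =
      PowerSeries.coeff n f := by
  have h : (Finsupp.single i n : Fin 2 →₀ ℕ) =
      Finsupp.embDomain (Function.Embedding.punit i) (Finsupp.single PUnit.unit n) := by
    rw [Finsupp.embDomain_single]; rfl
  rw [h, PowerSeries.toMvPowerSeries_apply]
  exact MvPowerSeries.coeff_embDomain_rename (Function.Embedding.punit i) f _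

theorem coeff_toMv_ne (i : Fin 2) (f : PowerSeries R) (m : Fin 2 →₀ ℕ)
    (hm : ∀ n, m ≠ Finsupp.single i n) :
    MvPowerSeries.coeff m (PowerSeries.toMvPowerSeries (σ := Fin 2) i f) = 0 := by
  rw [PowerSeries.toMvPowerSeries_apply]
  apply MvPowerSeries.coeff_rename_eq_zero
  rintro ⟨d, hd⟩
  apply hm (d ())
  rw [← hd]
  conv_lhs => rw [Finsupp.unique_single d]
  rw [Finsupp.mapDomain_single]

/-- the exponent `x^a y^b` -/
noncomputable def idx (a b : ℕ) : Fin 2 →₀ ℕ := Finsupp.single 0 a + Finsupp.single 1 b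

@[simp] theorem idx_zero (a b : ℕ) : idx a b 0 = a := by simp [idx]
@[simp] theorem idx_one (a b : ℕ) : idx a b 1 = b := by simp [idx]

theorem idx_eta (m : Fin 2 →₀ ℕ) : m = idx (m 0) (m 1) := by
  ext j
  fin_cases j <;> simp

theorem idx_inj {a b a' b' : ℕ} (h : idx a b = idx a' b') : a = a' ∧ b = b' := by
  constructor
  · have := congrArg (fun m => m 0) h; simpa using this
  · have := congrArg (fun m => m 1) h; simpa using this

theorem idx_eq_single0 (a : ℕ) : idx a 0 = Finsupp.single 0 a := by simp [idx]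
theorem idx_eq_single1 (b : ℕ) : idx 0 b = Finsupp.single 1 b := by simp [idx]

theorem coeff_toMv0 (F : PowerSeries R) (a b : ℕ) :
    MvPowerSeries.coeff (idx a b) (PowerSeries.toMvPowerSeries (σ := Fin 2) 0 F) =
      if b = 0 then PowerSeries.coeff a F else 0 := by
  split_ifs with hb
  · subst hb
    rw [idx_eq_single0, coeff_toMv_single]
  · apply coeff_toMv_ne
    intro n hn
    have := congrArg (fun m => m 1) hn
    simp at this
    exact hb this

theorem coeff_toMv1 (G : PowerSeries R) (a b : ℕ) :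
    MvPowerSeries.coeff (idx a b) (PowerSeries.toMvPowerSeries (σ := Fin 2) 1 G) =
      if a = 0 then PowerSeries.coeff b G else 0 := by
  split_ifs with ha
  · subst ha
    rw [idx_eq_single1, coeff_toMv_single]
  · apply coeff_toMv_ne
    intro n hn
    have := congrArg (fun m => m 0) hn
    simp at this
    exact ha this

theorem idx_sub (a b a' b' : ℕ) : idx a b - idx a' b' = idx (a - a') (b - b') := by
  ext j
  fin_cases j <;> simp

theorem idx_le (a b a' b' : ℕ) : idx a' b' ≤ idx a b ↔ a' ≤ a ∧ b' ≤ b := by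
  rw [Finsupp.le_def]
  constructor
  · intro h
    have h0 := h 0
    have h1 := h 1
    simp at h0 h1
    exact ⟨h0, h1⟩
  · rintro ⟨h0, h1⟩ j
    fin_cases j <;> simp [h0, h1]

theorem coeff_Xy_mul (φ : MvPowerSeries (Fin 2) R) (a b : ℕ) :
    MvPowerSeries.coeff (idx a b) (MvPowerSeries.X 1 * φ) =
      if 1 ≤ b then MvPowerSeries.coeff (idx a (b - 1)) φ else 0 := by
  have hX : (MvPowerSeries.X 1 : MvPowerSeries (Fin 2) R) = MvPowerSeries.monomial (idx 0 1) 1 := by
    rw [idx_eq_single1]; rfl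
  rw [hX, MvPowerSeries.coeff_monomial_mul, idx_sub]
  simp only [idx_le, one_mul, Nat.zero_le, true_and, Nat.sub_zero]

theorem coeff_Xx_mul (φ : MvPowerSeries (Fin 2) R) (a b : ℕ) :
    MvPowerSeries.coeff (idx a b) (MvPowerSeries.X 0 * φ) =
      if 1 ≤ a then MvPowerSeries.coeff (idx (a - 1) b) φ else 0 := by
  have hX : (MvPowerSeries.X 0 : MvPowerSeries (Fin 2) R) = MvPowerSeries.monomial (idx 1 0) 1 := by
    rw [idx_eq_single0]; rfl
  rw [hX, MvPowerSeries.coeff_monomial_mul, idx_sub]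
  simp only [idx_le, one_mul, Nat.zero_le, and_true, Nat.sub_zero]

/-- the relation `xy - π` -/
noncomputable def rel (π : R) : MvPowerSeries (Fin 2) R :=
  MvPowerSeries.X 0 * MvPowerSeries.X 1 - MvPowerSeries.C π

theorem coeff_rel_mul (π : R) (H : MvPowerSeries (Fin 2) R) (a b : ℕ) :
    MvPowerSeries.coeff (idx a b) (rel π * H) =
      (if 1 ≤ a ∧ 1 ≤ b then MvPowerSeries.coeff (idx (a - 1) (b - 1)) H else 0) -
        π * MvPowerSeries.coeff (idx a b) H := by
  unfold rel
  rw [sub_mul, map_sub, MvPowerSeries.coeff_C_mul, mul_assoc, coeff_Xx_mul]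
  congr 1
  by_cases ha : 1 ≤ a
  · rw [if_pos ha, coeff_Xy_mul]
    by_cases hb : 1 ≤ b
    · rw [if_pos hb, if_pos ⟨ha, hb⟩]
    · rw [if_neg hb, if_neg (fun h => hb h.2)]
  · rw [if_neg ha, if_neg (fun h => ha h.1)]

end Coeff


section NF

open MvPowerSeries

variable {R : Type u} [CommRing R] [IsLocalRing R] [IsAdicComplete (maximalIdeal R) R]

/-- power series from a function of two exponents -/
def mk2 (F : ℕ → ℕ → R) : MvPowerSeries (Fin 2) R := fun m => F (m 0) (m 1)

theorem coeff_mk2 (F : ℕ → ℕ → R) (a b : ℕ) :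
    MvPowerSeries.coeff (idx a b) (mk2 F) = F a b := by
  show F (idx a b 0) (idx a b 1) = F a b
  rw [idx_zero, idx_one]

theorem ext_idx {φ ψ : MvPowerSeries (Fin 2) R}
    (h : ∀ a b, MvPowerSeries.coeff (idx a b) φ = MvPowerSeries.coeff (idx a b) ψ) : φ = ψ := by
  ext m
  rw [idx_eta m]
  exact h _ _

/-- existence of the normal form `f(x) + y g(y)` modulo `xy - π` -/
theorem nf_exists (π : R) (hπ : π ∈ maximalIdeal R) (h : MvPowerSeries (Fin 2) R) :
    ∃ (f g : PowerSeries R) (H : MvPowerSeries (Fin 2) R),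
      h - PowerSeries.toMvPowerSeries (σ := Fin 2) 0 f -
        MvPowerSeries.X 1 * PowerSeries.toMvPowerSeries (σ := Fin 2) 1 g = rel π * H := by
  let c : ℕ → ℕ → R := fun a b => MvPowerSeries.coeff (idx a b) h
  let Hs : ℕ → ℕ → R := fun a b => sumPi π hπ (fun l => c (a + (l + 1)) (b + (l + 1)))
  let fx : ℕ → R := fun a => sumPi π hπ (fun l => c (a + l) l)
  let gy : ℕ → R := fun b => sumPi π hπ (fun l => c l (b + 1 + l))
  have hfx' : ∀ a, fx a = c a 0 + π * Hs a 0 := by
    intro a
    show sumPi π hπ (fun l => c (a + l) l) =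
      c a 0 + π * sumPi π hπ (fun l => c (a + (l + 1)) (0 + (l + 1)))
    rw [sumPi_succ]
    simp only [Nat.add_zero, Nat.zero_add]
  have hgy' : ∀ b, gy b = c 0 (b + 1) + π * Hs 0 (b + 1) := by
    intro b
    show sumPi π hπ (fun l => c l (b + 1 + l)) =
      c 0 (b + 1) + π * sumPi π hπ (fun l => c (0 + (l + 1)) (b + 1 + (l + 1)))
    rw [sumPi_succ]
    simp only [Nat.add_zero, Nat.zero_add]
  have hHs' : ∀ a b, Hs a b = c (a + 1) (b + 1) + π * Hs (a + 1) (b + 1) := by
    intro a b
    show sumPi π hπ (fun l => c (a + (l + 1)) (b + (l + 1))) =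
      c (a + 1) (b + 1) + π * sumPi π hπ (fun l => c (a + 1 + (l + 1)) (b + 1 + (l + 1)))
    rw [sumPi_succ]
    have e : (fun l => c (a + (l + 1 + 1)) (b + (l + 1 + 1))) =
        fun l => c (a + 1 + (l + 1)) (b + 1 + (l + 1)) := by
      funext l
      congr 1 <;> omega
    rw [e]
  refine ⟨PowerSeries.mk fx, PowerSeries.mk gy, mk2 Hs, ?_⟩
  apply ext_idx
  intro a b
  rw [map_sub, map_sub, coeff_toMv0, coeff_Xy_mul, coeff_rel_mul]
  simp only [coeff_mk2]
  rcases Nat.eq_zero_or_pos b with hb | hb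
  · subst hb
    rw [if_pos rfl, if_neg (by omega), if_neg (by omega), PowerSeries.coeff_mk, hfx' a]
    show c a 0 - (c a 0 + π * Hs a 0) - 0 = 0 - π * Hs a 0
    ring
  · obtain ⟨b, rfl⟩ : ∃ b', b = b' + 1 := ⟨b - 1, by omega⟩
    rw [if_neg (by omega), if_pos (by omega), Nat.add_sub_cancel, coeff_toMv1]
    rcases Nat.eq_zero_or_pos a with ha | ha
    · subst ha
      rw [if_pos rfl, if_neg (by omega), PowerSeries.coeff_mk, hgy' b]
      show c 0 (b + 1) - 0 - (c 0 (b + 1) + π * Hs 0 (b + 1)) = 0 - π * Hs 0 (b + 1)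
      ring
    · obtain ⟨a, rfl⟩ : ∃ a', a = a' + 1 := ⟨a - 1, by omega⟩
      rw [if_neg (by omega), if_pos ⟨by omega, by omega⟩, Nat.add_sub_cancel, hHs' a b]
      show c (a + 1) (b + 1) - 0 - 0 = c (a + 1) (b + 1) + π * Hs (a + 1) (b + 1) -
        π * Hs (a + 1) (b + 1)
      ring

/-- uniqueness of the normal form -/
theorem nf_unique (π : R) (hπ : π ∈ maximalIdeal R) (f g : PowerSeries R)
    (H : MvPowerSeries (Fin 2) R)
    (h : PowerSeries.toMvPowerSeries (σ := Fin 2) 0 f +
        MvPowerSeries.X 1 * PowerSeries.toMvPowerSeries (σ := Fin 2) 1 g = rel π * H) :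
    f = 0 ∧ g = 0 := by
  have hcoef : ∀ a b, MvPowerSeries.coeff (idx a b) (PowerSeries.toMvPowerSeries (σ := Fin 2) 0 f +
        MvPowerSeries.X 1 * PowerSeries.toMvPowerSeries (σ := Fin 2) 1 g) =
      (if b = 0 then PowerSeries.coeff a f else 0) +
        (if 1 ≤ b then (if a = 0 then PowerSeries.coeff (b - 1) g else 0) else 0) := by
    intro a b
    rw [map_add, coeff_toMv0, coeff_Xy_mul]
    congr 1
    split_ifs <;> first | rfl | (rw [coeff_toMv1]; simp [*])
  have h1 : ∀ a b, MvPowerSeries.coeff (idx a b) H =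
      π * MvPowerSeries.coeff (idx (a + 1) (b + 1)) H := by
    intro a b
    have h2 := congrArg (MvPowerSeries.coeff (idx (a + 1) (b + 1))) h
    rw [hcoef, coeff_rel_mul, if_neg (by omega), if_pos (by omega), if_neg (by omega),
      if_pos ⟨by omega, by omega⟩, Nat.add_sub_cancel, Nat.add_sub_cancel, add_zero] at h2
    exact (sub_eq_zero.mp h2.symm)
  have h2 : ∀ n a b, MvPowerSeries.coeff (idx a b) H =
      π ^ n * MvPowerSeries.coeff (idx (a + n) (b + n)) H := by
    intro n
    induction n with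
    | zero => intro a b; simp
    | succ n ih =>
      intro a b
      rw [ih a b, h1 (a + n) (b + n), pow_succ, mul_assoc, add_assoc, add_assoc]
  have hH : H = 0 := by
    apply ext_idx
    intro a b
    rw [map_zero]
    apply eq_zero_of_forall_mem
    intro n
    rw [h2 n a b]
    exact Ideal.mul_mem_right _ _ (Ideal.pow_mem_pow hπ n)
  rw [hH, mul_zero] at h
  constructor
  · ext a
    have := congrArg (MvPowerSeries.coeff (idx a 0)) h
    rw [hcoef, if_pos rfl, if_neg (by omega), add_zero, map_zero] at this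
    rw [this, map_zero]
  · ext b
    have := congrArg (MvPowerSeries.coeff (idx 0 (b + 1))) h
    rw [hcoef, if_neg (by omega), if_pos (by omega), if_pos rfl, Nat.add_sub_cancel, zero_add,
      map_zero] at this
    rw [this, map_zero]

end NF

end Groth.Agent.Lib.Helper91.NodeNF
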