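import Mathlib
import Groth.Prelude.Def_W4c5spincurvestfNode
import Groth.Agent.Lib.Helper91.NodeNF

set_option autoImplicit false
set_option linter.unusedSectionVars false
universe u

namespace Groth.Agent.Lib.Helper91.NodeNF

open IsLocalRing SpinCurv

variable {R : Type u} [CommRing R] [IsLocalRing R] [IsAdicComplete (maximalIdeal R) R]

/-- `f ↦ f(x)` as a ring hom into the node ring -/
noncomputable def oX (π : R) : PowerSeries R →+* NodeRing R π :=
  (Ideal.Quotient.mk _).comp (PowerSeries.toMvPowerSeries (σ := Fin 2) 0).toRingHom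

/-- `g ↦ g(y)` as a ring hom into the node ring -/
noncomputable def oY (π : R) : PowerSeries R →+* NodeRing R π :=
  (Ideal.Quotient.mk _).comp (PowerSeries.toMvPowerSeries (σ := Fin 2) 1).toRingHom

theorem oX_eq (π : R) (f : PowerSeries R) : oX π f = NodeRing.ofX R π f := rfl
theorem oY_eq (π : R) (g : PowerSeries R) : oY π g = NodeRing.ofY R π g := rfl

theorem oX_X (π : R) : oX π PowerSeries.X = NodeRing.x R π := by
  show Ideal.Quotient.mk _ (PowerSeries.toMvPowerSeries (σ := Fin 2) 0 PowerSeries.X) = _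
  rw [PowerSeries.toMvPowerSeries_X]

theorem oY_X (π : R) : oY π PowerSeries.X = NodeRing.y R π := by
  show Ideal.Quotient.mk _ (PowerSeries.toMvPowerSeries (σ := Fin 2) 1 PowerSeries.X) = _
  rw [PowerSeries.toMvPowerSeries_X]

theorem algebraMap_node (π : R) (r : R) :
    algebraMap R (NodeRing R π) r = Ideal.Quotient.mk _ (MvPowerSeries.C r) := rfl

theorem oX_C (π : R) (r : R) : oX π (PowerSeries.C r) = algebraMap R (NodeRing R π) r := by
  show Ideal.Quotient.mk _ (PowerSeries.toMvPowerSeries (σ := Fin 2) 0 (PowerSeries.C r)) = _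
  rw [PowerSeries.toMvPowerSeries_C]
  rfl

theorem oY_C (π : R) (r : R) : oY π (PowerSeries.C r) = algebraMap R (NodeRing R π) r := by
  show Ideal.Quotient.mk _ (PowerSeries.toMvPowerSeries (σ := Fin 2) 1 (PowerSeries.C r)) = _
  rw [PowerSeries.toMvPowerSeries_C]
  rfl

theorem xy_eq (π : R) : NodeRing.x R π * NodeRing.y R π = algebraMap R (NodeRing R π) π := by
  rw [algebraMap_node, ← map_mul, ← sub_eq_zero, ← map_sub, Ideal.Quotient.eq_zero_iff_mem]
  exact Ideal.subset_span rfl

/-- existence of normal form in the node ring -/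
theorem node_exists (π : R) (hπ : π ∈ maximalIdeal R) (a : NodeRing R π) :
    ∃ f g : PowerSeries R, a = oX π f + NodeRing.y R π * oY π g := by
  obtain ⟨h, rfl⟩ := Ideal.Quotient.mk_surjective a
  obtain ⟨f, g, H, hH⟩ := nf_exists π hπ h
  refine ⟨f, g, ?_⟩
  have : Ideal.Quotient.mk (Ideal.span {(MvPowerSeries.X 0 * MvPowerSeries.X 1 -
      MvPowerSeries.C π : MvPowerSeries (Fin 2) R)}) (h - PowerSeries.toMvPowerSeries (σ := Fin 2) 0 f -
        MvPowerSeries.X 1 * PowerSeries.toMvPowerSeries (σ := Fin 2) 1 g) = 0 := by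
    rw [Ideal.Quotient.eq_zero_iff_mem, hH]
    exact Ideal.mul_mem_right _ _ (Ideal.subset_span rfl)
  rw [map_sub, map_sub, map_mul] at this
  show _ = Ideal.Quotient.mk _ _ + Ideal.Quotient.mk _ _ * Ideal.Quotient.mk _ _
  linear_combination this

/-- uniqueness of normal form in the node ring -/
theorem node_unique (π : R) (hπ : π ∈ maximalIdeal R) (f g : PowerSeries R)
    (h : oX π f + NodeRing.y R π * oY π g = 0) : f = 0 ∧ g = 0 := by
  have h' : Ideal.Quotient.mk (Ideal.span {(MvPowerSeries.X 0 * MvPowerSeries.X 1 -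
      MvPowerSeries.C π : MvPowerSeries (Fin 2) R)}) (PowerSeries.toMvPowerSeries (σ := Fin 2) 0 f +
        MvPowerSeries.X 1 * PowerSeries.toMvPowerSeries (σ := Fin 2) 1 g) = 0 := by
    rw [map_add, map_mul]
    exact h
  rw [Ideal.Quotient.eq_zero_iff_mem, Ideal.mem_span_singleton'] at h'
  obtain ⟨H, hH⟩ := h'
  apply nf_unique π hπ f g H
  rw [← hH, mul_comm]
  rfl

/-- shift of a power series: `f = C f₀ + X * shift f` -/
noncomputable def shift (f : PowerSeries R) : PowerSeries R :=
  PowerSeries.mk fun n => PowerSeries.coeff (n + 1) f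

theorem shift_spec (f : PowerSeries R) :
    f = PowerSeries.C (PowerSeries.constantCoeff f) + PowerSeries.X * shift f := by
  ext n
  cases n with
  | zero => simp [shift]
  | succ n =>
    rw [map_add, PowerSeries.coeff_succ_X_mul]
    simp [shift, PowerSeries.coeff_C]

/-- the other normal form `g(y) + x f(x)` -/
theorem node_exists' (π : R) (hπ : π ∈ maximalIdeal R) (b : NodeRing R π) :
    ∃ g f : PowerSeries R, b = oY π g + NodeRing.x R π * oX π f := by
  obtain ⟨f, g, hb⟩ := node_exists π hπ b
  refine ⟨PowerSeries.C (PowerSeries.constantCoeff f) + PowerSeries.X * g, shift f, ?_⟩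
  rw [hb]
  conv_lhs => rw [shift_spec f]
  rw [map_add, map_mul, map_add, map_mul, oX_X, oY_X, oX_C, oY_C]
  ring

end Groth.Agent.Lib.Helper91.NodeNF
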