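import Mathlib

set_option autoImplicit false
universe u
open CategoryTheory AlgebraicGeometry TopologicalSpace Opposite

namespace Groth.Agent.Lib.Helper91.S7669Alg

/-- (C): if no prime `q ≤ m` contains `J` and avoids `h`, then `(g h)^n ∈ J` for some `g ∉ m`. -/
lemma exists_mul_pow_mem {A : Type*} [CommRing A] (m : Ideal A) [m.IsPrime] (J : Ideal A) (h : A)
    (hq : ∀ q : Ideal A, q.IsPrime → q ≤ m → J ≤ q → h ∈ q) :
    ∃ g : A, g ∉ m ∧ ∃ n : ℕ, (g * h) ^ n ∈ J := by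
  by_contra hcon
  simp only [not_exists, not_and] at hcon
  -- the submonoid generated by the complement of `m` and `h`
  let S : Submonoid A := m.primeCompl ⊔ Submonoid.powers h
  have hdisj : Disjoint (J : Set A) (S : Set A) := by
    rw [Set.disjoint_left]
    intro a haJ haS
    obtain ⟨s, hs, t, ht, rfl⟩ := Submonoid.mem_sup.mp haS
    obtain ⟨n, rfl⟩ := (Submonoid.mem_powers_iff t h).mp ht
    apply hcon s hs (n + 1)
    have : (s * h) ^ (n + 1) = (s ^ n * h) * (s * h ^ n) := by ring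
    rw [this]
    exact J.mul_mem_left _ haJ
  obtain ⟨q, hqp, hJq, hqS⟩ := Ideal.exists_le_prime_disjoint J S hdisj
  have hqm : q ≤ m := by
    intro a haq
    by_contra ham
    exact (Set.disjoint_left.mp hqS) haq (Submonoid.mem_sup_left (show a ∈ m.primeCompl from ham))
  have hhq : h ∈ q := hq q hqp hqm hJq
  exact (Set.disjoint_left.mp hqS) hhq (Submonoid.mem_sup_right (Submonoid.mem_powers h))

/-- finiteness of the prime spectrum of a Noetherian local ring of dimension at most one -/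
lemma finite_primes {R : Type*} [CommRing R] [IsLocalRing R] [IsNoetherianRing R]
    (hdim : ringKrullDim R ≤ 1) : Finite (PrimeSpectrum R) := by
  have h1 : Ring.KrullDimLE 1 R := (Ring.krullDimLE_iff).mpr hdim
  have h2 := (Ring.krullDimLE_one_iff).mp h1
  have hfin : (minimalPrimes R ∪ {IsLocalRing.maximalIdeal R}).Finite :=
    (minimalPrimes.finite_of_isNoetherianRing R).union (Set.finite_singleton _)
  haveI : Finite ↥(minimalPrimes R ∪ {IsLocalRing.maximalIdeal R}) := hfin.to_subtype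
  apply Finite.of_injective (β := ↥(minimalPrimes R ∪ {IsLocalRing.maximalIdeal R}))
    (fun p : PrimeSpectrum R => ⟨p.asIdeal, by
      rcases h2 p.asIdeal p.isPrime with h | h
      · exact Or.inl h
      · exact Or.inr (IsLocalRing.eq_maximalIdeal h)⟩)
  intro p q hpq
  exact PrimeSpectrum.ext (congrArg Subtype.val hpq)


variable {X : Scheme.{u}}

lemma exists_prime_of_mem {W : X.Opens} (hW : IsAffineOpen W) (z : X) (hz : z ∈ W) :
    ∃ q : PrimeSpectrum Γ(X, W), hW.fromSpec q = z := by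
  have : z ∈ Set.range hW.fromSpec := by
    rw [hW.range_fromSpec]
    exact hz
  exact this

lemma fromSpec_mem_basicOpen {W : X.Opens} (hW : IsAffineOpen W) (f : Γ(X, W))
    (q : PrimeSpectrum Γ(X, W)) : hW.fromSpec q ∈ X.basicOpen f ↔ f ∉ q.asIdeal := by
  have h1 : hW.fromSpec q ∈ X.basicOpen f ↔ q ∈ hW.fromSpec ⁻¹ᵁ X.basicOpen f := Iff.rfl
  rw [h1, hW.fromSpec_preimage_basicOpen]
  rfl

/-- (C') -/
lemma exists_basicOpen_disjoint {W : X.Opens} (hW : IsAffineOpen W) (x : X) (hx : x ∈ W)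
    (h : Γ(X, W)) (C : Set X) (hC : IsClosed C)
    (hgen : ∀ z ∈ C, z ∈ X.basicOpen h → ¬ z ⤳ x) :
    ∃ g : Γ(X, W), x ∈ X.basicOpen g ∧ ∀ z ∈ X.basicOpen g, z ∈ X.basicOpen h → z ∉ C := by
  obtain ⟨m, hm⟩ := exists_prime_of_mem hW x hx
  let C' : Set (PrimeSpectrum Γ(X, W)) := hW.fromSpec ⁻¹' C
  have hC' : IsClosed C' := hC.preimage hW.fromSpec.continuous
  let J := PrimeSpectrum.vanishingIdeal C'
  have hJ : PrimeSpectrum.zeroLocus (J : Set Γ(X, W)) = C' := by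
    rw [PrimeSpectrum.zeroLocus_vanishingIdeal_eq_closure, hC'.closure_eq]
  have key : ∃ g : Γ(X, W), g ∉ m.asIdeal ∧ ∃ n : ℕ, (g * h) ^ n ∈ J := by
    apply exists_mul_pow_mem m.asIdeal J h
    intro q hqp hqm hJq
    by_contra hhq
    let q' : PrimeSpectrum Γ(X, W) := ⟨q, hqp⟩
    have hq'C : q' ∈ C' := by
      rw [← hJ]
      exact hJq
    have h1 : hW.fromSpec q' ∈ X.basicOpen h := (fromSpec_mem_basicOpen hW h q').mpr hhq
    have h2 : hW.fromSpec q' ⤳ x := by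
      rw [← hm]
      exact ((PrimeSpectrum.le_iff_specializes q' m).mp hqm).map hW.fromSpec.continuous
    exact hgen _ hq'C h1 h2
  obtain ⟨g, hgm, n, hn⟩ := key
  refine ⟨g, ?_, ?_⟩
  · rw [← hm]
    exact (fromSpec_mem_basicOpen hW g m).mpr hgm
  · intro z hzg hzh hzC
    have hzW : z ∈ W := X.basicOpen_le g hzg
    obtain ⟨q, rfl⟩ := exists_prime_of_mem hW z hzW
    have hqg : g ∉ q.asIdeal := (fromSpec_mem_basicOpen hW g q).mp hzg
    have hqh : h ∉ q.asIdeal := (fromSpec_mem_basicOpen hW h q).mp hzh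
    have hqC : q ∈ C' := hzC
    rw [← hJ] at hqC
    have h3 : (g * h) ^ n ∈ q.asIdeal := hqC hn
    have h4 := q.isPrime.mem_of_pow_mem n h3
    rcases q.isPrime.mem_or_mem h4 with h5 | h5
    exacts [hqg h5, hqh h5]

lemma finite_generizations (x : X) (hN : IsNoetherianRing (X.presheaf.stalk x))
    (hdim : ringKrullDim (X.presheaf.stalk x) ≤ 1) : {z : X | z ⤳ x}.Finite := by
  haveI : Finite (PrimeSpectrum (X.presheaf.stalk x)) := finite_primes hdim
  haveI : Finite ↥(Spec (X.presheaf.stalk x)) := ‹Finite (PrimeSpectrum (X.presheaf.stalk x))›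
  rw [← Scheme.range_fromSpecStalk]
  exact Set.finite_range _


lemma exists_open_isolating (U : X.Opens) (hdisc : DiscreteTopology ↥((U : Set X)ᶜ)) (y : X) :
    ∃ O₁ : X.Opens, y ∈ O₁ ∧ ∀ z ∈ O₁, z ∉ U → z = y := by
  by_cases hy : y ∈ U
  · exact ⟨U, hy, fun z hz hz' => absurd hz hz'⟩
  · have hopen : IsOpen ({⟨y, hy⟩} : Set ((U : Set X)ᶜ : Set X)) := isOpen_discrete _
    obtain ⟨t, ht, hte⟩ := isOpen_induced_iff.mp hopen
    refine ⟨⟨t, ht⟩, ?_, ?_⟩
    · have : (⟨y, hy⟩ : ((U : Set X)ᶜ : Set X)) ∈ Subtype.val ⁻¹' t := by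
        rw [hte]; rfl
      exact this
    · intro z hz hzV
      have : (⟨z, hzV⟩ : ((U : Set X)ᶜ : Set X)) ∈ Subtype.val ⁻¹' t := hz
      rw [hte] at this
      exact congrArg Subtype.val (Set.mem_singleton_iff.mp this)

/-- G1 -/
lemma exists_nhd_function (U : X.Opens) [QuasiCompact U.ι]
    (hdisc : DiscreteTopology ↥((U : Set X)ᶜ))
    (x : X) (hxU : x ∉ U) (hN : IsNoetherianRing (X.presheaf.stalk x))
    (hdim : ringKrullDim (X.presheaf.stalk x) ≤ 1) :
    ∃ (W : X.Opens) (_ : IsAffineOpen W) (f : Γ(X, W)), x ∈ W ∧ (∀ z ∈ W, z ∉ U → z = x) ∧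
      X.basicOpen f = U ⊓ W := by
  classical
  obtain ⟨O₁, hxO, hO⟩ := exists_open_isolating U hdisc x
  obtain ⟨W₀, hW₀, hxW₀, hW₀O⟩ := exists_isAffineOpen_mem_and_subset (x := x) (U := O₁) hxO
  have hTfin := finite_generizations x hN hdim
  obtain ⟨m, hm⟩ := exists_prime_of_mem hW₀ x hxW₀
  have hinj : Function.Injective hW₀.fromSpec := hW₀.fromSpec.isOpenEmbedding.injective
  -- the finitely many primes strictly below `m`
  let Q : Set (PrimeSpectrum Γ(X, W₀)) := {q | hW₀.fromSpec q ⤳ x ∧ q ≠ m}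
  have hQfin : Q.Finite := by
    have h1 : (hW₀.fromSpec ⁻¹' {z : X | z ⤳ x}).Finite :=
      Set.Finite.preimage hinj.injOn hTfin
    exact h1.subset (fun q hq => hq.1)
  have hQlt : ∀ q ∈ Q, ¬ m.asIdeal ≤ q.asIdeal := by
    intro q hq hmq
    have h1 : hW₀.fromSpec q ⤳ hW₀.fromSpec m := by rw [hm]; exact hq.1
    have h2 : q ⤳ m := hW₀.fromSpec.isOpenEmbedding.isInducing.specializes_iff.mp h1
    have h3 : q ≤ m := (PrimeSpectrum.le_iff_specializes q m).mpr h2
    exact hq.2 (le_antisymm h3 hmq)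
  -- prime avoidance
  obtain ⟨f, hfm, hfQ⟩ : ∃ f : Γ(X, W₀), f ∈ m.asIdeal ∧ ∀ q ∈ Q, f ∉ q.asIdeal := by
    have h1 : ¬ ((m.asIdeal : Set Γ(X, W₀)) ⊆ ⋃ q ∈ (↑hQfin.toFinset : Set (PrimeSpectrum Γ(X, W₀))),
        (q.asIdeal : Set Γ(X, W₀))) := by
      rw [Ideal.subset_union_prime (f := fun q : PrimeSpectrum Γ(X, W₀) => q.asIdeal) m m
        (fun q _ _ _ => q.isPrime)]
      rintro ⟨q, hq, hmq⟩
      exact hQlt q ((Set.Finite.mem_toFinset hQfin).mp hq) hmq
    rw [Set.not_subset] at h1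
    obtain ⟨f, hfm, hf⟩ := h1
    refine ⟨f, hfm, fun q hq hfq => hf ?_⟩
    simp only [Set.mem_iUnion]
    exact ⟨q, (Set.Finite.mem_toFinset hQfin).mpr hq, hfq⟩
  have hxf : x ∉ X.basicOpen f := by
    rw [← hm, fromSpec_mem_basicOpen hW₀ f m]
    exact fun h => h hfm
  have hTf : ∀ z : X, z ⤳ x → z ≠ x → z ∈ X.basicOpen f := by
    intro z hzx hne
    have hzW : z ∈ W₀ := hzx.mem_open W₀.isOpen hxW₀
    obtain ⟨q, rfl⟩ := exists_prime_of_mem hW₀ z hzW
    rw [fromSpec_mem_basicOpen hW₀ f q]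
    apply hfQ q
    refine ⟨hzx, ?_⟩
    rintro rfl
    exact hne hm
  have hfU : X.basicOpen f ≤ U ⊓ W₀ := by
    intro z hz
    have hzW : z ∈ W₀ := X.basicOpen_le f hz
    refine ⟨?_, hzW⟩
    by_contra hzU
    have := hO z (hW₀O hzW) hzU
    rw [this] at hz
    exact hxf hz
  -- compactness
  have hK : IsCompact ((U ⊓ W₀ : X.Opens) : Set X) := by
    have h1 : IsCompact (U.ι ⁻¹' (W₀ : Set X)) :=
      QuasiCompact.isCompact_preimage (f := U.ι) _ W₀.isOpen hW₀.isCompact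
    have h2 := h1.image U.ι.continuous
    rw [Set.image_preimage_eq_inter_range, Scheme.Opens.range_ι] at h2
    rw [Opens.coe_inf, Set.inter_comm]
    exact h2
  have hP : ∃ g : Γ(X, W₀), x ∈ X.basicOpen g ∧
      ∀ z ∈ X.basicOpen g, z ∈ ((U ⊓ W₀ : X.Opens) : Set X) → z ∈ X.basicOpen f := by
    refine hK.induction_on (p := fun K' => ∃ g : Γ(X, W₀), x ∈ X.basicOpen g ∧
      ∀ z ∈ X.basicOpen g, z ∈ K' → z ∈ X.basicOpen f) ?_ ?_ ?_ ?_
    · refine ⟨1, ?_, fun z _ hz => absurd hz (Set.notMem_empty z)⟩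
      rw [X.basicOpen_of_isUnit isUnit_one]
      exact hxW₀
    · rintro s t hst ⟨g, hxg, hg⟩
      exact ⟨g, hxg, fun z hz hzs => hg z hz (hst hzs)⟩
    · rintro s t ⟨g₁, hxg₁, hg₁⟩ ⟨g₂, hxg₂, hg₂⟩
      refine ⟨g₁ * g₂, ?_, ?_⟩
      · rw [Scheme.basicOpen_mul]
        exact ⟨hxg₁, hxg₂⟩
      · intro z hz hzst
        rw [Scheme.basicOpen_mul] at hz
        rcases hzst with h | h
        · exact hg₁ z hz.1 h
        · exact hg₂ z hz.2 h
    · intro z hz
      obtain ⟨h, hhK, hzh⟩ := hW₀.exists_basicOpen_le (V := U ⊓ W₀) ⟨z, hz⟩ hz.2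
      obtain ⟨g, hxg, hg⟩ := exists_basicOpen_disjoint hW₀ x hxW₀ h
        ((X.basicOpen f : Set X)ᶜ) (X.basicOpen f).isOpen.isClosed_compl (by
          intro w hwC hwh hwx
          apply hwC
          apply hTf w hwx
          rintro rfl
          exact hxU (hhK hwh).1)
      refine ⟨X.basicOpen h, ?_, g, hxg, ?_⟩
      · exact mem_nhdsWithin_of_mem_nhds ((X.basicOpen h).isOpen.mem_nhds hzh)
      · intro w hwg hwh
        by_contra hwf
        exact hg w hwg hwh hwf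
  obtain ⟨g, hxg, hg⟩ := hP
  refine ⟨X.basicOpen g, hW₀.basicOpen g,
    X.presheaf.map (homOfLE (X.basicOpen_le g)).op f, hxg, ?_, ?_⟩
  · intro z hz hzU
    exact hO z (hW₀O (X.basicOpen_le g hz)) hzU
  · rw [Scheme.basicOpen_res]
    apply le_antisymm
    · intro z hz
      exact ⟨(hfU hz.2).1, hz.1⟩
    · intro z hz
      exact ⟨hz.2, hg z hz.2 ⟨hz.1, X.basicOpen_le g hz.2⟩⟩

end Groth.Agent.Lib.Helper91.S7669Alg
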