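import Mathlib
import Groth.Agent.Lib.Helper35.FinPic
import Groth.Agent.Lib.Helper35.ClosedCoverPic
import Groth.Agent.Lib.Helper91.S7669Alg
import Groth.Agent.Lib.Lead.SheafGlue
import Groth.Agent.Lib.Helper91.PicDim1Top

set_option autoImplicit false
universe u
open CategoryTheory AlgebraicGeometry TopologicalSpace Opposite

namespace Groth.Agent.Lib.Helper91.PicDim1

open Groth.Agent.Lib.Helper35.AbSheaf Groth.Agent.Lib.Helper35.Gen
open Groth.Agent.Lib.Helper35.PbInv Groth.Agent.Lib.Helper35.PerfAmple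
open Groth.Agent.Lib.Lead.CocycleMod Groth.Agent.Lib.Helper91.S7669Alg

variable {X : Scheme.{u}}

/-- gluing two functions on disjoint opens -/
theorem exists_glue_rr {U₁ U₂ : X.Opens} (hdisj : U₁ ⊓ U₂ = ⊥) (a₁ : Γ(X, U₁)) (a₂ : Γ(X, U₂)) :
    ∃ a : Γ(X, U₁ ⊔ U₂), rr X le_sup_left a = a₁ ∧ rr X le_sup_right a = a₂ := by
  let U : Bool → X.Opens := fun b => cond b U₁ U₂
  let sf : ∀ b : Bool, Γ(X, U b) := fun b => Bool.rec (motive := fun b => Γ(X, cond b U₁ U₂)) a₂ a₁ b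
  have hle : ∀ b, U b ≤ U₁ ⊔ U₂ := fun b => by cases b <;> simp [U]
  have hsub : ∀ (b c : Bool), b ≠ c → Subsingleton Γ(X, U b ⊓ U c) := by
    intro b c hbc
    apply Groth.Agent.Lib.Helper35.ClosedCoverPic.subsingleton_of_eq_bot
    cases b <;> cases c
    · exact absurd rfl hbc
    · change U₂ ⊓ U₁ = ⊥
      rw [inf_comm]; exact hdisj
    · exact hdisj
    · exact absurd rfl hbc
  have hcomp : TopCat.Presheaf.IsCompatible X.sheaf.1 U sf := by
    intro b c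
    by_cases hbc : b = c
    · subst hbc
      congr 1
    · exact (hsub b c hbc).elim _ _
  obtain ⟨s, hs, -⟩ := X.sheaf.existsUnique_gluing' U (U₁ ⊔ U₂) (fun b => homOfLE (hle b)) (by
    refine sup_le ?_ ?_
    · exact le_iSup U true
    · exact le_iSup U false) sf hcomp
  exact ⟨s, hs true, hs false⟩

/-- two functions agreeing on two covering opens are equal -/
theorem eq_of_rr₂ {U₁ U₂ V : X.Opens} (h₁ : U₁ ≤ V) (h₂ : U₂ ≤ V) (hcover : V ≤ U₁ ⊔ U₂)
    (a b : Γ(X, V)) (e₁ : rr X h₁ a = rr X h₁ b) (e₂ : rr X h₂ a = rr X h₂ b) : a = b :=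
  X.sheaf.eq_of_locally_eq₂ (homOfLE h₁) (homOfLE h₂) hcover a b e₁ e₂

theorem eq_of_rs₂ (L : X.Modules) {U₁ U₂ V : X.Opens} (h₁ : U₁ ≤ V) (h₂ : U₂ ≤ V)
    (hcover : V ≤ U₁ ⊔ U₂)
    (a b : Γ(L, V)) (e₁ : rs L h₁ a = rs L h₁ b) (e₂ : rs L h₂ a = rs L h₂ b) : a = b :=
  Groth.Agent.Lib.Lead.SheafGlue.eq_of_res₂ L h₁ h₂ hcover a b e₁ e₂

/-- gluing generators on disjoint opens -/
theorem exists_glue_gen (L : X.Modules) {U₁ U₂ : X.Opens} (hdisj : U₁ ⊓ U₂ = ⊥)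
    (s₁ : Γ(L, U₁)) (g₁ : IsGen L U₁ s₁) (s₂ : Γ(L, U₂)) (g₂ : IsGen L U₂ s₂) :
    ∃ s : Γ(L, U₁ ⊔ U₂), IsGen L (U₁ ⊔ U₂) s := by
  obtain ⟨s, hs₁, hs₂⟩ := Groth.Agent.Lib.Lead.SheafGlue.exists_glue₂ L s₁ s₂ (by
    rw [Groth.Agent.Lib.Lead.SheafGlue.eq_zero_of_bot L hdisj
      (L.presheaf.map (homOfLE (inf_le_left : U₁ ⊓ U₂ ≤ U₁)).op s₁),
      Groth.Agent.Lib.Lead.SheafGlue.eq_zero_of_bot L hdisj
      (L.presheaf.map (homOfLE (inf_le_right : U₁ ⊓ U₂ ≤ U₂)).op s₂)])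
  have hs₁' : rs L le_sup_left s = s₁ := hs₁
  have hs₂' : rs L le_sup_right s = s₂ := hs₂
  refine ⟨s, ?_⟩
  intro W hW
  have hcov : W ≤ (W ⊓ U₁) ⊔ (W ⊓ U₂) := by
    rw [← inf_sup_left]
    exact le_inf le_rfl hW
  have hd : (W ⊓ U₁) ⊓ (W ⊓ U₂) = ⊥ := by
    rw [eq_bot_iff, ← hdisj]
    exact le_inf (inf_le_left.trans inf_le_right) (inf_le_right.trans inf_le_right)
  have r1 : rs L (inf_le_left : W ⊓ U₁ ≤ W) (rs L hW s) =
      rs L (inf_le_right : W ⊓ U₁ ≤ U₁) s₁ := by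
    rw [rs_rs, ← hs₁', rs_rs]
  have r2 : rs L (inf_le_left : W ⊓ U₂ ≤ W) (rs L hW s) =
      rs L (inf_le_right : W ⊓ U₂ ≤ U₂) s₂ := by
    rw [rs_rs, ← hs₂', rs_rs]
  constructor
  · intro a b hab
    have hab' : a • rs L hW s = b • rs L hW s := hab
    apply eq_of_rr₂ (inf_le_left : W ⊓ U₁ ≤ W) (inf_le_left : W ⊓ U₂ ≤ W) hcov
    · apply (g₁ (W ⊓ U₁) inf_le_right).1
      change rr X _ a • rs L _ s₁ = rr X _ b • rs L _ s₁
      rw [← r1, ← rs_smul, ← rs_smul, hab']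
    · apply (g₂ (W ⊓ U₂) inf_le_right).1
      change rr X _ a • rs L _ s₂ = rr X _ b • rs L _ s₂
      rw [← r2, ← rs_smul, ← rs_smul, hab']
  · intro m
    obtain ⟨a₁, ha₁⟩ := (g₁ (W ⊓ U₁) inf_le_right).2 (rs L inf_le_left m)
    obtain ⟨a₂, ha₂⟩ := (g₂ (W ⊓ U₂) inf_le_right).2 (rs L inf_le_left m)
    obtain ⟨a, haa₁, haa₂⟩ := exists_glue_rr hd a₁ a₂
    refine ⟨rr X hcov a, ?_⟩
    change rr X hcov a • rs L hW s = m
    apply eq_of_rs₂ L (inf_le_left : W ⊓ U₁ ≤ W) (inf_le_left : W ⊓ U₂ ≤ W) hcov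
    · rw [rs_smul, rr_rr, r1, ← ha₁]
      change _ = a₁ • rs L _ s₁
      rw [← haa₁]
    · rw [rs_smul, rr_rr, r2, ← ha₂]
      change _ = a₂ • rs L _ s₂
      rw [← haa₂]

theorem isGen_of_eq_bot (L : X.Modules) {U : X.Opens} (hU : U = ⊥) (e : Γ(L, U)) :
    IsGen L U e := by
  subst hU
  exact Groth.Agent.Lib.Helper35.ClosedCoverPic.isGen_bot L e

/-- a dense open over which `L` is trivial -/
theorem exists_dense_gen {Y : Scheme.{u}} (f : X ⟶ Y) [NoetherianSpace Y] (V : Y.Opens)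
    (hV : Dense (V : Set Y)) (L : X.Modules)
    (htriv : ∀ y : Y, ∃ W : Y.Opens, y ∈ W ∧ ∃ s : Γ(L, f ⁻¹ᵁ W), IsGen L (f ⁻¹ᵁ W) s) :
    ∃ V' : Y.Opens, V' ≤ V ∧ Dense (V' : Set Y) ∧
      ∃ s0 : Γ(L, f ⁻¹ᵁ V'), IsGen L (f ⁻¹ᵁ V') s0 := by
  let P : Set Y.Opens := {V' | V' ≤ V ∧ ∃ s0 : Γ(L, f ⁻¹ᵁ V'), IsGen L (f ⁻¹ᵁ V') s0}
  have hbot : (⊥ : Y.Opens) ∈ P := ⟨bot_le, 0, isGen_of_eq_bot L rfl _⟩
  have hwf : WellFounded ((· > ·) : Y.Opens → Y.Opens → Prop) :=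
    (inferInstance : WellFoundedGT Y.Opens).wf
  obtain ⟨V', hV'P, hmax⟩ := hwf.has_min P ⟨⊥, hbot⟩
  obtain ⟨hV'V, s0, hs0⟩ := hV'P
  refine ⟨V', hV'V, ?_, s0, hs0⟩
  by_contra hnd
  rw [dense_iff_inter_open] at hnd
  push Not at hnd
  obtain ⟨O, hO, hOne, hOV'⟩ := hnd
  obtain ⟨y, hyO, hyV⟩ := hV.inter_open_nonempty O hO hOne
  obtain ⟨W, hyW, s1, hs1⟩ := htriv y
  let W1 : Y.Opens := W ⊓ ⟨O, hO⟩ ⊓ V
  have hyW1 : y ∈ W1 := ⟨⟨hyW, hyO⟩, hyV⟩
  have hW1W : W1 ≤ W := inf_le_left.trans inf_le_left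
  have hdisjY : V' ⊓ W1 = ⊥ := by
    rw [eq_bot_iff]
    rintro z ⟨hz1, hz2⟩
    have : z ∈ O ∩ (V' : Set Y) := ⟨hz2.1.2, hz1⟩
    rw [hOV'] at this
    exact this
  have hdisj : f ⁻¹ᵁ V' ⊓ f ⁻¹ᵁ W1 = ⊥ := by
    rw [eq_bot_iff]
    rintro x ⟨hx1, hx2⟩
    have : f x ∈ V' ⊓ W1 := ⟨hx1, hx2⟩
    rw [hdisjY] at this
    exact this
  obtain ⟨s, hs⟩ := exists_glue_gen L hdisj s0 hs0 (rs L (f.preimage_mono hW1W) s1)
    (hs1.mono (f.preimage_mono hW1W))
  have hmem : V' ⊔ W1 ∈ P := ⟨sup_le hV'V inf_le_right, s, hs⟩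
  apply hmax _ hmem
  change V' < V' ⊔ W1
  refine lt_of_le_of_ne le_sup_left ?_
  intro heq
  have h1 : y ∈ V' ⊔ W1 := Or.inr hyW1
  rw [← heq] at h1
  have : y ∈ O ∩ (V' : Set Y) := ⟨hyO, h1⟩
  rw [hOV'] at this
  exact this

/-- G1' -/
lemma exists_nhd_function' (U : X.Opens) [QuasiCompact U.ι]
    (x : X) (hxU : x ∉ U) (hTfin : {z : X | z ⤳ x}.Finite)
    (O₁ : X.Opens) (hxO : x ∈ O₁) (hO : ∀ z ∈ O₁, z ∉ U → z = x) :
    ∃ (W : X.Opens) (_ : IsAffineOpen W) (f : Γ(X, W)), x ∈ W ∧ W ≤ O₁ ∧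
      X.basicOpen f = U ⊓ W := by
  classical
  obtain ⟨W₀, hW₀, hxW₀, hW₀O⟩ := exists_isAffineOpen_mem_and_subset (x := x) (U := O₁) hxO
  obtain ⟨m, hm⟩ := exists_prime_of_mem hW₀ x hxW₀
  have hinj : Function.Injective hW₀.fromSpec := hW₀.fromSpec.isOpenEmbedding.injective
  -- the finitely many primes strictly below `m`
  let Q : Set (PrimeSpectrum Γ(X, W₀)) := {q | hW₀.fromSpec q ⤳ x ∧ q ≠ m}
  have hQfin : Q.Finite := by
    have h1 : (hW₀.fromSpec ⁻¹' {z : X | z ⤳ x}).Finite :=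
      Set.Finite.preimage hinj.injOn hTfin
    exact h1.subset (fun q hq => hq.1)
  have hQlt : ∀ q ∈ Q, ¬ m.asIdeal ≤ q.asIdeal := by
    intro q hq hmq
    have h1 : hW₀.fromSpec q ⤳ hW₀.fromSpec m := by rw [hm]; exact hq.1
    have h2 : q ⤳ m := hW₀.fromSpec.isOpenEmbedding.isInducing.specializes_iff.mp h1
    have h3 : q ≤ m := (PrimeSpectrum.le_iff_specializes q m).mpr h2
    exact hq.2 (le_antisymm h3 hmq)
  -- prime avoidance
  obtain ⟨f, hfm, hfQ⟩ : ∃ f : Γ(X, W₀), f ∈ m.asIdeal ∧ ∀ q ∈ Q, f ∉ q.asIdeal := by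
    have h1 : ¬ ((m.asIdeal : Set Γ(X, W₀)) ⊆ ⋃ q ∈ (↑hQfin.toFinset : Set (PrimeSpectrum Γ(X, W₀))),
        (q.asIdeal : Set Γ(X, W₀))) := by
      rw [Ideal.subset_union_prime (f := fun q : PrimeSpectrum Γ(X, W₀) => q.asIdeal) m m
        (fun q _ _ _ => q.isPrime)]
      rintro ⟨q, hq, hmq⟩
      exact hQlt q ((Set.Finite.mem_toFinset hQfin).mp hq) hmq
    rw [Set.not_subset] at h1
    obtain ⟨f, hfm, hf⟩ := h1
    refine ⟨f, hfm, fun q hq hfq => hf ?_⟩
    simp only [Set.mem_iUnion]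
    exact ⟨q, (Set.Finite.mem_toFinset hQfin).mpr hq, hfq⟩
  have hxf : x ∉ X.basicOpen f := by
    rw [← hm, fromSpec_mem_basicOpen hW₀ f m]
    exact fun h => h hfm
  have hTf : ∀ z : X, z ⤳ x → z ≠ x → z ∈ X.basicOpen f := by
    intro z hzx hne
    have hzW : z ∈ W₀ := hzx.mem_open W₀.isOpen hxW₀
    obtain ⟨q, rfl⟩ := exists_prime_of_mem hW₀ z hzW
    rw [fromSpec_mem_basicOpen hW₀ f q]
    apply hfQ q
    refine ⟨hzx, ?_⟩
    rintro rfl
    exact hne hm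
  have hfU : X.basicOpen f ≤ U ⊓ W₀ := by
    intro z hz
    have hzW : z ∈ W₀ := X.basicOpen_le f hz
    refine ⟨?_, hzW⟩
    by_contra hzU
    have := hO z (hW₀O hzW) hzU
    rw [this] at hz
    exact hxf hz
  -- compactness
  have hK : IsCompact ((U ⊓ W₀ : X.Opens) : Set X) := by
    have h1 : IsCompact (U.ι ⁻¹' (W₀ : Set X)) :=
      QuasiCompact.isCompact_preimage (f := U.ι) _ W₀.isOpen hW₀.isCompact
    have h2 := h1.image U.ι.continuous
    rw [Set.image_preimage_eq_inter_range, Scheme.Opens.range_ι] at h2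
    rw [Opens.coe_inf, Set.inter_comm]
    exact h2
  have hP : ∃ g : Γ(X, W₀), x ∈ X.basicOpen g ∧
      ∀ z ∈ X.basicOpen g, z ∈ ((U ⊓ W₀ : X.Opens) : Set X) → z ∈ X.basicOpen f := by
    refine hK.induction_on (p := fun K' => ∃ g : Γ(X, W₀), x ∈ X.basicOpen g ∧
      ∀ z ∈ X.basicOpen g, z ∈ K' → z ∈ X.basicOpen f) ?_ ?_ ?_ ?_
    · refine ⟨1, ?_, fun z _ hz => absurd hz (Set.notMem_empty z)⟩
      rw [X.basicOpen_of_isUnit isUnit_one]
      exact hxW₀
    · rintro s t hst ⟨g, hxg, hg⟩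
      exact ⟨g, hxg, fun z hz hzs => hg z hz (hst hzs)⟩
    · rintro s t ⟨g₁, hxg₁, hg₁⟩ ⟨g₂, hxg₂, hg₂⟩
      refine ⟨g₁ * g₂, ?_, ?_⟩
      · rw [Scheme.basicOpen_mul]
        exact ⟨hxg₁, hxg₂⟩
      · intro z hz hzst
        rw [Scheme.basicOpen_mul] at hz
        rcases hzst with h | h
        · exact hg₁ z hz.1 h
        · exact hg₂ z hz.2 h
    · intro z hz
      obtain ⟨h, hhK, hzh⟩ := hW₀.exists_basicOpen_le (V := U ⊓ W₀) ⟨z, hz⟩ hz.2
      obtain ⟨g, hxg, hg⟩ := exists_basicOpen_disjoint hW₀ x hxW₀ h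
        ((X.basicOpen f : Set X)ᶜ) (X.basicOpen f).isOpen.isClosed_compl (by
          intro w hwC hwh hwx
          apply hwC
          apply hTf w hwx
          rintro rfl
          exact hxU (hhK hwh).1)
      refine ⟨X.basicOpen h, ?_, g, hxg, ?_⟩
      · exact mem_nhdsWithin_of_mem_nhds ((X.basicOpen h).isOpen.mem_nhds hzh)
      · intro w hwg hwh
        by_contra hwf
        exact hg w hwg hwh hwf
  obtain ⟨g, hxg, hg⟩ := hP
  refine ⟨X.basicOpen g, hW₀.basicOpen g,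
    X.presheaf.map (homOfLE (X.basicOpen_le g)).op f, hxg, ?_, ?_⟩
  · intro z hz
    exact hW₀O (X.basicOpen_le g hz)
  · rw [Scheme.basicOpen_res]
    apply le_antisymm
    · intro z hz
      exact ⟨(hfU hz.2).1, hz.1⟩
    · intro z hz
      exact ⟨hz.2, hg z hz.2 ⟨hz.1, X.basicOpen_le g hz.2⟩⟩


lemma basicOpen_rr {U V : X.Opens} (h : V ≤ U) (a : Γ(X, U)) :
    X.basicOpen (rr X h a) = V ⊓ X.basicOpen a :=
  Scheme.basicOpen_res X a (homOfLE h).op

lemma isUnit_of_le_basicOpen {S : X.Opens} (a : Γ(X, S)) (h : S ≤ X.basicOpen a) : IsUnit a := by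
  have h1 : IsUnit (X.presheaf.map (homOfLE (X.basicOpen_le a)).op a) :=
    RingedSpace.isUnit_res_basicOpen X.toRingedSpace a
  have h2 := h1.map (rr X h)
  have h3 : rr X h (rr X (X.basicOpen_le a) a) = rr X le_rfl a := rr_rr _ _ _
  rw [rr_self] at h3
  rw [← h3]
  exact h2

open Groth.Agent.Lib.Helper91.PicDim1Top in
/-- the local claim: near a bad point, the generator over `V'` differs from a local generator by
the pullback of a unit on the punctured neighbourhood -/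
theorem local_claim {Y : Scheme.{u}} (f : X ⟶ Y) [NoetherianSpace Y]
    (hdim : topologicalKrullDim Y ≤ 1)
    (V' : Y.Opens) (hd : Dense (V' : Set Y))
    (hsurj : ∀ S : Y.Opens, IsAffineOpen S → S ≤ V' → Function.Surjective (f.app S).hom)
    (hclosed : IsClosed (Set.range f))
    (L : X.Modules)
    (htriv : ∀ y : Y, ∃ W : Y.Opens, y ∈ W ∧ ∃ s : Γ(L, f ⁻¹ᵁ W), IsGen L (f ⁻¹ᵁ W) s)
    (s0 : Γ(L, f ⁻¹ᵁ V')) (hs0 : IsGen L (f ⁻¹ᵁ V') s0) (e : Y) (he : e ∉ V') :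
    ∃ W : Y.Opens, e ∈ W ∧ (∀ z ∈ W, z ∉ V' → z = e) ∧
      ∃ s : Γ(L, f ⁻¹ᵁ W), IsGen L (f ⁻¹ᵁ W) s ∧
      ∃ v : Γ(Y, V' ⊓ W), IsUnit v ∧
        rs L (f.preimage_mono (inf_le_left : V' ⊓ W ≤ V')) s0 =
          papp f (V' ⊓ W) v • rs L (f.preimage_mono (inf_le_right : V' ⊓ W ≤ W)) s := by
  classical
  haveI : QuasiCompact V'.ι := ⟨fun U _ _ =>
    (V'.ι.isOpenEmbedding.isInducing.isCompact_iff).2 (NoetherianSpace.isCompact _)⟩
  obtain ⟨O₁s, hO₁open, heO₁, hO₁iso⟩ := exists_isolating hdim V'.isOpen hd e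
  obtain ⟨W0, heW0, s1, hs1⟩ := htriv e
  let O : Y.Opens := ⟨O₁s, hO₁open⟩ ⊓ W0
  have heO : e ∈ O := ⟨heO₁, heW0⟩
  have hOiso : ∀ z ∈ O, z ∉ V' → z = e := fun z hz hzV => hO₁iso z hz.1 hzV
  obtain ⟨W, hW, t, heW, hWO, hbt⟩ :=
    exists_nhd_function' V' e he (finite_generizations hdim e) O heO hOiso
  -- the boundary of the range
  let R : Set Y := Set.range f
  let B : Set Y := R ∩ closure Rᶜ
  have hB : IsClosed B := hclosed.inter isClosed_closure
  obtain ⟨g, heg, hg⟩ := exists_basicOpen_disjoint hW e heW t B hB (by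
    intro z hzB hzt hze
    have hzV' : z ∈ V' := by
      rw [hbt] at hzt
      exact hzt.1
    have hne : z ≠ e := fun h => he (h ▸ hzV')
    have hzg := mem_genericPoints_of_specializes_ne hdim hze hne
    exact not_mem_boundary hzg hclosed hzB.1 hzB.2)
  let W' : Y.Opens := Y.basicOpen g
  have hW' : IsAffineOpen W' := hW.basicOpen g
  have hW'W : W' ≤ W := Y.basicOpen_le g
  have hW'W0 : W' ≤ W0 := hW'W.trans (hWO.trans inf_le_right)
  let S : Y.Opens := V' ⊓ W'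
  have hSeq : Y.basicOpen (rr Y hW'W t) = S := by
    rw [basicOpen_rr, hbt]
    apply le_antisymm
    · rintro z ⟨h1, h2⟩
      exact ⟨h2.1, h1⟩
    · rintro z ⟨h1, h2⟩
      exact ⟨h2, h1, hW'W h2⟩
  have hS : IsAffineOpen S := by
    rw [← hSeq]
    exact hW'.basicOpen _
  have hSW0 : S ≤ W0 := inf_le_right.trans hW'W0
  have hSV' : S ≤ V' := inf_le_left
  -- the transition function
  obtain ⟨c, hc⟩ := (hs1.mono (f.preimage_mono hSW0)).exists_eq_smul
    (rs L (f.preimage_mono hSV') s0)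
  obtain ⟨c', hc'⟩ := (hs0.mono (f.preimage_mono hSV')).exists_eq_smul
    (rs L (f.preimage_mono hSW0) s1)
  have hcc' : c * c' = 1 := by
    apply (hs0.mono (f.preimage_mono hSV')).smul_injective
    rw [one_smul, mul_smul, ← hc', ← hc]
  have hcunit : IsUnit c := IsUnit.of_mul_eq_one _ hcc'
  obtain ⟨α, hα⟩ := hsurj S hS hSV' c
  have hα' : papp f S α = c := hα
  -- splitting `S`
  let O1 : Y.Opens := S ⊓ ⟨(closure Rᶜ)ᶜ, isClosed_closure.isOpen_compl⟩
  let O2 : Y.Opens := S ⊓ ⟨Rᶜ, hclosed.isOpen_compl⟩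
  have hdisj : O1 ⊓ O2 = ⊥ := by
    rw [eq_bot_iff]
    rintro z ⟨h1, h2⟩
    exact h1.2 (subset_closure h2.2)
  have hcov : S ≤ O1 ⊔ O2 := by
    intro z hz
    by_cases hzR : z ∈ R
    · left
      refine ⟨hz, ?_⟩
      intro hzc
      have hzt : z ∈ Y.basicOpen t := by
        rw [hbt]
        exact ⟨hz.1, hW'W hz.2⟩
      exact hg z hz.2 hzt ⟨hzR, hzc⟩
    · right
      exact ⟨hz, hzR⟩
  have hO1S : O1 ≤ S := inf_le_left
  have hO2S : O2 ≤ S := inf_le_left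
  obtain ⟨u0, hu1, hu2⟩ := exists_glue_rr hdisj (rr Y hO1S α) (1 : Γ(Y, O2))
  let u : Γ(Y, S) := rr Y hcov u0
  have hu1' : rr Y hO1S u = rr Y hO1S α := by
    change rr Y hO1S (rr Y hcov u0) = _
    rw [rr_rr, ← hu1]
  have hu2' : rr Y hO2S u = 1 := by
    change rr Y hO2S (rr Y hcov u0) = _
    rw [rr_rr, ← hu2]
  -- points of `O1` lie in the range
  have hO1R : ∀ z ∈ O1, z ∈ R := by
    intro z hz
    by_contra hzR
    exact hz.2 (subset_closure hzR)
  have hαbasic : ∀ x : X, f x ∈ S → f x ∈ Y.basicOpen α := by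
    intro x hx
    have h1 : x ∈ X.basicOpen ((f.app S).hom α) := by
      rw [hα, X.basicOpen_of_isUnit hcunit]
      exact hx
    have h2 : x ∈ f ⁻¹ᵁ (Y.basicOpen α) := by
      rw [Scheme.preimage_basicOpen]
      exact h1
    exact h2
  have huunit : IsUnit u := by
    apply isUnit_of_le_basicOpen
    intro z hz
    rcases hcov hz with h | h
    · obtain ⟨x, rfl⟩ := hO1R z h
      have h3 : f x ∈ Y.basicOpen (rr Y hO1S α) := by
        rw [basicOpen_rr]
        exact ⟨h, hαbasic x hz⟩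
      rw [← hu1', basicOpen_rr] at h3
      exact h3.2
    · have h3 : z ∈ Y.basicOpen (rr Y hO2S u) := by
        rw [hu2', Y.basicOpen_of_isUnit isUnit_one]
        exact h
      rw [basicOpen_rr] at h3
      exact h3.2
  -- pullback of `u` is `c`
  have hpre : f ⁻¹ᵁ O1 = f ⁻¹ᵁ S := by
    apply le_antisymm (f.preimage_mono hO1S)
    intro x hx
    rcases hcov hx with h | h
    · exact h
    · exact absurd (Set.mem_range_self x) h.2
  have hinj : Function.Injective (rr X (f.preimage_mono hO1S)) :=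
    (Groth.Agent.Lib.Lead.Inv.resX_bijective_of_eq hpre).1
  have huc : papp f S u = c := by
    apply hinj
    rw [← papp_rr f hO1S, hu1', papp_rr f hO1S, hα']
  refine ⟨W', heg, fun z hz hzV => hOiso z (hWO (hW'W hz)) hzV,
    rs L (f.preimage_mono hW'W0) s1, hs1.mono _, u, huunit, ?_⟩
  rw [huc, rs_rs]
  exact hc

/-- descent of an invertible module, given a generator over `V'` and compatible local generators
around the points outside `V'` -/
theorem exists_descent_of_local {Y : Scheme.{u}} (f : X ⟶ Y) (V' : Y.Opens) {L : X.Modules}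
    (s0 : Γ(L, f ⁻¹ᵁ V')) (hs0 : IsGen L (f ⁻¹ᵁ V') s0)
    (hloc : ∀ e : Y, e ∉ V' → ∃ W : Y.Opens, e ∈ W ∧ (∀ z ∈ W, z ∉ V' → z = e) ∧
      ∃ s : Γ(L, f ⁻¹ᵁ W), IsGen L (f ⁻¹ᵁ W) s ∧
      ∃ v : Γ(Y, V' ⊓ W), IsUnit v ∧
        rs L (f.preimage_mono (inf_le_left : V' ⊓ W ≤ V')) s0 =
          papp f (V' ⊓ W) v • rs L (f.preimage_mono (inf_le_right : V' ⊓ W ≤ W)) s) :
    ∃ N : Y.Modules, PicF.IsInvertible N ∧
      Nonempty ((Scheme.Modules.pullback f).obj N ≅ L) := by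
  classical
  have hall : ∀ i : Option {e : Y // e ∉ V'}, ∃ W : Y.Opens,
      (∀ a, i = some a → a.1 ∈ W) ∧ (i = none → W = V') ∧
      (∀ a, i = some a → ∀ z ∈ W, z ∉ V' → z = a.1) ∧
      ∃ s : Γ(L, f ⁻¹ᵁ W), IsGen L (f ⁻¹ᵁ W) s ∧
      ∃ v : Γ(Y, V' ⊓ W), IsUnit v ∧
        rs L (f.preimage_mono (inf_le_left : V' ⊓ W ≤ V')) s0 =
          papp f (V' ⊓ W) v • rs L (f.preimage_mono (inf_le_right : V' ⊓ W ≤ W)) s := by
    intro i
    cases i with
    | none =>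
      refine ⟨V', fun a h => (by cases h), fun _ => rfl, fun a h => (by cases h), s0, hs0, 1,
        isUnit_one, ?_⟩
      rw [map_one, one_smul]
    | some a =>
      obtain ⟨W, haW, hiso, s, hs, v, hv, hrel⟩ := hloc a.1 a.2
      refine ⟨W, ?_, fun h => (by cases h), ?_, s, hs, v, hv, hrel⟩
      · intro b hb
        cases hb
        exact haW
      · intro b hb
        cases hb
        exact hiso
  choose W hmem hnone hiso e he v hv hrel using hall
  have hpair : ∀ i j, i ≠ j → W i ⊓ W j ≤ V' := by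
    intro i j hij z hz
    by_contra hzV
    have hi : ∃ a, i = some a := by
      cases i with
      | none =>
        exfalso
        have : z ∈ W none := hz.1
        rw [hnone none rfl] at this
        exact hzV this
      | some a => exact ⟨a, rfl⟩
    have hj : ∃ b, j = some b := by
      cases j with
      | none =>
        exfalso
        have : z ∈ W none := hz.2
        rw [hnone none rfl] at this
        exact hzV this
      | some b => exact ⟨b, rfl⟩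
    obtain ⟨a, rfl⟩ := hi
    obtain ⟨b, rfl⟩ := hj
    have h1 := hiso (some a) a rfl z hz.1 hzV
    have h2 := hiso (some b) b rfl z hz.2 hzV
    apply hij
    congr 1
    exact Subtype.ext (h1.symm.trans h2)
  -- inverses
  have hw0 : ∀ i, ∃ w : Γ(Y, V' ⊓ W i), v i * w = 1 := fun i => (hv i).exists_right_inv
  choose w hvw using hw0
  let η : ∀ i j, Γ(Y, W i ⊓ W j) := fun i j =>
    if h : i = j then 1 else
      rr Y (le_inf (hpair i j h) inf_le_left) (w i) * rr Y (le_inf (hpair i j h) inf_le_right) (v j)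
  have hηself : ∀ i, η i i = 1 := fun i => dif_pos rfl
  have key : ∀ (i j : Option {e : Y // e ∉ V'}) (T : Y.Opens) (hT : T ≤ W i ⊓ W j)
      (hTV : T ≤ V'), rr Y hT (η i j) =
        rr Y (le_inf hTV (hT.trans inf_le_left)) (w i) *
          rr Y (le_inf hTV (hT.trans inf_le_right)) (v j) := by
    intro i j T hT hTV
    by_cases hij : i = j
    · subst hij
      rw [hηself, map_one, ← map_mul, mul_comm, hvw, map_one]
    · have : η i j = rr Y (le_inf (hpair i j hij) inf_le_left) (w i) *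
          rr Y (le_inf (hpair i j hij) inf_le_right) (v j) := dif_neg hij
      rw [this, map_mul, rr_rr, rr_rr]
  have hη : ∀ (i j k : Option {e : Y // e ∉ V'}) (T : Y.Opens) (h1 : T ≤ W i ⊓ W j)
      (h2 : T ≤ W j ⊓ W k) (h3 : T ≤ W i ⊓ W k),
      rr Y h3 (η i k) = rr Y h1 (η i j) * rr Y h2 (η j k) := by
    intro i j k T h1 h2 h3
    by_cases hijk : i = j ∧ j = k
    · obtain ⟨rfl, rfl⟩ := hijk
      rw [hηself, map_one, mul_one]
    · have hTV : T ≤ V' := by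
        by_cases hij : i = j
        · have hjk : j ≠ k := fun h => hijk ⟨hij, h⟩
          exact h2.trans (hpair j k hjk)
        · exact h1.trans (hpair i j hij)
      rw [key i k T h3 hTV, key i j T h1 hTV, key j k T h2 hTV]
      have hbb : rr Y (le_inf hTV (h1.trans inf_le_right)) (v j) *
          rr Y (le_inf hTV (h2.trans inf_le_left)) (w j) = 1 := by
        rw [← map_mul, hvw, map_one]
      linear_combination (-(rr Y (le_inf hTV (h3.trans inf_le_left)) (w i) *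
        rr Y (le_inf hTV (h3.trans inf_le_right)) (v k))) * hbb
  have hηunit : ∀ i, IsUnit (η i i) := by
    intro i
    rw [hηself]
    exact isUnit_one
  have hgenN : ∀ i, IsGen (cocMod W η) (W i) (gen hη i) := fun i S h =>
    gen_bijective hη hηunit i S h
  have hcover : ∀ y : Y, ∃ i, y ∈ W i := by
    intro y
    by_cases hy : y ∈ V'
    · refine ⟨none, ?_⟩
      rw [hnone none rfl]
      exact hy
    · exact ⟨some ⟨y, hy⟩, hmem _ _ rfl⟩
  have hNinv : PicF.IsInvertible (cocMod W η) := by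
    apply isInvertible_of_isGen
    intro x
    obtain ⟨i, hi⟩ := hcover x
    exact ⟨W i, hi, gen hη i, hgenN i⟩
  refine ⟨cocMod W η, hNinv, ?_⟩
  refine Groth.Agent.Lib.Helper35.CocIso.nonempty_iso (fun i => f ⁻¹ᵁ W i)
    (fun i => pbSec f (cocMod W η) (W i) (gen hη i))
    (fun i => isGen_pbSec f (cocMod W η) (W i) (gen hη i) (hgenN i))
    e ?_ he (fun x => hcover (f x))
  intro i j
  have e2 : rs ((Scheme.Modules.pullback f).obj (cocMod W η))
      (f.preimage_mono (inf_le_left : W i ⊓ W j ≤ W i))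
        (pbSec f (cocMod W η) (W i) (gen hη i)) =
      papp f (W i ⊓ W j) (η i j) • rs ((Scheme.Modules.pullback f).obj (cocMod W η))
        (f.preimage_mono (inf_le_right : W i ⊓ W j ≤ W j))
          (pbSec f (cocMod W η) (W j) (gen hη j)) := by
    rw [pbSec_rs f _ (inf_le_left : W i ⊓ W j ≤ W i),
      pbSec_rs f _ (inf_le_right : W i ⊓ W j ≤ W j), gen_rel hη i j, pbSec_smul]
    rfl
  have e3 : rs L (f.preimage_mono (inf_le_left : W i ⊓ W j ≤ W i)) (e i) =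
      papp f (W i ⊓ W j) (η i j) •
        rs L (f.preimage_mono (inf_le_right : W i ⊓ W j ≤ W j)) (e j) := by
    by_cases hij : i = j
    · subst hij
      rw [hηself, map_one, one_smul]
    · have hTV : W i ⊓ W j ≤ V' := hpair i j hij
      have hTi : W i ⊓ W j ≤ V' ⊓ W i := le_inf hTV inf_le_left
      have hTj : W i ⊓ W j ≤ V' ⊓ W j := le_inf hTV inf_le_right
      have hi : rs L (f.preimage_mono hTV) s0 = papp f (W i ⊓ W j) (rr Y hTi (v i)) •
          rs L (f.preimage_mono (inf_le_left : W i ⊓ W j ≤ W i)) (e i) := by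
        have := congrArg (rs L (f.preimage_mono hTi)) (hrel i)
        rw [rs_rs, rs_smul, rs_rs, ← papp_rr f hTi] at this
        exact this
      have hj : rs L (f.preimage_mono hTV) s0 = papp f (W i ⊓ W j) (rr Y hTj (v j)) •
          rs L (f.preimage_mono (inf_le_right : W i ⊓ W j ≤ W j)) (e j) := by
        have := congrArg (rs L (f.preimage_mono hTj)) (hrel j)
        rw [rs_rs, rs_smul, rs_rs, ← papp_rr f hTj] at this
        exact this
      rw [hi] at hj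
      have h3 := congrArg (fun m => papp f (W i ⊓ W j) (rr Y hTi (w i)) • m) hj
      simp only [← mul_smul, ← map_mul] at h3
      rw [mul_comm (w i), hvw, map_one, map_one, one_smul] at h3
      have h4 : rr Y (le_refl (W i ⊓ W j)) (η i j) = η i j := rr_self _
      rw [← h4, key i j (W i ⊓ W j) le_rfl hTV]
      exact h3
  exact ⟨papp f (W i ⊓ W j) (η i j), e2, e3⟩

/-- main descent statement over a Noetherian base of dimension at most one -/
theorem main_descent {Y : Scheme.{u}} (f : X ⟶ Y) [NoetherianSpace Y]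
    (hdim : topologicalKrullDim Y ≤ 1)
    (V : Y.Opens) (hV : Dense (V : Set Y))
    (hsurj : ∀ S : Y.Opens, IsAffineOpen S → S ≤ V → Function.Surjective (f.app S).hom)
    (hclosed : IsClosed (Set.range f))
    (L : X.Modules)
    (htriv : ∀ y : Y, ∃ W : Y.Opens, y ∈ W ∧ ∃ s : Γ(L, f ⁻¹ᵁ W), IsGen L (f ⁻¹ᵁ W) s) :
    ∃ N : Y.Modules, PicF.IsInvertible N ∧
      Nonempty ((Scheme.Modules.pullback f).obj N ≅ L) := by
  obtain ⟨V', hV'V, hd, s0, hs0⟩ := exists_dense_gen f V hV L htriv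
  exact exists_descent_of_local f V' s0 hs0 (fun e he => local_claim f hdim V' hd
    (fun S hS hSV => hsurj S hS (hSV.trans hV'V)) hclosed L htriv s0 hs0 e he)

/-- local triviality along a finite morphism -/
theorem htriv_of_isFinite {Y : Scheme.{u}} (f : X ⟶ Y) [IsFinite f] {L : X.Modules}
    (hL : PicF.IsInvertible L) (y : Y) :
    ∃ W : Y.Opens, y ∈ W ∧ ∃ s : Γ(L, f ⁻¹ᵁ W), IsGen L (f ⁻¹ᵁ W) s := by
  haveI : IsEmpty ↥(((⊤ : Y.Opens) : Set Y)ᶜ) := ⟨fun x => x.2 trivial⟩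
  have hdisc : DiscreteTopology ↥(((⊤ : Y.Opens) : Set Y)ᶜ) := inferInstance
  obtain ⟨W, hy, -, s, hs⟩ := Groth.Agent.Lib.Helper35.FinPic.exists_nhd f ⊤ hdisc hL y
  exact ⟨W, hy, s, hs⟩

/-- surjectivity on sections over affine opens inside `V` when `f ∣_ V` is a closed immersion -/
theorem app_surjective_of_le {Y : Scheme.{u}} (f : X ⟶ Y) (V : Y.Opens)
    [IsClosedImmersion (f ∣_ V)] (S : Y.Opens) (hS : IsAffineOpen S) (hSV : S ≤ V) :
    Function.Surjective (f.app S).hom := by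
  have hS' : IsAffineOpen (V.ι ⁻¹ᵁ S) := by
    have h1 : V.ι ''ᵁ (V.ι ⁻¹ᵁ S) = S := by
      rw [Scheme.Hom.image_preimage_eq_opensRange_inf, Scheme.Opens.opensRange_ι]
      exact inf_eq_right.mpr hSV
    rw [← V.ι.isAffineOpen_iff_of_isOpenImmersion, h1]
    exact hS
  have h1 : Function.Surjective ((f ∣_ V).app (V.ι ⁻¹ᵁ S)).hom :=
    (f ∣_ V).app_surjective _ hS'
  rw [morphismRestrict_app] at h1
  have h2 : Function.Surjective (f.app (V.ι ''ᵁ (V.ι ⁻¹ᵁ S))).hom := by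
    have h3 : Function.Bijective (X.presheaf.map
        (eqToHom (image_morphismRestrict_preimage f V (V.ι ⁻¹ᵁ S))).op).hom :=
      ConcreteCategory.bijective_of_isIso _
    intro b
    obtain ⟨a, ha⟩ := h1 ((X.presheaf.map
        (eqToHom (image_morphismRestrict_preimage f V (V.ι ⁻¹ᵁ S))).op).hom b)
    exact ⟨a, h3.1 ha⟩
  have key : ∀ U' : Y.Opens, U' = S → Function.Surjective (f.app U').hom →
      Function.Surjective (f.app S).hom := by
    rintro _ rfl h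
    exact h
  refine key _ ?_ h2
  rw [Scheme.Hom.image_preimage_eq_opensRange_inf, Scheme.Opens.opensRange_ι]
  exact inf_eq_right.mpr hSV

end Groth.Agent.Lib.Helper91.PicDim1
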