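import Mathlib
import Groth.Prelude.Def_W4c1btstackcountsChain

set_option autoImplicit false
universe u

namespace Groth.Agent.Lib.Helper91.Quiver

open W4c1btstackcounts Module

variable {k : Type u} [Field k] {d : ℕ → ℕ}

/-- Composite `V_i → V_j` of a chain of matrices, for `i ≤ j`. -/
noncomputable def cmp (f : (i : ℕ) → Matrix (Fin (d (i + 1))) (Fin (d i)) k) (i : ℕ) :
    {j : ℕ} → (h : i ≤ j) → ((Fin (d i) → k) →ₗ[k] (Fin (d j) → k)) :=
  Nat.leRec (motive := fun j _ => (Fin (d i) → k) →ₗ[k] (Fin (d j) → k)) LinearMap.id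
    (fun l _ c => (Matrix.toLin' (f l)).comp c)

theorem cmp_self (f : (i : ℕ) → Matrix (Fin (d (i + 1))) (Fin (d i)) k) (i : ℕ) (h : i ≤ i) :
    cmp f i h = LinearMap.id := by
  unfold cmp
  exact Nat.leRec_self _ _

theorem cmp_succ (f : (i : ℕ) → Matrix (Fin (d (i + 1))) (Fin (d i)) k) (i l : ℕ) (h : i ≤ l)
    (h' : i ≤ l + 1) :
    cmp f i h' = (Matrix.toLin' (f l)).comp (cmp f i h) := by
  unfold cmp
  exact Nat.leRec_succ _ _ h

theorem cmp_one (f : (i : ℕ) → Matrix (Fin (d (i + 1))) (Fin (d i)) k) (i : ℕ) (h : i ≤ i + 1) :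
    cmp f i h = Matrix.toLin' (f i) := by
  rw [cmp_succ f i i le_rfl h, cmp_self]
  rfl

theorem cmp_trans (f : (i : ℕ) → Matrix (Fin (d (i + 1))) (Fin (d i)) k) (i j l : ℕ)
    (hij : i ≤ j) (hjl : j ≤ l) (hil : i ≤ l) :
    cmp f i hil = (cmp f j hjl).comp (cmp f i hij) := by
  induction l, hjl using Nat.le_induction with
  | base => rw [cmp_self]; rfl
  | succ l hjl ih =>
    rw [cmp_succ f i l (hij.trans hjl) hil, cmp_succ f j l hjl, ih (hij.trans hjl),
      LinearMap.comp_assoc]

theorem cmp_succ_left (f : (i : ℕ) → Matrix (Fin (d (i + 1))) (Fin (d i)) k) (i l : ℕ)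
    (h : i + 1 ≤ l) (h' : i ≤ l) :
    cmp f i h' = (cmp f (i + 1) h).comp (Matrix.toLin' (f i)) := by
  rw [cmp_trans f i (i + 1) l (Nat.le_succ i) h h', cmp_one]

theorem iterImage_eq (f : (i : ℕ) → Matrix (Fin (d (i + 1))) (Fin (d i)) k) (i n : ℕ) :
    iterImage f i n = LinearMap.range (cmp f i (Nat.le_add_right i n)) := by
  induction n with
  | zero =>
    rw [iterImage]
    have : cmp f i (Nat.le_add_right i 0) = LinearMap.id := cmp_self f i _
    rw [this, LinearMap.range_id]
  | succ n ih =>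
    rw [iterImage, ih]
    have : cmp f i (Nat.le_add_right i (n + 1)) =
        (Matrix.toLin' (f (i + n))).comp (cmp f i (Nat.le_add_right i n)) :=
      cmp_succ f i (i + n) _ _
    rw [this, LinearMap.range_comp]

/-- the rank function in terms of `cmp` -/
noncomputable def rk (f : (i : ℕ) → Matrix (Fin (d (i + 1))) (Fin (d i)) k) (i j : ℕ)
    (h : i ≤ j) : ℕ := finrank k (LinearMap.range (cmp f i h))

theorem rankArray_eq (f : (i : ℕ) → Matrix (Fin (d (i + 1))) (Fin (d i)) k) (i j : ℕ)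
    (h : i ≤ j) : rankArray f i j = rk f i j h := by
  obtain ⟨n, rfl⟩ := Nat.exists_eq_add_of_le h
  unfold rankArray rk
  rw [if_pos h]
  have hn : i + n - i = n := by omega
  generalize i + n - i = m at hn
  subst hn
  rw [iterImage_eq]

theorem rk_self (f : (i : ℕ) → Matrix (Fin (d (i + 1))) (Fin (d i)) k) (j : ℕ) (h : j ≤ j) :
    rk f j j h = d j := by
  unfold rk
  rw [cmp_self, LinearMap.range_id, finrank_top, Module.finrank_fin_fun]

theorem rk_succ_left_le (f : (i : ℕ) → Matrix (Fin (d (i + 1))) (Fin (d i)) k) (i j : ℕ)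
    (h : i + 1 ≤ j) (h' : i ≤ j) : rk f i j h' ≤ rk f (i + 1) j h := by
  unfold rk
  rw [cmp_succ_left f i j h h']
  exact Submodule.finrank_mono (LinearMap.range_comp_le_range _ _)

theorem rk_succ_right_le (f : (i : ℕ) → Matrix (Fin (d (i + 1))) (Fin (d i)) k) (i j : ℕ)
    (h : i ≤ j) (h' : i ≤ j + 1) : rk f i (j + 1) h' ≤ rk f i j h := by
  unfold rk
  rw [cmp_succ f i j h h', LinearMap.range_comp]
  exact Submodule.finrank_map_le _ _

theorem finrank_eq_map_add_inf_ker {V V' : Type u} [AddCommGroup V] [Module k V]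
    [AddCommGroup V'] [Module k V'] [FiniteDimensional k V] (φ : V →ₗ[k] V')
    (Q : Submodule k V) :
    finrank k Q = finrank k (Q.map φ) + finrank k (Q ⊓ LinearMap.ker φ : Submodule k V) := by
  have h := LinearMap.finrank_range_add_finrank_ker (φ.domRestrict Q)
  rw [LinearMap.range_domRestrict, LinearMap.ker_domRestrict] at h
  rw [← h, ← Submodule.finrank_map_subtype_eq Q ((LinearMap.ker φ).comap Q.subtype),
    Submodule.map_comap_subtype]

theorem rk_submod (f : (i : ℕ) → Matrix (Fin (d (i + 1))) (Fin (d i)) k) (i j : ℕ)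
    (h : i + 1 ≤ j) (h' : i ≤ j) (h1 : i + 1 ≤ j + 1) (h1' : i ≤ j + 1) :
    rk f (i + 1) (j + 1) h1 + rk f i j h' ≤ rk f (i + 1) j h + rk f i (j + 1) h1' := by
  unfold rk
  rw [cmp_succ f (i + 1) j h h1, cmp_succ f i j h' h1', LinearMap.range_comp,
    LinearMap.range_comp]
  set φ := Matrix.toLin' (f j)
  set Q := LinearMap.range (cmp f (i + 1) h)
  set P := LinearMap.range (cmp f i h')
  have hPQ : P ≤ Q := by
    simp only [P, Q]
    rw [cmp_succ_left f i j h h']
    exact LinearMap.range_comp_le_range _ _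
  have e1 := finrank_eq_map_add_inf_ker φ Q
  have e2 := finrank_eq_map_add_inf_ker φ P
  have e3 : finrank k (P ⊓ LinearMap.ker φ : Submodule k _) ≤
      finrank k (Q ⊓ LinearMap.ker φ : Submodule k _) :=
    Submodule.finrank_mono (inf_le_inf_right _ hPQ)
  omega

theorem isRankArray (f : (i : ℕ) → Matrix (Fin (d (i + 1))) (Fin (d i)) k) (r : ℕ) :
    IsRankArray d r (rankArray f) := by
  refine ⟨?_, ?_, ?_, ?_⟩
  · intro j _ _
    rw [rankArray_eq f j j le_rfl, rk_self]
  · intro i j _ hij _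
    rw [rankArray_eq f i j hij.le, rankArray_eq f (i + 1) j hij]
    exact rk_succ_left_le f i j hij hij.le
  · intro i j _ hij _
    rw [rankArray_eq f i j hij, rankArray_eq f i (j + 1) (by omega)]
    exact rk_succ_right_le f i j hij _
  · intro i j hi hij _
    obtain ⟨i, rfl⟩ : ∃ i', i = i' + 1 := ⟨i - 1, by omega⟩
    simp only [Nat.add_sub_cancel]
    rw [rankArray_eq f (i + 1) (j + 1) (by omega), rankArray_eq f i j (by omega),
      rankArray_eq f (i + 1) j hij, rankArray_eq f i (j + 1) (by omega)]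
    exact rk_submod f i j hij (by omega) (by omega) (by omega)

/-! ### Part 1: conjugation invariance -/

theorem cmp_conj (g : (j : ℕ) → Matrix.GeneralLinearGroup (Fin (d j)) k)
    (f : (i : ℕ) → Matrix (Fin (d (i + 1))) (Fin (d i)) k) (i j : ℕ) (h : i ≤ j) :
    (cmp (conj g f) i h).comp (Matrix.toLin' (g i : Matrix (Fin (d i)) (Fin (d i)) k)) =
      (Matrix.toLin' (g j : Matrix (Fin (d j)) (Fin (d j)) k)).comp (cmp f i h) := by
  induction j, h using Nat.le_induction with
  | base => rw [cmp_self, cmp_self]; rfl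
  | succ l hil ih =>
    rw [cmp_succ (conj g f) i l hil, cmp_succ f i l hil, LinearMap.comp_assoc, ih,
      ← LinearMap.comp_assoc, ← LinearMap.comp_assoc]
    congr 1
    rw [← Matrix.toLin'_mul, ← Matrix.toLin'_mul]
    congr 1
    unfold conj
    rw [Matrix.mul_assoc, Matrix.mul_assoc]
    congr 1
    rw [← Matrix.mul_assoc]
    have : ((g l)⁻¹ : Matrix.GeneralLinearGroup (Fin (d l)) k).val * (g l).val = 1 := by
      rw [← Units.val_mul, inv_mul_cancel]; rfl
    rw [Matrix.mul_assoc, this, Matrix.mul_one]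

theorem toLin'_GL_bijective {n : ℕ} (g : Matrix.GeneralLinearGroup (Fin n) k) :
    Function.Bijective (Matrix.toLin' (g : Matrix (Fin n) (Fin n) k)) := by
  have h1 : (Matrix.toLin' (g : Matrix (Fin n) (Fin n) k)).comp
      (Matrix.toLin' ((g⁻¹ : Matrix.GeneralLinearGroup (Fin n) k) : Matrix (Fin n) (Fin n) k)) =
      LinearMap.id := by
    rw [← Matrix.toLin'_mul, ← Units.val_mul, mul_inv_cancel]
    exact Matrix.toLin'_one
  have h2 : (Matrix.toLin' ((g⁻¹ : Matrix.GeneralLinearGroup (Fin n) k) :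
      Matrix (Fin n) (Fin n) k)).comp (Matrix.toLin' (g : Matrix (Fin n) (Fin n) k)) =
      LinearMap.id := by
    rw [← Matrix.toLin'_mul, ← Units.val_mul, inv_mul_cancel]
    exact Matrix.toLin'_one
  constructor
  · intro x y hxy
    have := congrArg (Matrix.toLin' ((g⁻¹ : Matrix.GeneralLinearGroup (Fin n) k) :
      Matrix (Fin n) (Fin n) k)) hxy
    rw [← LinearMap.comp_apply, ← LinearMap.comp_apply, h2] at this
    exact this
  · intro y
    refine ⟨Matrix.toLin' ((g⁻¹ : Matrix.GeneralLinearGroup (Fin n) k) :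
      Matrix (Fin n) (Fin n) k) y, ?_⟩
    rw [← LinearMap.comp_apply, h1]
    rfl

theorem rk_conj (g : (j : ℕ) → Matrix.GeneralLinearGroup (Fin (d j)) k)
    (f : (i : ℕ) → Matrix (Fin (d (i + 1))) (Fin (d i)) k) (i j : ℕ) (h : i ≤ j) :
    rk (conj g f) i j h = rk f i j h := by
  unfold rk
  have h1 : LinearMap.range (cmp (conj g f) i h) =
      LinearMap.range ((cmp (conj g f) i h).comp
        (Matrix.toLin' (g i : Matrix (Fin (d i)) (Fin (d i)) k))) := by
    rw [LinearMap.range_comp_of_range_eq_top]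
    exact LinearMap.range_eq_top.mpr (toLin'_GL_bijective (g i)).2
  rw [h1, cmp_conj, LinearMap.range_comp]
  exact (LinearEquiv.ofBijective _ (toLin'_GL_bijective (g j))).finrank_map_eq _

theorem rankArray_conj (g : (j : ℕ) → Matrix.GeneralLinearGroup (Fin (d j)) k)
    (f : (i : ℕ) → Matrix (Fin (d (i + 1))) (Fin (d i)) k) (i j : ℕ) (h : i ≤ j) :
    rankArray (conj g f) i j = rankArray f i j := by
  rw [rankArray_eq _ i j h, rankArray_eq _ i j h, rk_conj]

end Groth.Agent.Lib.Helper91.Quiver
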