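import Mathlib
import Groth.Agent.Lib.Helper91.QuiverA

set_option autoImplicit false
universe u

namespace Groth.Agent.Lib.Helper91.Quiver

open W4c1btstackcounts Module

variable {k : Type u} [Field k]

/-- Extend a linear equivalence between subspaces to the ambient spaces (equal dimensions). -/
theorem ext_equiv {V V' : Type u} [AddCommGroup V] [Module k V] [AddCommGroup V'] [Module k V']
    [FiniteDimensional k V] [FiniteDimensional k V'] (hVV : finrank k V = finrank k V')
    (p : Submodule k V) (q : Submodule k V') (φ : p ≃ₗ[k] q) :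
    ∃ g : V ≃ₗ[k] V', ∀ x : p, g x = φ x := by
  obtain ⟨Q, hQ⟩ := Submodule.exists_isCompl p
  obtain ⟨Q', hQ'⟩ := Submodule.exists_isCompl q
  have h1 : finrank k p + finrank k Q = finrank k V := Submodule.finrank_add_eq_of_isCompl hQ
  have h2 : finrank k q + finrank k Q' = finrank k V' := Submodule.finrank_add_eq_of_isCompl hQ'
  have h3 : finrank k p = finrank k q := φ.finrank_eq
  have hQQ : finrank k Q = finrank k Q' := by omega
  let c := LinearEquiv.ofFinrankEq Q Q' hQQ
  refine ⟨(p.prodEquivOfIsCompl Q hQ).symm ≪≫ₗ (LinearEquiv.prodCongr φ c) ≪≫ₗ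
    (q.prodEquivOfIsCompl Q' hQ'), ?_⟩
  intro x
  simp

/-- Two maps out of `W` with the same kernel differ by an iso of the (equidimensional) targets. -/
theorem bel {W V V' : Type u} [AddCommGroup W] [Module k W]
    [AddCommGroup V] [Module k V] [AddCommGroup V'] [Module k V']
    [FiniteDimensional k V] [FiniteDimensional k V'] (hVV : finrank k V = finrank k V')
    (A : W →ₗ[k] V) (B : W →ₗ[k] V') (hker : ∀ w, A w = 0 ↔ B w = 0) :
    ∃ g : V ≃ₗ[k] V', ∀ w, g (A w) = B w := by
  have hk : LinearMap.ker A = LinearMap.ker B := by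
    ext w
    simp only [LinearMap.mem_ker]
    exact hker w
  let φ : LinearMap.range A ≃ₗ[k] LinearMap.range B :=
    A.quotKerEquivRange.symm ≪≫ₗ Submodule.quotEquivOfEq _ _ hk ≪≫ₗ B.quotKerEquivRange
  obtain ⟨g, hg⟩ := ext_equiv hVV _ _ φ
  refine ⟨g, fun w => ?_⟩
  have h := hg ⟨A w, LinearMap.mem_range_self A w⟩
  simp only at h
  rw [h]
  simp only [φ, LinearEquiv.trans_apply]
  rw [LinearMap.quotKerEquivRange_symm_apply_image]
  simp [Submodule.quotEquivOfEq_mk, LinearMap.quotKerEquivRange_apply_mk]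

/-- Extension lemma with flags. -/
theorem el {V V' : Type u} [AddCommGroup V] [Module k V] [AddCommGroup V'] [Module k V']
    [FiniteDimensional k V] [FiniteDimensional k V'] (hVV : finrank k V = finrank k V') (m : ℕ) :
    ∀ (K : ℕ → Submodule k V) (K' : ℕ → Submodule k V') (_ : Monotone K) (_ : Monotone K')
      (_ : ∀ i < m, finrank k (K i) = finrank k (K' i))
      (W : Type u) [AddCommGroup W] [Module k W] (A : W →ₗ[k] V) (B : W →ₗ[k] V')
      (_ : ∀ w, A w = 0 ↔ B w = 0) (_ : ∀ i < m, ∀ w, A w ∈ K i ↔ B w ∈ K' i),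
      ∃ g : V ≃ₗ[k] V', (∀ w, g (A w) = B w) ∧ ∀ i < m, ∀ x, x ∈ K i ↔ g x ∈ K' i := by
  induction m with
  | zero =>
    intro K K' _ _ _ W _ _ A B hker _
    obtain ⟨g, hg⟩ := bel hVV A B hker
    exact ⟨g, hg, fun i hi => absurd hi (Nat.not_lt_zero i)⟩
  | succ m ih =>
    intro K K' hK hK' hdim W _ _ A B hker hcompat
    have hc0 := hcompat 0 (Nat.succ_pos m)
    let W₀ : Submodule k W := (K 0).comap A
    let A₀ : W₀ →ₗ[k] K 0 := A.restrict (p := W₀) (q := K 0) (fun x hx => hx)
    let B₀ : W₀ →ₗ[k] K' 0 := B.restrict (p := W₀) (q := K' 0) (fun x hx => (hc0 x).mp hx)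
    obtain ⟨h, hh⟩ := bel (hdim 0 (Nat.succ_pos m)) A₀ B₀ (by
      intro w
      rw [← Subtype.coe_inj, ← Subtype.coe_inj (a := B₀ w)]
      exact hker w)
    have hh' : ∀ (w : W) (hw : A w ∈ K 0), ((h ⟨A w, hw⟩ : K' 0) : V') = B w := by
      intro w hw
      have := hh ⟨w, hw⟩
      have e1 : A₀ ⟨w, hw⟩ = ⟨A w, hw⟩ := rfl
      rw [e1] at this
      rw [this]
      rfl
    let A₁ : W × K 0 →ₗ[k] V := A.coprod (K 0).subtype
    let B₁ : W × K 0 →ₗ[k] V' := B.coprod ((K' 0).subtype.comp h.toLinearMap)
    have hA₁ : ∀ w x, A₁ (w, x) = A w + (x : V) := fun w x => by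
      simp [A₁, LinearMap.coprod_apply]
    have hB₁ : ∀ w x, B₁ (w, x) = B w + ((h x : K' 0) : V') := fun w x => by
      simp [B₁, LinearMap.coprod_apply]
    obtain ⟨g, hg1, hg2⟩ := ih (fun i => K (i + 1)) (fun i => K' (i + 1))
      (fun a b hab => hK (Nat.succ_le_succ hab)) (fun a b hab => hK' (Nat.succ_le_succ hab))
      (fun i hi => hdim (i + 1) (Nat.succ_lt_succ hi)) (W × K 0) A₁ B₁
      (by
        rintro ⟨w, x⟩
        rw [hA₁, hB₁]
        constructor
        · intro h0
          have hAw : A w = -(x : V) := eq_neg_of_add_eq_zero_left h0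
          have hw : A w ∈ K 0 := by rw [hAw]; exact (K 0).neg_mem x.2
          have h2 := hh' w hw
          have h3 : (⟨A w, hw⟩ : K 0) = -x := Subtype.ext hAw
          rw [h3, map_neg] at h2
          rw [← h2]
          simp
        · intro h0
          have hBw : B w = -((h x : K' 0) : V') := eq_neg_of_add_eq_zero_left h0
          have hw' : B w ∈ K' 0 := by rw [hBw]; exact (K' 0).neg_mem (h x).2
          have hw : A w ∈ K 0 := (hc0 w).mpr hw'
          have h2 := hh' w hw
          have h3 : h ⟨A w, hw⟩ = h (-x) := by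
            apply Subtype.ext
            rw [h2, hBw, map_neg]
            rfl
          have h4 := h.injective h3
          have h5 : A w = -(x : V) := congrArg Subtype.val h4
          rw [h5]
          simp)
      (by
        intro i hi
        rintro ⟨w, x⟩
        rw [hA₁, hB₁]
        have hx : (x : V) ∈ K (i + 1) := hK (Nat.zero_le _) x.2
        have hx' : ((h x : K' 0) : V') ∈ K' (i + 1) := hK' (Nat.zero_le _) (h x).2
        rw [Submodule.add_mem_iff_left _ hx, Submodule.add_mem_iff_left _ hx']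
        exact hcompat (i + 1) (Nat.succ_lt_succ hi) w)
    have hgK : ∀ x : K 0, g (x : V) = ((h x : K' 0) : V') := by
      intro x
      have := hg1 (0, x)
      rw [hA₁, hB₁] at this
      simpa using this
    refine ⟨g, ?_, ?_⟩
    · intro w
      have := hg1 (w, 0)
      rw [hA₁, hB₁] at this
      simpa using this
    · intro i hi x
      rcases Nat.eq_zero_or_pos i with rfl | hpos
      · constructor
        · intro hx
          rw [hgK ⟨x, hx⟩]
          exact (h ⟨x, hx⟩).2
        · intro hx
          have h1 := hgK (h.symm ⟨g x, hx⟩)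
          rw [LinearEquiv.apply_symm_apply] at h1
          have h2 := g.injective h1
          rw [← h2]
          exact (h.symm ⟨g x, hx⟩).2
      · obtain ⟨i', rfl⟩ : ∃ i', i = i' + 1 := ⟨i - 1, by omega⟩
        exact hg2 i' (by omega) x

end Groth.Agent.Lib.Helper91.Quiver
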