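import Mathlib
import Groth.Agent.Lib.Helper91.QuiverB

set_option autoImplicit false
universe u

namespace Groth.Agent.Lib.Helper91.Quiver

open W4c1btstackcounts Module

variable {k : Type u} [Field k] {d : ℕ → ℕ}

/-- kernel flag in `V_j`: kernels of the composites `V_j → V_{j+i}` -/
noncomputable def Kf (f : (i : ℕ) → Matrix (Fin (d (i + 1))) (Fin (d i)) k) (j i : ℕ) :
    Submodule k (Fin (d j) → k) := LinearMap.ker (cmp f j (Nat.le_add_right j i))

theorem Kf_mono (f : (i : ℕ) → Matrix (Fin (d (i + 1))) (Fin (d i)) k) (j : ℕ) :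
    Monotone (Kf f j) := by
  apply monotone_nat_of_le_succ
  intro i
  unfold Kf
  have : cmp f j (Nat.le_add_right j (i + 1)) =
      (Matrix.toLin' (f (j + i))).comp (cmp f j (Nat.le_add_right j i)) :=
    cmp_succ f j (j + i) _ _
  rw [this]
  exact LinearMap.ker_le_ker_comp _ _

theorem finrank_Kf (f : (i : ℕ) → Matrix (Fin (d (i + 1))) (Fin (d i)) k) (j i : ℕ) :
    rk f j (j + i) (Nat.le_add_right j i) + finrank k (Kf f j i) = d j := by
  unfold rk Kf
  rw [LinearMap.finrank_range_add_finrank_ker, Module.finrank_fin_fun]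

theorem step (f f' : (i : ℕ) → Matrix (Fin (d (i + 1))) (Fin (d i)) k) (r : ℕ)
    (hrk : ∀ i j (h : i ≤ j), 1 ≤ i → j ≤ r → rk f i j h = rk f' i j h)
    (j : ℕ) (hj1 : 1 ≤ j) (W : Type u) [AddCommGroup W] [Module k W]
    (A B : W →ₗ[k] (Fin (d j) → k)) (hker : ∀ w, A w = 0 ↔ B w = 0)
    (hcompat : ∀ l (h : j ≤ l), l ≤ r → ∀ w, cmp f j h (A w) = 0 ↔ cmp f' j h (B w) = 0) :
    ∃ g : (Fin (d j) → k) ≃ₗ[k] (Fin (d j) → k), (∀ w, g (A w) = B w) ∧
      ∀ l (h : j ≤ l), l ≤ r → ∀ x, cmp f j h x = 0 ↔ cmp f' j h (g x) = 0 := by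
  obtain ⟨g, hg1, hg2⟩ := el (k := k) (V := Fin (d j) → k) (V' := Fin (d j) → k) rfl (r + 1 - j)
    (Kf f j) (Kf f' j) (Kf_mono f j) (Kf_mono f' j)
    (by
      intro i hi
      have h1 := finrank_Kf f j i
      have h2 := finrank_Kf f' j i
      have h3 := hrk j (j + i) (Nat.le_add_right j i) hj1 (by omega)
      omega)
    W A B hker
    (by
      intro i hi w
      exact hcompat (j + i) (Nat.le_add_right j i) (by omega) w)
  refine ⟨g, hg1, ?_⟩
  intro l h hl x
  obtain ⟨i, rfl⟩ := Nat.exists_eq_add_of_le h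
  exact hg2 i (by omega) x

theorem exists_equivs (f f' : (i : ℕ) → Matrix (Fin (d (i + 1))) (Fin (d i)) k) (r : ℕ)
    (hrk : ∀ i j (h : i ≤ j), 1 ≤ i → j ≤ r → rk f i j h = rk f' i j h) :
    ∀ n ≤ r, ∃ g : (j : ℕ) → ((Fin (d j) → k) ≃ₗ[k] (Fin (d j) → k)),
      (∀ j, 1 ≤ j → j + 1 ≤ n → ∀ w, g (j + 1) (Matrix.toLin' (f j) w) =
        Matrix.toLin' (f' j) (g j w)) ∧
      (∀ j, 1 ≤ j → j ≤ n → ∀ l (h : j ≤ l), l ≤ r → ∀ x,
        cmp f j h x = 0 ↔ cmp f' j h (g j x) = 0) := by
  intro n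
  induction n with
  | zero =>
    intro _
    exact ⟨fun _ => LinearEquiv.refl _ _, fun j h1 h2 => absurd h2 (by omega),
      fun j h1 h2 => absurd h2 (by omega)⟩
  | succ n ih =>
    intro hn
    obtain ⟨g, hg1, hg2⟩ := ih (by omega)
    rcases Nat.eq_zero_or_pos n with rfl | hpos
    · -- base: construct g 1
      obtain ⟨gn, -, hgn⟩ := step f f' r hrk (0 + 1) le_rfl (Fin (d (0 + 1)) → k) 0 0
        (fun w => by simp) (fun l h hl w => by simp)
      refine ⟨Function.update g (0 + 1) gn, ?_, ?_⟩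
      · intro j h1 h2
        omega
      · intro j h1 h2 l h hl x
        obtain rfl : j = 0 + 1 := by omega
        rw [Function.update_self]
        exact hgn l h hl x
    · -- step
      obtain ⟨gn, hgn1, hgn2⟩ := step f f' r hrk (n + 1) (by omega) (Fin (d n) → k)
        (Matrix.toLin' (f n)) ((Matrix.toLin' (f' n)).comp (g n).toLinearMap)
        (by
          intro w
          have := hg2 n hpos le_rfl (n + 1) (Nat.le_succ n) hn w
          rw [cmp_one, cmp_one] at this
          exact this)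
        (by
          intro l h hl w
          have := hg2 n hpos le_rfl l (by omega) hl w
          rw [cmp_succ_left f n l h, cmp_succ_left f' n l h] at this
          exact this)
      refine ⟨Function.update g (n + 1) gn, ?_, ?_⟩
      · intro j h1 h2 w
        rcases Nat.lt_or_ge j n with hjn | hjn
        · rw [Function.update_of_ne (by omega), Function.update_of_ne (by omega)]
          exact hg1 j h1 (by omega) w
        · obtain rfl : j = n := by omega
          rw [Function.update_self, Function.update_of_ne (by omega)]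
          exact hgn1 w
      · intro j h1 h2 l h hl x
        rcases Nat.lt_or_ge j (n + 1) with hjn | hjn
        · rw [Function.update_of_ne (by omega)]
          exact hg2 j h1 (by omega) l h hl x
        · obtain rfl : j = n + 1 := by omega
          rw [Function.update_self]
          exact hgn2 l h hl x

/-- A linear automorphism of `k^n` as an element of `GL_n`. -/
noncomputable def toGL {n : ℕ} (e : (Fin n → k) ≃ₗ[k] (Fin n → k)) :
    Matrix.GeneralLinearGroup (Fin n) k :=
  ⟨LinearMap.toMatrix' e.toLinearMap, LinearMap.toMatrix' e.symm.toLinearMap,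
    by rw [← LinearMap.toMatrix'_comp]; simp, by rw [← LinearMap.toMatrix'_comp]; simp⟩

theorem toGL_val {n : ℕ} (e : (Fin n → k) ≃ₗ[k] (Fin n → k)) :
    ((toGL e : Matrix.GeneralLinearGroup (Fin n) k) : Matrix (Fin n) (Fin n) k) =
      LinearMap.toMatrix' e.toLinearMap := rfl

theorem toGL_inv_val {n : ℕ} (e : (Fin n → k) ≃ₗ[k] (Fin n → k)) :
    (((toGL e)⁻¹ : Matrix.GeneralLinearGroup (Fin n) k) : Matrix (Fin n) (Fin n) k) =
      LinearMap.toMatrix' e.symm.toLinearMap := rfl

theorem orbit_of_rankArray_eq (f f' : (i : ℕ) → Matrix (Fin (d (i + 1))) (Fin (d i)) k) (r : ℕ)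
    (h : ∀ i j : ℕ, 1 ≤ i → i ≤ j → j ≤ r → rankArray f i j = rankArray f' i j) :
    ∃ g : (j : ℕ) → Matrix.GeneralLinearGroup (Fin (d j)) k,
      ∀ i : ℕ, 1 ≤ i → i + 1 ≤ r → conj g f i = f' i := by
  have hrk : ∀ i j (h : i ≤ j), 1 ≤ i → j ≤ r → rk f i j h = rk f' i j h := by
    intro i j hij hi hj
    rw [← rankArray_eq f i j hij, ← rankArray_eq f' i j hij]
    exact h i j hi hij hj
  obtain ⟨g, hg1, -⟩ := exists_equivs f f' r hrk r le_rfl
  refine ⟨fun j => toGL (g j), ?_⟩
  intro i hi hir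
  unfold conj
  rw [toGL_val, toGL_inv_val]
  apply Matrix.toLin'.injective
  rw [Matrix.toLin'_mul, Matrix.toLin'_mul, Matrix.toLin'_toMatrix', Matrix.toLin'_toMatrix']
  apply LinearMap.ext
  intro w
  simp only [LinearMap.comp_apply, LinearEquiv.coe_coe]
  rw [hg1 i hi hir, LinearEquiv.apply_symm_apply]

end Groth.Agent.Lib.Helper91.Quiver
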