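import Mathlib
import Groth.Agent.Lib.Helper91.QuiverA

set_option autoImplicit false
universe u

namespace Groth.Agent.Lib.Helper91.Quiver

open W4c1btstackcounts Module

/-- standard flag: vectors supported on the first `m` coordinates -/
def Fl (k : Type u) [Field k] (n m : ℕ) : Submodule k (Fin n → k) where
  carrier := {v | ∀ s : Fin n, m ≤ s.val → v s = 0}
  add_mem' := by
    intro v w hv hw s hs
    simp only [Pi.add_apply]
    rw [hv s hs, hw s hs, add_zero]
  zero_mem' := by intro s _; rfl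
  smul_mem' := by
    intro c v hv s hs
    simp only [Pi.smul_apply]
    rw [hv s hs, smul_zero]

variable {k : Type u} [Field k]

theorem mem_Fl {n m : ℕ} (v : Fin n → k) : v ∈ Fl k n m ↔ ∀ s : Fin n, m ≤ s.val → v s = 0 :=
  Iff.rfl

/-- the flag piece is `k^m` -/
noncomputable def FlEquiv {n m : ℕ} (h : m ≤ n) : Fl k n m ≃ₗ[k] (Fin m → k) where
  toFun v := fun t => v.1 ⟨t.val, lt_of_lt_of_le t.2 h⟩
  map_add' := by intros; rfl
  map_smul' := by intros; rfl
  invFun w := ⟨fun s => if hs : s.val < m then w ⟨s.val, hs⟩ else 0, by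
    intro s hs
    simp [not_lt.mpr hs]⟩
  left_inv := by
    intro v
    ext s
    simp only
    split_ifs with hs
    · rfl
    · exact (v.2 s (not_lt.mp hs)).symm
  right_inv := by
    intro w
    ext t
    simp [t.2]

theorem finrank_Fl {n m : ℕ} (h : m ≤ n) : finrank k (Fl k n m) = m :=
  (FlEquiv (k := k) h).finrank_eq.trans (Module.finrank_fin_fun k)

theorem Fl_top (n : ℕ) : Fl k n n = ⊤ := by
  rw [eq_top_iff]
  intro v _ s hs
  exact absurd s.2 (not_lt.mpr hs)

theorem single_mem_Fl {n m : ℕ} (t : Fin n) (ht : t.val < m) :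
    (Pi.single t 1 : Fin n → k) ∈ Fl k n m := by
  intro s hs
  apply Pi.single_eq_of_ne
  intro hst
  rw [hst] at hs
  omega

section Realise

variable (a : ℕ → ℕ → ℕ)

/-- `a` with the convention `a 0 j = 0` -/
def a0 (i j : ℕ) : ℕ := if i = 0 then 0 else a i j

/-- the band containing coordinate `t` of `V_j` -/
noncomputable def bnd (j t : ℕ) : ℕ := sInf {i | 1 ≤ i ∧ t < a i j}

/-- target coordinate -/
noncomputable def sg (j t : ℕ) : ℕ :=
  a0 a (bnd a j t - 1) (j + 1) + (t - a0 a (bnd a j t - 1) j)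

/-- the staircase matrices -/
noncomputable def Mat (k : Type u) [Field k] (d : ℕ → ℕ) (j : ℕ) :
    Matrix (Fin (d (j + 1))) (Fin (d j)) k :=
  Matrix.of fun s t =>
    if (s.val = sg a j t.val ∧ s.val < a (bnd a j t.val) (j + 1)) then 1 else 0

theorem bnd_spec (j t i : ℕ) (hi : 1 ≤ i) (ht : t < a i j) :
    1 ≤ bnd a j t ∧ t < a (bnd a j t) j ∧ bnd a j t ≤ i := by
  have hne : {i | 1 ≤ i ∧ t < a i j}.Nonempty := ⟨i, hi, ht⟩
  have hmem := Nat.sInf_mem hne
  exact ⟨hmem.1, hmem.2, Nat.sInf_le ⟨hi, ht⟩⟩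

theorem bnd_lower (j t b : ℕ) (hb : b < bnd a j t) (hb1 : 1 ≤ b) : a b j ≤ t := by
  by_contra hlt
  push Not at hlt
  exact (Nat.notMem_of_lt_sInf hb) ⟨hb1, hlt⟩

theorem a0_bnd_le (j t : ℕ) : a0 a (bnd a j t - 1) j ≤ t := by
  unfold a0
  split_ifs with h0
  · exact Nat.zero_le _
  · exact bnd_lower a j t _ (by omega) (by omega)

theorem bnd_eq (j t b : ℕ) (hb1 : 1 ≤ b) (ht : t < a b j)
    (hlow : ∀ i', 1 ≤ i' → i' < b → a i' j ≤ t) : bnd a j t = b := by
  apply le_antisymm
  · exact Nat.sInf_le ⟨hb1, ht⟩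
  · have hne : {i | 1 ≤ i ∧ t < a i j}.Nonempty := ⟨b, hb1, ht⟩
    apply le_csInf hne
    rintro i' ⟨h1, h2⟩
    by_contra hlt
    push Not at hlt
    have := hlow i' h1 hlt
    omega

variable {a}
variable {d : ℕ → ℕ} {r : ℕ}

theorem mono_left (h2 : ∀ i j, 1 ≤ i → i < j → j ≤ r → a i j ≤ a (i + 1) j) (j : ℕ)
    (hj : j ≤ r) (i i' : ℕ) (hi : 1 ≤ i) (hii' : i ≤ i') (hi'j : i' ≤ j) : a i j ≤ a i' j := by
  induction i', hii' using Nat.le_induction with
  | base => exact le_rfl
  | succ n hn ih => exact (ih (by omega)).trans (h2 n j (by omega) (by omega) hj)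

theorem toLin_Mat_single (j : ℕ) (t : Fin (d j)) (s : Fin (d (j + 1))) :
    Matrix.toLin' (Mat a k d j) (Pi.single t 1) s =
      if (s.val = sg a j t.val ∧ s.val < a (bnd a j t.val) (j + 1)) then 1 else 0 := by
  rw [Matrix.toLin'_apply, Matrix.mulVec_single_one]
  rfl

theorem map_Mat_Fl (hA : IsRankArray d r a) (i j : ℕ) (hi : 1 ≤ i) (hij : i ≤ j)
    (hjr : j + 1 ≤ r) :
    (Fl k (d j) (a i j)).map (Matrix.toLin' (Mat a k d j)) = Fl k (d (j + 1)) (a i (j + 1)) := by
  obtain ⟨h1, h2, h3, h4⟩ := hA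
  apply le_antisymm
  · rw [Submodule.map_le_iff_le_comap]
    intro v hv
    rw [Submodule.mem_comap, mem_Fl]
    intro s hs
    rw [Matrix.toLin'_apply]
    simp only [Matrix.mulVec, dotProduct]
    apply Finset.sum_eq_zero
    intro t _
    by_cases ht : a i j ≤ t.val
    · rw [hv t ht, mul_zero]
    · push Not at ht
      obtain ⟨hb1, hb2, hb3⟩ := bnd_spec a j t.val i hi ht
      have hmono : a (bnd a j t.val) (j + 1) ≤ a i (j + 1) :=
        mono_left h2 (j + 1) hjr _ _ hb1 hb3 (by omega)
      have : Mat a k d j s t = 0 := by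
        unfold Mat
        rw [Matrix.of_apply, if_neg]
        rintro ⟨_, hlt⟩
        omega
      rw [this, zero_mul]
  · intro w hw
    rw [← Finset.univ_sum_single w]
    apply Submodule.sum_mem
    intro s _
    by_cases hs : a i (j + 1) ≤ s.val
    · rw [hw s hs, Pi.single_zero]
      exact Submodule.zero_mem _
    · push Not at hs
      have hsm : (Pi.single s (w s) : Fin (d (j + 1)) → k) = w s • Pi.single s 1 := by
        rw [← Pi.single_smul, smul_eq_mul, mul_one]
      rw [hsm]
      apply Submodule.smul_mem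
      -- find the preimage coordinate
      obtain ⟨hb1, hb2, hb3⟩ := bnd_spec a (j + 1) s.val i hi hs
      set b := bnd a (j + 1) s.val with hbdef
      have hlow : a0 a (b - 1) (j + 1) ≤ s.val := a0_bnd_le a (j + 1) s.val
      have hbj : b ≤ j := hb3.trans hij
      have hineq : a b (j + 1) + a0 a (b - 1) j ≤ a b j + a0 a (b - 1) (j + 1) := by
        unfold a0
        by_cases hb0 : b - 1 = 0
        · rw [if_pos hb0, if_pos hb0]
          have hb : b = 1 := by omega
          rw [hb]
          have := h3 1 j le_rfl (by omega) (by omega)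
          omega
        · rw [if_neg hb0, if_neg hb0]
          exact h4 b j (by omega) hbj (by omega)
      set t₀ := a0 a (b - 1) j + (s.val - a0 a (b - 1) (j + 1)) with ht₀
      have ht1 : t₀ < a b j := by omega
      have ht2 : a b j ≤ a j j := mono_left h2 j (by omega) b j hb1 hbj le_rfl
      have ht3 : a b j ≤ a i j := mono_left h2 j (by omega) b i hb1 hb3 hij
      have hdj : a j j = d j := h1 j (by omega) (by omega)
      have ht4 : t₀ < d j := by omega
      have hbnd : bnd a j t₀ = b := by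
        apply bnd_eq a j t₀ b hb1 ht1
        intro i' hi'1 hi'b
        have hb0 : b - 1 ≠ 0 := by omega
        have e1 : a0 a (b - 1) j = a (b - 1) j := by unfold a0; rw [if_neg hb0]
        have := mono_left h2 j (by omega) i' (b - 1) hi'1 (by omega) (by omega)
        omega
      have hsg : sg a j t₀ = s.val := by
        unfold sg
        rw [hbnd]
        omega
      refine ⟨Pi.single ⟨t₀, ht4⟩ 1, single_mem_Fl _ (by simpa using lt_of_lt_of_le ht1 ht3), ?_⟩
      funext s'
      rw [toLin_Mat_single]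
      simp only
      rw [hsg, hbnd]
      by_cases hss : s' = s
      · rw [hss, Pi.single_eq_same, if_pos ⟨rfl, hb2⟩]
      · rw [Pi.single_eq_of_ne hss, if_neg]
        rintro ⟨he, _⟩
        exact hss (Fin.ext he)

theorem range_cmp_Mat (hA : IsRankArray d r a) (i : ℕ) (hi : 1 ≤ i) (j : ℕ) (hij : i ≤ j)
    (hjr : j ≤ r) :
    LinearMap.range (cmp (Mat a k d) i hij) = Fl k (d j) (a i j) := by
  induction j, hij using Nat.le_induction with
  | base =>
    rw [cmp_self, LinearMap.range_id, hA.1 i hi hjr, Fl_top]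
  | succ l hil ih =>
    rw [cmp_succ _ i l hil, LinearMap.range_comp, ih (by omega),
      map_Mat_Fl hA i l hi hil hjr]

theorem realise (hA : IsRankArray d r a) (i j : ℕ) (hi : 1 ≤ i) (hij : i ≤ j) (hjr : j ≤ r) :
    rankArray (Mat a k d) i j = a i j := by
  rw [rankArray_eq _ i j hij]
  unfold rk
  rw [range_cmp_Mat hA i hi j hij hjr]
  apply finrank_Fl
  have := mono_left hA.2.1 j hjr i j hi hij le_rfl
  rw [hA.1 j (by omega) hjr] at this
  exact this

end Realise

end Groth.Agent.Lib.Helper91.Quiver
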