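import Groth.Agent.Lib.Helper15.RankOne

/-!
# Braid relation in the abstract rank-one calculus (helper91)

In helper15's abstract `RankOne R Γ` structure (SGA3 XX rank-one commutation rule), the braid relation
`p₊(x) p₋(x') p₊(x) = p₋(x') p₊(x) p₋(x')` (for `x' x = -1`) is NOT derivable over an arbitrary ring
(e.g. over `𝔽₂` the free product `ℤ/2 * ℤ/2` is a model).  It IS derivable as soon as the ring has two
units `u₁ + u₂ = 1`; the scheme-theoretic application then passes to a faithfully flat cover where such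
units exist (see `UnitCover.lean`).
-/

set_option autoImplicit false

namespace Groth.Agent.Lib.Helper91.RankOneBraid

open Groth.Agent.Lib.Helper15

variable {R : Type*} [CommRing R] {Γ : Type*} [Group Γ] (D : RankOne R Γ)

/-- If `1 - s` is a unit then `(p₊(x) p₋(x')) p₊(s x) = p₋(s x') (p₊(x) p₋(x'))`. -/
theorem conj_of_unit (x x' s : R) (hx : x' * x = -1) (u : Rˣ) (hu : (u : R) = 1 - s) :
    D.Pp x * D.Pm x' * D.Pp (s * x) = D.Pm (s * x') * (D.Pp x * D.Pm x') := by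
  have h1 := D.comm_rev (s * x) x' (s * x * ((u⁻¹ : Rˣ) : R)) (x' * ((u⁻¹ : Rˣ) : R)) u
    (by linear_combination hu - s * hx)
    (by rw [mul_assoc, Units.inv_mul, mul_one]) (by rw [mul_assoc, Units.inv_mul, mul_one])
  have h2 := D.comm_rev x (s * x') (x * ((u⁻¹ : Rˣ) : R)) (s * x' * ((u⁻¹ : Rˣ) : R)) u
    (by linear_combination hu - s * hx)
    (by rw [mul_assoc, Units.inv_mul, mul_one]) (by rw [mul_assoc, Units.inv_mul, mul_one])
  have e1 : x + s * x * ((u⁻¹ : Rˣ) : R) = x * ((u⁻¹ : Rˣ) : R) := by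
    linear_combination (-x) * u.mul_inv + x * ((u⁻¹ : Rˣ) : R) * hu
  have e2 : s * x' * ((u⁻¹ : Rˣ) : R) + x' = x' * ((u⁻¹ : Rˣ) : R) := by
    linear_combination (-x') * u.mul_inv + x' * ((u⁻¹ : Rˣ) : R) * hu
  calc D.Pp x * D.Pm x' * D.Pp (s * x)
      = D.Pp x * (D.Pm x' * D.Pp (s * x)) := by rw [mul_assoc]
    _ = D.Pp (x + s * x * ((u⁻¹ : Rˣ) : R)) * (D.H u)⁻¹ * D.Pm (x' * ((u⁻¹ : Rˣ) : R)) := by
        rw [h1, D.Pp_add]; simp only [mul_assoc]
    _ = D.Pp (x * ((u⁻¹ : Rˣ) : R)) * (D.H u)⁻¹ *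
          D.Pm (s * x' * ((u⁻¹ : Rˣ) : R) + x') := by rw [e1, e2]
    _ = (D.Pm (s * x') * D.Pp x) * D.Pm x' := by
        rw [h2, D.Pm_add]; simp only [mul_assoc]
    _ = D.Pm (s * x') * (D.Pp x * D.Pm x') := by rw [mul_assoc]

/-- The braid relation, given two units with `u₁ + u₂ = 1`. -/
theorem braid (x x' : R) (hx : x' * x = -1) (u₁ u₂ : Rˣ) (h12 : (u₁ : R) + u₂ = 1) :
    D.Pp x * D.Pm x' * D.Pp x = D.Pm x' * D.Pp x * D.Pm x' := by
  have E1 := conj_of_unit D x x' (u₂ : R) hx u₁ (by linear_combination h12)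
  have E2 := conj_of_unit D x x' (u₁ : R) hx u₂ (by linear_combination h12)
  have s1 : D.Pp x = D.Pp ((u₂ : R) * x) * D.Pp ((u₁ : R) * x) := by
    rw [← D.Pp_add]
    apply D.Pp_congr
    linear_combination (-x) * h12
  have s2 : D.Pm x' = D.Pm ((u₂ : R) * x') * D.Pm ((u₁ : R) * x') := by
    rw [← D.Pm_add]
    apply D.Pm_congr
    linear_combination (-x') * h12
  calc D.Pp x * D.Pm x' * D.Pp x
      = D.Pp x * D.Pm x' * (D.Pp ((u₂ : R) * x) * D.Pp ((u₁ : R) * x)) := by rw [← s1]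
    _ = (D.Pp x * D.Pm x' * D.Pp ((u₂ : R) * x)) * D.Pp ((u₁ : R) * x) := by
        simp only [mul_assoc]
    _ = D.Pm ((u₂ : R) * x') * (D.Pp x * D.Pm x' * D.Pp ((u₁ : R) * x)) := by
        rw [E1]; simp only [mul_assoc]
    _ = D.Pm ((u₂ : R) * x') * D.Pm ((u₁ : R) * x') * (D.Pp x * D.Pm x') := by
        rw [E2]; simp only [mul_assoc]
    _ = D.Pm x' * D.Pp x * D.Pm x' := by rw [← s2]; simp only [mul_assoc]

/-- Consequences of the braid relation (stated with the braid relation as a hypothesis). -/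
theorem W_conj_Pp_of_braid (x x' : R)
    (hb : D.Pp x * D.Pm x' * D.Pp x = D.Pm x' * D.Pp x * D.Pm x') :
    D.W x x' * D.Pp x * (D.W x x')⁻¹ = D.Pm x' := by
  have h : D.W x x' * D.Pp x = D.Pm x' * D.W x x' := by
    unfold RankOne.W
    calc D.Pp x * D.Pm x' * D.Pp x * D.Pp x
        = (D.Pm x' * D.Pp x * D.Pm x') * D.Pp x := by rw [hb]
      _ = D.Pm x' * (D.Pp x * D.Pm x' * D.Pp x) := by simp only [mul_assoc]
  rw [h]
  group

theorem W_conj_Pm_of_braid (x x' : R)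
    (hb : D.Pp x * D.Pm x' * D.Pp x = D.Pm x' * D.Pp x * D.Pm x') :
    D.W x x' * D.Pm x' * (D.W x x')⁻¹ = D.Pp x := by
  have h : D.W x x' * D.Pm x' = D.Pp x * D.W x x' := by
    unfold RankOne.W
    calc D.Pp x * D.Pm x' * D.Pp x * D.Pm x'
        = D.Pp x * (D.Pm x' * D.Pp x * D.Pm x') := by simp only [mul_assoc]
      _ = D.Pp x * (D.Pp x * D.Pm x' * D.Pp x) := by rw [hb]
  rw [h]
  group

theorem W_pow_four (x x' : R) (hx : x' * x = -1) : D.W x x' ^ 4 = 1 := by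
  have h1 := D.W_sq x x' hx (-1) (by simp)
  have h2 : D.W x x' ^ 4 = (D.W x x' ^ 2) ^ 2 := by rw [← pow_mul]
  rw [h2, h1, pow_two, ← D.H_mul, ← D.H_one]
  apply D.H_congr
  simp

theorem cube_of_braid (x x' : R) (hx : x' * x = -1)
    (hb : D.Pp x * D.Pm x' * D.Pp x = D.Pm x' * D.Pp x * D.Pm x') :
    (D.W x x' * D.Pp x) ^ 3 = 1 := by
  have ha : D.W x x' * D.Pp x = D.Pm x' * D.W x x' := by
    have := W_conj_Pp_of_braid D x x' hb
    rw [← this]; group
  have hbm : D.W x x' * D.Pm x' = D.Pp x * D.W x x' := by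
    have := W_conj_Pm_of_braid D x x' hb
    rw [← this]; group
  have hW : D.W x x' = D.Pm x' * D.Pp x * D.Pm x' := hb
  have h4 := W_pow_four D x x' hx
  calc (D.W x x' * D.Pp x) ^ 3
      = (D.W x x' * D.Pp x) * (D.W x x' * D.Pp x) * (D.W x x' * D.Pp x) := by
        rw [pow_succ, pow_two]
    _ = (D.Pm x' * D.W x x') * (D.Pm x' * D.W x x') * (D.Pm x' * D.W x x') := by rw [ha]
    _ = D.Pm x' * (D.W x x' * D.Pm x') * (D.W x x' * D.Pm x') * D.W x x' := by
        simp only [mul_assoc]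
    _ = D.Pm x' * (D.Pp x * D.W x x') * (D.Pp x * D.W x x') * D.W x x' := by rw [hbm]
    _ = D.Pm x' * D.Pp x * (D.W x x' * D.Pp x) * D.W x x' * D.W x x' := by
        simp only [mul_assoc]
    _ = D.Pm x' * D.Pp x * (D.Pm x' * D.W x x') * D.W x x' * D.W x x' := by rw [ha]
    _ = (D.Pm x' * D.Pp x * D.Pm x') * D.W x x' * D.W x x' * D.W x x' := by
        simp only [mul_assoc]
    _ = D.W x x' ^ 4 := by rw [← hW]; simp only [pow_succ, pow_zero, one_mul]
    _ = 1 := h4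

end Groth.Agent.Lib.Helper91.RankOneBraid
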