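import Mathlib
import Groth.Prelude.Def_GmPts

/-!
# A faithfully flat cover on which `1` is a sum of two units (helper91)

For every scheme `Y` we construct `cover Y ⟶ Y`, flat and surjective (hence an epimorphism of schemes,
`Flat.epi_of_flat_of_surjective`), together with a global function `τ` on `cover Y` such that
`τ * (1 - τ) = 1`; so `τ` and `1 - τ` are units with sum `1`.  (`cover Y = Y ×_ℤ Spec ℤ[t]/(t² - t + 1)`.)

This is used to run "enough units" arguments for identities between points of group schemes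
(e.g. the braid relation in rank one, see `RankOneBraid.lean`) over an arbitrary base.
-/

set_option autoImplicit false

universe u

open CategoryTheory CategoryTheory.Limits AlgebraicGeometry Polynomial

noncomputable section

namespace Groth.Agent.Lib.Helper91.UnitCover

abbrev Zu : Type u := ULift.{u} ℤ

def poly : Zu.{u}[X] := X ^ 2 - X + 1

theorem poly_eq : (poly.{u}) = X ^ 2 - (X - C 1) := by
  unfold poly
  rw [map_one]
  ring

theorem poly_monic : (poly.{u}).Monic := by
  rw [poly_eq]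
  exact Polynomial.monic_X_pow_sub
    (lt_of_le_of_lt (degree_X_sub_C_le _) (by exact_mod_cast Nat.one_lt_two))

abbrev A : Type u := AdjoinRoot poly.{u}

instance : Module.Free Zu.{u} A.{u} := poly_monic.free_adjoinRoot

theorem natDegree_poly : (poly.{u}).natDegree = 2 := by
  rw [poly_eq, Polynomial.natDegree_sub_eq_left_of_natDegree_lt, natDegree_X_pow]
  rw [natDegree_X_pow, natDegree_X_sub_C]
  exact Nat.one_lt_two

instance : Nontrivial A.{u} := by
  have hd : 0 < (AdjoinRoot.powerBasis' poly_monic.{u}).dim := by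
    rw [AdjoinRoot.powerBasis'_dim, natDegree_poly]
    exact Nat.zero_lt_two
  exact ⟨⟨_, 0, (AdjoinRoot.powerBasis' poly_monic.{u}).basis.ne_zero ⟨0, hd⟩⟩⟩

theorem aeval_poly {B : Type u} [CommRing B] [Algebra Zu.{u} B] (b : B) :
    Polynomial.aeval b poly.{u} = b ^ 2 - b + 1 := by
  unfold poly
  rw [map_add, map_sub, map_pow, aeval_X, map_one]

def t : A.{u} := AdjoinRoot.root poly

theorem t_mul : t.{u} * (1 - t) = 1 := by
  have h : Polynomial.aeval t.{u} poly.{u} = 0 := by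
    unfold t
    rw [AdjoinRoot.aeval_eq, AdjoinRoot.mk_self]
  rw [aeval_poly] at h
  have e : t.{u} * (1 - t) = 1 - (t ^ 2 - t + 1) := by ring
  rw [e, h, sub_zero]

theorem faithfullyFlat : (algebraMap Zu.{u} A.{u}).FaithfullyFlat := by
  rw [RingHom.faithfullyFlat_algebraMap_iff]
  have h1 : Module.Free Zu.{u} A.{u} := poly_monic.free_adjoinRoot
  have h2 : Nontrivial A.{u} := inferInstance
  exact @Module.FaithfullyFlat.instOfNontrivialOfFree _ _ _ _ _ h2 h1

/-- `Spec ℤ[t]/(t²-t+1) ⟶ Spec ℤ`. -/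
def specA : Spec (CommRingCat.of A.{u}) ⟶ GmPts.baseZ.{u} :=
  Spec.map (CommRingCat.ofHom (algebraMap Zu.{u} A.{u}))

instance : Flat specA.{u} :=
  ((flat_and_surjective_SpecMap_iff _).mpr faithfullyFlat).1

instance : Surjective specA.{u} :=
  ((flat_and_surjective_SpecMap_iff _).mpr faithfullyFlat).2

variable (Y : Scheme.{u})

/-- The cover `Y ×_ℤ Spec ℤ[t]/(t²-t+1)`. -/
abbrev cover : Scheme.{u} := pullback (GmPts.toBaseZ Y) specA.{u}

abbrev π : cover Y ⟶ Y := pullback.fst _ _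

instance : Epi (π Y) := Flat.epi_of_flat_of_surjective _

/-- The ring map `ℤ[t]/(t²-t+1) ⟶ Γ(cover Y)`. -/
def φ : A.{u} →+* Γ(cover Y, ⊤) :=
  ((Scheme.ΓSpecIso (CommRingCat.of A.{u})).inv ≫
    (pullback.snd (GmPts.toBaseZ Y) specA.{u}).appTop).hom

/-- The global function `τ` on the cover. -/
def τ : Γ(cover Y, ⊤) := φ Y t

theorem τ_mul : τ Y * (1 - τ Y) = 1 := by
  unfold τ
  rw [← map_one (φ Y), ← map_sub, ← map_mul, t_mul]

/-- `τ` as a unit. -/
def u₁ : (Γ(cover Y, ⊤))ˣ :=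
  ⟨τ Y, 1 - τ Y, τ_mul Y, by rw [mul_comm]; exact τ_mul Y⟩

/-- `1 - τ` as a unit. -/
def u₂ : (Γ(cover Y, ⊤))ˣ :=
  ⟨1 - τ Y, τ Y, by rw [mul_comm]; exact τ_mul Y, τ_mul Y⟩

theorem u₁_add_u₂ : ((u₁ Y : (Γ(cover Y, ⊤))ˣ) : Γ(cover Y, ⊤)) + (u₂ Y : (Γ(cover Y, ⊤))ˣ) = 1 := by
  show τ Y + (1 - τ Y) = 1
  ring

end Groth.Agent.Lib.Helper91.UnitCover
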