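import Groth.Agent.Lib.Helper15.RankOneBridge
import Groth.Agent.Lib.Helper91.RankOneBraid
import Groth.Agent.Lib.Helper91.UnitCover

/-!
# The braid relation `p₊(x) p₋(x') p₊(x) = p₋(x') p₊(x) p₋(x')` (`x' x = -1`) for rank-one data (helper91)

For helper15's `RankOneData i α pp pm av` (SGA3 XX rank-one commutation rule for `p₊, p₋ : 𝔾_a ⟶ G`),
the braid relation holds for points over every `S`-scheme `X`: pass to the flat surjective cover
`UnitCover.cover X.left ⟶ X.left` (an epimorphism of schemes) on which `1` is a sum of two units, where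
the relation follows from the abstract calculus (`RankOneBraid.braid`).
-/

set_option autoImplicit false

universe u

open CategoryTheory MonoidalCategory CartesianMonoidalCategory MonObj GrpObj AlgebraicGeometry CategoryTheory.Limits

noncomputable section

namespace Groth.Agent.Lib.Helper91.RankOneBraidScheme

open Groth.Agent.Lib.Helper15 Groth.Agent.Lib.Helper91

variable {S : Scheme.{u}}

/-- The cover of an `S`-scheme, as an `S`-scheme. -/
abbrev coverOver (X : Over S) : Over S := Over.mk (UnitCover.π X.left ≫ X.hom)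

/-- The covering map. -/
abbrev coverMap (X : Over S) : coverOver X ⟶ X := Over.homMk (UnitCover.π X.left) rfl

theorem coverMap_cancel {X Y : Over S} {f g : X ⟶ Y} (h : coverMap X ≫ f = coverMap X ≫ g) :
    f = g := by
  apply Over.OverMorphism.ext
  have h' : (coverMap X ≫ f).left = (coverMap X ≫ g).left := by rw [h]
  rw [Over.comp_left, Over.comp_left] at h'
  exact (cancel_epi (UnitCover.π X.left)).mp h'

variable {G T : Over S} [GrpObj G] [GrpObj T]
variable {i : T ⟶ G} [IsMonHom i] {α : T ⟶ Red.Gm S} [IsMonHom α] {pp pm : Red.Ga S ⟶ G}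
  [IsMonHom pp] [IsMonHom pm] {av : Red.Gm S ⟶ T} [IsMonHom av]

theorem braid (hD : RankOneData i α pp pm av) (X : Over S) (x x' : X ⟶ Red.Ga S)
    (hx : Red.gaFn x' * Red.gaFn x = -1) :
    (x ≫ pp) * (x' ≫ pm) * (x ≫ pp) = (x' ≫ pm) * (x ≫ pp) * (x' ≫ pm) := by
  apply coverMap_cancel
  rw [MonObj.comp_mul, MonObj.comp_mul, MonObj.comp_mul, MonObj.comp_mul, ← Category.assoc,
    ← Category.assoc]
  have hx' : Red.gaFn (coverMap X ≫ x') * Red.gaFn (coverMap X ≫ x) = -1 := by
    rw [GaPts.gaFn_comp, GaPts.gaFn_comp, ← map_mul, hx, map_neg, map_one]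
  have key := RankOneBraid.braid (hD.rankOne (coverOver X)) _ _ hx'
    (UnitCover.u₁ X.left) (UnitCover.u₂ X.left) (UnitCover.u₁_add_u₂ X.left)
  rw [hD.Pp_gaFn, hD.Pm_gaFn] at key
  exact key

end Groth.Agent.Lib.Helper91.RankOneBraidScheme
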