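import Mathlib

/-!
# The totally ramified extension `R[X]/(X^e - π)` of a discrete valuation ring (helper91)
-/

set_option autoImplicit false
set_option linter.unusedSectionVars false

namespace Groth.Agent.Lib.Helper91.RootDVR

open Polynomial

variable {R : Type*} [CommRing R] [IsDomain R] [IsDiscreteValuationRing R]

/-- The Eisenstein polynomial `X^e - π`. -/
noncomputable def pol (π : R) (e : ℕ) : R[X] := X ^ e - C π

theorem pol_monic (π : R) {e : ℕ} (he : 0 < e) : (pol π e).Monic :=
  monic_X_pow_sub_C π he.ne'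

theorem pol_natDegree (π : R) {e : ℕ} (_he : 0 < e) : (pol π e).natDegree = e :=
  natDegree_X_pow_sub_C

theorem pol_degree_ne_zero (π : R) {e : ℕ} (he : 0 < e) : (pol π e).degree ≠ 0 := by
  rw [degree_eq_natDegree (pol_monic π he).ne_zero, pol_natDegree π he]
  exact_mod_cast he.ne'

theorem pol_irreducible {π : R} (hπ : Irreducible π) {e : ℕ} (he : 0 < e) :
    Irreducible (pol π e) := by
  have hprime : (Ideal.span {π}).IsPrime :=
    (Ideal.span_singleton_prime hπ.ne_zero).mpr hπ.prime
  refine irreducible_of_eisenstein_criterion hprime ?_ ?_ ?_ ?_ (pol_monic π he).isPrimitive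
  · rw [(pol_monic π he).leadingCoeff]
    intro h
    exact hprime.ne_top ((Ideal.eq_top_iff_one _).mpr h)
  · intro n hn
    rw [degree_eq_natDegree (pol_monic π he).ne_zero, pol_natDegree π he] at hn
    have hn' : n < e := by exact_mod_cast hn
    rw [pol, coeff_sub, coeff_X_pow, if_neg hn'.ne, coeff_C]
    split_ifs
    · simp
    · simp
  · rw [degree_eq_natDegree (pol_monic π he).ne_zero, pol_natDegree π he]
    exact_mod_cast he
  · rw [pol, coeff_sub, coeff_X_pow, if_neg he.ne, coeff_C_zero, zero_sub, neg_mem_iff,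
      Ideal.span_singleton_pow, Ideal.mem_span_singleton]
    rintro ⟨c, hc⟩
    have : π * 1 = π * (π * c) := by rw [mul_one, ← mul_assoc, ← pow_two]; exact hc
    have h1 := mul_left_cancel₀ hπ.ne_zero this
    exact hπ.not_isUnit (IsUnit.of_mul_eq_one c h1.symm)

/-- The extension ring. -/
abbrev Ext (π : R) (e : ℕ) : Type _ := AdjoinRoot (pol π e)

theorem isDomain {π : R} (hπ : Irreducible π) {e : ℕ} (he : 0 < e) : IsDomain (Ext π e) :=
  AdjoinRoot.isDomain_of_prime (pol_irreducible hπ he).prime

theorem root_pow (π : R) (e : ℕ) :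
    (AdjoinRoot.root (pol π e)) ^ e = AdjoinRoot.of (pol π e) π := by
  have h := AdjoinRoot.eval₂_root (pol π e)
  rw [pol, eval₂_sub, eval₂_pow, eval₂_X, eval₂_C, sub_eq_zero] at h
  exact h

theorem of_injective (π : R) {e : ℕ} (he : 0 < e) :
    Function.Injective (AdjoinRoot.of (pol π e)) :=
  AdjoinRoot.of.injective_of_degree_ne_zero (pol_degree_ne_zero π he)

theorem finite (π : R) {e : ℕ} (he : 0 < e) : Module.Finite R (Ext π e) :=
  (pol_monic π he).finite_adjoinRoot

/-- The residue map `R[X]/(X^e - π) → R/(π)` killing the root. -/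
noncomputable def resid (π : R) {e : ℕ} (he : 0 < e) : Ext π e →+* R ⧸ Ideal.span {π} :=
  AdjoinRoot.lift (Ideal.Quotient.mk (Ideal.span {π})) 0 (by
    rw [pol, eval₂_sub, eval₂_pow, eval₂_X, eval₂_C, zero_pow he.ne', zero_sub, neg_eq_zero,
      Ideal.Quotient.eq_zero_iff_mem]
    exact Ideal.mem_span_singleton_self π)

theorem resid_root (π : R) {e : ℕ} (he : 0 < e) : resid π he (AdjoinRoot.root _) = 0 :=
  AdjoinRoot.lift_root _

theorem resid_of (π : R) {e : ℕ} (he : 0 < e) (r : R) :
    resid π he (AdjoinRoot.of _ r) = Ideal.Quotient.mk _ r :=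
  AdjoinRoot.lift_of _

theorem resid_surjective (π : R) {e : ℕ} (he : 0 < e) : Function.Surjective (resid π he) := by
  intro y
  obtain ⟨r, rfl⟩ := Ideal.Quotient.mk_surjective y
  exact ⟨AdjoinRoot.of _ r, resid_of π he r⟩

/-- Every element is congruent to a constant modulo the root. -/
theorem exists_eq_of_add_root_mul (π : R) (e : ℕ) (a : Ext π e) :
    ∃ (r : R) (b : Ext π e), a = AdjoinRoot.of _ r + AdjoinRoot.root _ * b := by
  obtain ⟨p, rfl⟩ := AdjoinRoot.mk_surjective a
  refine ⟨p.coeff 0, AdjoinRoot.mk _ p.divX, ?_⟩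
  conv_lhs => rw [← Polynomial.X_mul_divX_add p]
  rw [map_add, map_mul, AdjoinRoot.mk_X, AdjoinRoot.mk_C, add_comm]

theorem ker_resid (π : R) {e : ℕ} (he : 0 < e) :
    RingHom.ker (resid π he) = Ideal.span {AdjoinRoot.root (pol π e)} := by
  apply le_antisymm
  · intro a ha
    obtain ⟨r, b, rfl⟩ := exists_eq_of_add_root_mul π e a
    rw [RingHom.mem_ker, map_add, map_mul, resid_root, zero_mul, add_zero, resid_of,
      Ideal.Quotient.eq_zero_iff_mem, Ideal.mem_span_singleton] at ha
    obtain ⟨c, rfl⟩ := ha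
    refine Ideal.add_mem _ ?_ (Ideal.mul_mem_right _ _ (Ideal.mem_span_singleton_self _))
    rw [map_mul, ← root_pow, ← Nat.succ_pred_eq_of_pos he, pow_succ, mul_assoc, mul_comm,
      mul_assoc]
    exact Ideal.mul_mem_right _ _ (Ideal.mem_span_singleton_self _)
  · rw [Ideal.span_le, Set.singleton_subset_iff]
    exact resid_root π he

theorem span_root_isMaximal {π : R} (hπ : Irreducible π) {e : ℕ} (he : 0 < e) :
    (Ideal.span {AdjoinRoot.root (pol π e)}).IsMaximal := by
  have hmax : (Ideal.span {π}).IsMaximal :=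
    PrincipalIdealRing.isMaximal_of_irreducible hπ
  let _ : Field (R ⧸ Ideal.span {π}) := Ideal.Quotient.field _
  rw [← ker_resid π he]
  exact RingHom.ker_isMaximal_of_surjective (resid π he) (resid_surjective π he)

theorem isLocalRing {π : R} (hπ : Irreducible π) {e : ℕ} (he : 0 < e) :
    IsLocalRing (Ext π e) := by
  have hM := span_root_isMaximal hπ he
  have hint : Algebra.IsIntegral R (Ext π e) := by
    have := finite π he
    exact Algebra.IsIntegral.of_finite R (Ext π e)
  refine IsLocalRing.of_unique_max_ideal ⟨_, hM, ?_⟩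
  intro M hMmax
  -- `M` contains `π`, hence the root
  have hcomap : (M.comap (algebraMap R (Ext π e))).IsMaximal :=
    Ideal.isMaximal_comap_of_isIntegral_of_isMaximal M
  have hπM : algebraMap R (Ext π e) π ∈ M := by
    have h1 : M.comap (algebraMap R (Ext π e)) = IsLocalRing.maximalIdeal R :=
      IsLocalRing.eq_maximalIdeal hcomap
    have h2 : π ∈ IsLocalRing.maximalIdeal R := by
      rw [IsLocalRing.mem_maximalIdeal, mem_nonunits_iff]
      exact hπ.not_isUnit
    rw [← h1] at h2
    exact h2
  have hroot : AdjoinRoot.root (pol π e) ∈ M := by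
    have : (AdjoinRoot.root (pol π e)) ^ e ∈ M := by
      rw [root_pow]; exact hπM
    exact hMmax.isPrime.mem_of_pow_mem _ this
  have hle : Ideal.span {AdjoinRoot.root (pol π e)} ≤ M := by
    rw [Ideal.span_le, Set.singleton_subset_iff]; exact hroot
  exact (hM.eq_of_le hMmax.ne_top hle).symm

theorem root_ne_zero {π : R} (hπ : Irreducible π) {e : ℕ} (he : 0 < e) :
    AdjoinRoot.root (pol π e) ≠ 0 := by
  intro h
  have h1 := root_pow π e
  rw [h, zero_pow he.ne'] at h1
  exact hπ.ne_zero (of_injective π he (by rw [← h1, map_zero]))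

theorem maximalIdeal_eq {π : R} (hπ : Irreducible π) {e : ℕ} (he : 0 < e) :
    letI := isLocalRing hπ he
    IsLocalRing.maximalIdeal (Ext π e) = Ideal.span {AdjoinRoot.root (pol π e)} := by
  let _ := isLocalRing hπ he
  exact (IsLocalRing.eq_maximalIdeal (span_root_isMaximal hπ he)).symm

theorem isDVR {π : R} (hπ : Irreducible π) {e : ℕ} (he : 0 < e) :
    @IsDiscreteValuationRing (Ext π e) _ (isDomain hπ he) := by
  let _ := isDomain hπ he
  let _ := isLocalRing hπ he
  have hmax := maximalIdeal_eq hπ he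
  have hnf : ¬ IsField (Ext π e) := by
    rw [IsLocalRing.isField_iff_maximalIdeal_eq, hmax, Ideal.span_singleton_eq_bot]
    exact root_ne_zero hπ he
  refine ((IsDiscreteValuationRing.TFAE (Ext π e) hnf).out 4 0).mp ?_
  rw [hmax]
  exact ⟨⟨_, rfl⟩⟩

theorem isLocalHom {π : R} (_hπ : Irreducible π) {e : ℕ} (he : 0 < e) :
    IsLocalHom (algebraMap R (Ext π e)) := by
  have := finite π he
  have hint : (algebraMap R (Ext π e)).IsIntegral :=
    (Algebra.IsIntegral.of_finite R (Ext π e)).isIntegral
  exact RingHom.IsIntegral.isLocalHom hint (of_injective π he)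

end Groth.Agent.Lib.Helper91.RootDVR
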