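import Mathlib

set_option autoImplicit false

namespace Groth.Agent.Lib.Helper91

open PowerSeries

noncomputable section

/-- the series `(e^x - 1)/x` -/
def E1 : PowerSeries ℚ := PowerSeries.mk fun k => (1 : ℚ) / ((k + 1).factorial : ℚ)

theorem X_mul_E1 : (X : PowerSeries ℚ) * E1 = exp ℚ - 1 := by
  ext n
  cases n with
  | zero => simp [E1]
  | succ n =>
    rw [coeff_succ_X_mul]
    simp [E1, coeff_exp]

theorem rescale_neg_one_B :
    rescale (-1 : ℚ) (bernoulli'PowerSeries ℚ) = bernoulliPowerSeries ℚ := by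
  ext n
  simp only [coeff_rescale, bernoulli'PowerSeries, bernoulliPowerSeries, coeff_mk,
    bernoulli'_eq_bernoulli]
  have h : ((-1 : ℚ) ^ n) * ((-1) ^ n) = 1 := by
    rw [← mul_pow]; simp
  simp only [Algebra.algebraMap_self, RingHom.id_apply]
  linear_combination (bernoulli n / (n.factorial : ℚ)) * h

theorem rescale_neg_one_B_mul_exp_sub_one :
    rescale (-1 : ℚ) (bernoulli'PowerSeries ℚ) * (exp ℚ - 1) = X := by
  rw [rescale_neg_one_B, bernoulliPowerSeries_mul_exp_sub_one]

theorem rescale_neg_one_B_mul_E1 :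
    rescale (-1 : ℚ) (bernoulli'PowerSeries ℚ) * E1 = 1 := by
  have h := rescale_neg_one_B_mul_exp_sub_one
  rw [← X_mul_E1] at h
  have h2 : (X : PowerSeries ℚ) * (rescale (-1 : ℚ) (bernoulli'PowerSeries ℚ) * E1) = X * 1 := by
    rw [mul_one]
    linear_combination h
  exact mul_left_cancel₀ X_ne_zero h2

theorem constantCoeff_B : constantCoeff (bernoulli'PowerSeries ℚ) = 1 := by
  rw [← coeff_zero_eq_constantCoeff_apply]
  simp [bernoulli'PowerSeries]

theorem inv_rescale_neg_B (d : ℚ) :
    (rescale (-d) (bernoulli'PowerSeries ℚ))⁻¹ = rescale d E1 := by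
  have hc : constantCoeff (rescale (-d) (bernoulli'PowerSeries ℚ)) ≠ 0 := by
    rw [← coeff_zero_eq_constantCoeff_apply, coeff_rescale, coeff_zero_eq_constantCoeff_apply,
      constantCoeff_B]
    simp
  rw [PowerSeries.inv_eq_iff_mul_eq_one hc]
  have h := congrArg (rescale d) rescale_neg_one_B_mul_E1
  rw [map_mul, rescale_rescale, map_one, neg_one_mul] at h
  rw [mul_comm]
  exact h

theorem exp_sub_one_ne_zero : exp ℚ - 1 ≠ 0 := by
  intro h
  have h1 := congrArg (coeff 1) h
  simp [coeff_exp] at h1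

theorem rescale_neg_one_B_mul_exp :
    rescale (-1 : ℚ) (bernoulli'PowerSeries ℚ) * exp ℚ = bernoulli'PowerSeries ℚ := by
  apply mul_right_cancel₀ exp_sub_one_ne_zero
  rw [bernoulli'PowerSeries_mul_exp_sub_one]
  linear_combination (exp ℚ) * rescale_neg_one_B_mul_exp_sub_one

theorem rescale_neg_B_mul_exp (c : ℚ) :
    rescale (-c) (bernoulli'PowerSeries ℚ) * rescale c (exp ℚ) =
      rescale c (bernoulli'PowerSeries ℚ) := by
  have h := congrArg (rescale c) rescale_neg_one_B_mul_exp
  rw [map_mul, rescale_rescale, neg_one_mul] at h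
  exact h

/-- the `p`-independent factor of the Todd integrand -/
def G (n : ℕ) (d s : ℚ) : PowerSeries ℚ :=
  rescale d E1 * bernoulli'PowerSeries ℚ ^ (n + 1) * rescale (s - d - n - 1) (exp ℚ)

theorem todd_eq (n : ℕ) (d p s : ℚ) :
    (rescale (-d) (bernoulli'PowerSeries ℚ))⁻¹ * rescale (-(d * p)) (bernoulli'PowerSeries ℚ) *
        bernoulli'PowerSeries ℚ ^ (n + 1) * rescale (d * p - d - n - 1 + s) (exp ℚ) =
      G n d s * rescale (d * p) (bernoulli'PowerSeries ℚ) := by
  rw [inv_rescale_neg_B]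
  have h1 : rescale (d * p - d - n - 1 + s) (exp ℚ) =
      rescale (d * p) (exp ℚ) * rescale (s - d - n - 1) (exp ℚ) := by
    rw [exp_mul_exp_eq_exp_add]
    congr 2
    ring
  rw [h1, ← rescale_neg_B_mul_exp (d * p), G]
  ring

theorem coeff_B (j : ℕ) :
    coeff j (bernoulli'PowerSeries ℚ) = bernoulli' j / (j.factorial : ℚ) := by
  simp [bernoulli'PowerSeries]

theorem coeff_todd (n : ℕ) (d p s : ℚ) :
    coeff n (G n d s * rescale (d * p) (bernoulli'PowerSeries ℚ)) =
      ∑ j ∈ Finset.range (n + 1),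
        ((d * p) ^ j * (bernoulli' j / (j.factorial : ℚ))) * coeff (n - j) (G n d s) := by
  rw [mul_comm, coeff_mul, Finset.Nat.sum_antidiagonal_eq_sum_range_succ_mk]
  apply Finset.sum_congr rfl
  intro j _
  rw [coeff_rescale, coeff_B]

theorem constantCoeff_E1 : constantCoeff E1 = 1 := by
  rw [← coeff_zero_eq_constantCoeff_apply]
  simp [E1]

theorem constantCoeff_rescale (a : ℚ) (f : PowerSeries ℚ) :
    constantCoeff (rescale a f) = constantCoeff f := by
  rw [← coeff_zero_eq_constantCoeff_apply, coeff_rescale, coeff_zero_eq_constantCoeff_apply]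
  simp

theorem coeff_zero_G (n : ℕ) (d s : ℚ) : coeff 0 (G n d s) = 1 := by
  rw [coeff_zero_eq_constantCoeff_apply, G, map_mul, map_mul, map_pow, constantCoeff_rescale,
    constantCoeff_rescale, constantCoeff_E1, constantCoeff_B, constantCoeff_exp]
  simp

theorem coeff_one_G (n : ℕ) (d s : ℚ) : coeff 1 (G n d s) = (2 * s - d - n - 1) / 2 := by
  rw [G, coeff_one_mul, coeff_one_mul, coeff_one_pow, map_mul, map_pow, constantCoeff_rescale,
    constantCoeff_rescale, constantCoeff_E1, constantCoeff_B, constantCoeff_exp, coeff_rescale,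
    coeff_rescale, coeff_B, coeff_exp]
  simp [E1]
  ring

end

end Groth.Agent.Lib.Helper91
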