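import Groth.Agent.S17713

set_option autoImplicit false

namespace Groth.Agent.Lib.Helper91

open Filter

theorem bernoulli_sign (k : ℕ) (hk : k ≠ 0) :
    0 < (-1 : ℚ) ^ (k + 1) * bernoulli (2 * k) := by
  have h := hasSum_zeta_nat hk
  have h1 : (1 : ℝ) ≤ (-1 : ℝ) ^ (k + 1) * (2 : ℝ) ^ (2 * k - 1) * Real.pi ^ (2 * k) *
      bernoulli (2 * k) / (Nat.factorial (2 * k) : ℝ) := by
    have := le_hasSum h 1 (fun j _ => by positivity)
    simpa using this
  have hpos : (0 : ℝ) < (2 : ℝ) ^ (2 * k - 1) * Real.pi ^ (2 * k) /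
      (Nat.factorial (2 * k) : ℝ) := by positivity
  have hre : (-1 : ℝ) ^ (k + 1) * (2 : ℝ) ^ (2 * k - 1) * Real.pi ^ (2 * k) *
      bernoulli (2 * k) / (Nat.factorial (2 * k) : ℝ) =
      ((-1 : ℝ) ^ (k + 1) * bernoulli (2 * k)) *
        ((2 : ℝ) ^ (2 * k - 1) * Real.pi ^ (2 * k) / (Nat.factorial (2 * k) : ℝ)) := by ring
  rw [hre] at h1
  have h2 : (0 : ℝ) < (-1 : ℝ) ^ (k + 1) * bernoulli (2 * k) := by
    by_contra hcon
    push Not at hcon
    have := mul_nonpos_of_nonpos_of_nonneg hcon hpos.le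
    linarith
  have h3 : (0 : ℝ) < (((-1 : ℚ) ^ (k + 1) * bernoulli (2 * k) : ℚ) : ℝ) := by
    push_cast
    exact h2
  exact_mod_cast h3

theorem bernoulli'_neg_of_mod_four_zero (n : ℕ) (hn : 2 ≤ n) (h4 : n % 4 = 0) :
    bernoulli' n < 0 := by
  obtain ⟨m, rfl⟩ : ∃ m, n = 2 * (2 * m) := ⟨n / 4, by omega⟩
  have hm : 2 * m ≠ 0 := by omega
  have h := bernoulli_sign (2 * m) hm
  rw [← bernoulli_eq_bernoulli'_of_ne_one (by omega)]
  have e : (-1 : ℚ) ^ (2 * m + 1) = -1 := by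
    rw [pow_succ, pow_mul]; simp
  rw [e] at h
  linarith

theorem bernoulli'_pos_of_mod_four_two (n : ℕ) (h4 : n % 4 = 2) :
    0 < bernoulli' n := by
  obtain ⟨m, rfl⟩ : ∃ m, n = 2 * (2 * m + 1) := ⟨n / 4, by omega⟩
  have hm : 2 * m + 1 ≠ 0 := by omega
  have h := bernoulli_sign (2 * m + 1) hm
  rw [← bernoulli_eq_bernoulli'_of_ne_one (by omega)]
  have e : (-1 : ℚ) ^ (2 * m + 1 + 1) = 1 := by
    rw [show 2 * m + 1 + 1 = 2 * (m + 1) by ring, pow_mul]; simp
  rw [e] at h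
  linarith

theorem eventually_neg (N : ℕ) (hN : 1 ≤ N) (c : ℚ) (hc : c < 0) (P : Polynomial ℚ)
    (hP : P.natDegree < N) :
    ∃ p0 : ℕ, ∀ p : ℕ, p0 ≤ p → c * (p : ℚ) ^ N + P.eval (p : ℚ) < 0 := by
  set Q : Polynomial ℚ := Polynomial.C c * Polynomial.X ^ N + P with hQ
  have hc0 : c ≠ 0 := hc.ne
  have hdegP : P.degree < (Polynomial.C c * Polynomial.X ^ N).degree := by
    rw [Polynomial.degree_C_mul_X_pow N hc0]
    calc P.degree ≤ (P.natDegree : WithBot ℕ) := Polynomial.degree_le_natDegree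
      _ < (N : WithBot ℕ) := by exact_mod_cast hP
  have hdeg : Q.degree = N := by
    rw [hQ, Polynomial.degree_add_eq_left_of_degree_lt hdegP, Polynomial.degree_C_mul_X_pow N hc0]
  have hlead : Q.leadingCoeff = c := by
    rw [hQ, Polynomial.leadingCoeff_add_of_degree_lt' hdegP, Polynomial.leadingCoeff_mul,
      Polynomial.leadingCoeff_C, Polynomial.leadingCoeff_X_pow, mul_one]
  have hdeg0 : 0 < Q.degree := by
    rw [hdeg]
    exact_mod_cast hN
  have ht := Polynomial.tendsto_atBot_of_leadingCoeff_nonpos Q hdeg0 (by rw [hlead]; exact hc.le)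
  have ht2 : Tendsto (fun p : ℕ => Polynomial.eval (p : ℚ) Q) atTop atBot :=
    ht.comp tendsto_natCast_atTop_atTop
  have hev := ht2.eventually (eventually_lt_atBot (0 : ℚ))
  rw [eventually_atTop] at hev
  obtain ⟨p0, hp0⟩ := hev
  refine ⟨p0, fun p hp => ?_⟩
  have := hp0 p hp
  simpa [hQ] using this

open PowerSeries in
theorem todd_eventually_neg (n d : ℕ) (s : ℤ) (hn : 2 ≤ n) (hd : 1 ≤ d)
    (hsign : bernoulli' n < 0 ∨
      (bernoulli' n = 0 ∧ (2 * (s : ℚ) - d - n - 1) / 2 * bernoulli' (n - 1) < 0)) :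
    ∃ P : ℕ, ∀ p : ℕ, P ≤ p →
      PowerSeries.coeff n ((PowerSeries.rescale (-(d : ℚ)) (bernoulli'PowerSeries ℚ))⁻¹ *
        PowerSeries.rescale (-((d : ℚ) * p)) (bernoulli'PowerSeries ℚ) *
        bernoulli'PowerSeries ℚ ^ (n + 1) *
        PowerSeries.rescale ((d : ℚ) * p - d - n - 1 + s) (PowerSeries.exp ℚ)) < 0 := by
  obtain ⟨P, hPdeg, hP⟩ := Groth.Agent.S17713.result n d s hn hd
  have hd0 : (0 : ℚ) < d := by exact_mod_cast hd
  rcases hsign with hneg | ⟨hzero, hneg⟩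
  · set c1 : ℚ := (2 * (s : ℚ) - d - n - 1) / 2 * bernoulli' (n - 1) * (d : ℚ) ^ (n - 1) /
      (Nat.factorial (n - 1) : ℚ) with hc1
    have hlt : (Polynomial.C c1 * Polynomial.X ^ (n - 1) + P).natDegree < n := by
      have h1 : (Polynomial.C c1 * Polynomial.X ^ (n - 1)).natDegree ≤ n - 1 :=
        Polynomial.natDegree_C_mul_X_pow_le _ _
      have h2 := Polynomial.natDegree_add_le (Polynomial.C c1 * Polynomial.X ^ (n - 1)) P
      have h3 : max (Polynomial.C c1 * Polynomial.X ^ (n - 1)).natDegree P.natDegree ≤ n - 1 :=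
        max_le h1 (by omega)
      omega
    have hc : bernoulli' n * (d : ℚ) ^ n / (Nat.factorial n : ℚ) < 0 := by
      apply div_neg_of_neg_of_pos
      · exact mul_neg_of_neg_of_pos hneg (by positivity)
      · positivity
    obtain ⟨p0, hp0⟩ := eventually_neg n (by omega) _ hc _ hlt
    refine ⟨p0, fun p hp => ?_⟩
    rw [hP p]
    have := hp0 p hp
    simp only [Polynomial.eval_add, Polynomial.eval_mul, Polynomial.eval_C, Polynomial.eval_pow,
      Polynomial.eval_X] at this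
    have e : bernoulli' n * ((d : ℚ) * p) ^ n / (Nat.factorial n : ℚ) +
        (2 * (s : ℚ) - d - n - 1) / 2 * bernoulli' (n - 1) * ((d : ℚ) * p) ^ (n - 1) /
          (Nat.factorial (n - 1) : ℚ) + Polynomial.eval (p : ℚ) P =
        bernoulli' n * (d : ℚ) ^ n / (Nat.factorial n : ℚ) * (p : ℚ) ^ n +
          (c1 * (p : ℚ) ^ (n - 1) + Polynomial.eval (p : ℚ) P) := by
      rw [hc1, mul_pow, mul_pow]
      ring
    rw [e]
    exact this
  · have hlt : P.natDegree < n - 1 := by omega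
    have hc : (2 * (s : ℚ) - d - n - 1) / 2 * bernoulli' (n - 1) * (d : ℚ) ^ (n - 1) /
        (Nat.factorial (n - 1) : ℚ) < 0 := by
      apply div_neg_of_neg_of_pos
      · exact mul_neg_of_neg_of_pos hneg (by positivity)
      · positivity
    obtain ⟨p0, hp0⟩ := eventually_neg (n - 1) (by omega) _ hc _ hlt
    refine ⟨p0, fun p hp => ?_⟩
    rw [hP p, hzero]
    have := hp0 p hp
    have e : (0 : ℚ) * ((d : ℚ) * p) ^ n / (Nat.factorial n : ℚ) +
        (2 * (s : ℚ) - d - n - 1) / 2 * bernoulli' (n - 1) * ((d : ℚ) * p) ^ (n - 1) /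
          (Nat.factorial (n - 1) : ℚ) + Polynomial.eval (p : ℚ) P =
        (2 * (s : ℚ) - d - n - 1) / 2 * bernoulli' (n - 1) * (d : ℚ) ^ (n - 1) /
          (Nat.factorial (n - 1) : ℚ) * (p : ℚ) ^ (n - 1) + Polynomial.eval (p : ℚ) P := by
      rw [mul_pow]
      ring
    rw [e]
    exact this

end Groth.Agent.Lib.Helper91
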