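import Mathlib

/-!
# Trace additivity along short exact sequences, and the trace of a module over a
local Artinian algebra (helper91)
-/

set_option autoImplicit false
set_option linter.unusedSectionVars false

namespace Groth.Agent.Lib.Helper91.TraceFilt

open Module

universe u

section T1
variable {K : Type*} [Field K] {V' V V'' : Type*} [AddCommGroup V'] [AddCommGroup V]
  [AddCommGroup V''] [Module K V'] [Module K V] [Module K V'']
  [FiniteDimensional K V'] [FiniteDimensional K V] [FiniteDimensional K V'']

/-- Additivity of the trace on a short exact sequence of finite-dimensional spaces. -/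
theorem trace_of_exact (i : V' →ₗ[K] V) (q : V →ₗ[K] V'') (hi : Function.Injective i)
    (hq : Function.Surjective q) (hex : ∀ v, q v = 0 ↔ v ∈ LinearMap.range i)
    (f' : V' →ₗ[K] V') (f : V →ₗ[K] V) (f'' : V'' →ₗ[K] V'')
    (h1 : ∀ x, i (f' x) = f (i x)) (h2 : ∀ v, q (f v) = f'' (q v)) :
    LinearMap.trace K V f = LinearMap.trace K V' f' + LinearMap.trace K V'' f'' := by
  obtain ⟨r, hr⟩ := LinearMap.exists_leftInverse_of_injective i (LinearMap.ker_eq_bot.mpr hi)
  obtain ⟨s, hs⟩ := LinearMap.exists_rightInverse_of_surjective q (LinearMap.range_eq_top.mpr hq)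
  have hr' : ∀ x, r (i x) = x := fun x => LinearMap.congr_fun hr x
  have hs' : ∀ x, q (s x) = x := fun x => LinearMap.congr_fun hs x
  have hqi : ∀ x, q (i x) = 0 := fun x => (hex _).mpr ⟨x, rfl⟩
  let g : V →ₗ[K] V := LinearMap.id - i ∘ₗ r
  have hg : ∀ v, g v = v - i (r v) := fun v => rfl
  have hgi : ∀ x, g (i x) = 0 := by intro x; rw [hg, hr', sub_self]
  have hgsq : ∀ v, g (s (q v)) = g v := by
    intro v
    have h0 : q (s (q v) - v) = 0 := by rw [map_sub, hs', sub_self]
    obtain ⟨x, hx⟩ := (hex _).mp h0
    have h3 : g (s (q v) - v) = 0 := by rw [← hx]; exact hgi x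
    rw [map_sub, sub_eq_zero] at h3
    exact h3
  have hdecomp : f = (f ∘ₗ i) ∘ₗ r + (f ∘ₗ g ∘ₗ s) ∘ₗ q := by
    ext v
    simp only [LinearMap.add_apply, LinearMap.comp_apply, hgsq, hg, map_sub]
    abel
  have e1 : LinearMap.trace K V ((f ∘ₗ i) ∘ₗ r) = LinearMap.trace K V' f' := by
    rw [LinearMap.trace_comp_comm']
    congr 1
    ext x
    simp only [LinearMap.comp_apply, ← h1, hr']
  have e2 : LinearMap.trace K V ((f ∘ₗ g ∘ₗ s) ∘ₗ q) = LinearMap.trace K V'' f'' := by
    rw [LinearMap.trace_comp_comm']
    congr 1
    ext x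
    simp only [LinearMap.comp_apply, h2, hg, map_sub, hs', hqi, map_zero, sub_zero]
  rw [hdecomp, map_add, e1, e2]

end T1

section T2

/-- The trace of a diagonal endomorphism of a finite product is the sum of the traces. -/
theorem trace_pi {K : Type*} [Field K] {ι : Type*} [Fintype ι] [DecidableEq ι] {V : ι → Type*}
    [∀ i, AddCommGroup (V i)] [∀ i, Module K (V i)] [∀ i, FiniteDimensional K (V i)]
    (f : ∀ i, V i →ₗ[K] V i) :
    LinearMap.trace K (∀ i, V i) (LinearMap.pi fun i => f i ∘ₗ LinearMap.proj i) =
      ∑ i, LinearMap.trace K (V i) (f i) := by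
  have h : LinearMap.pi (fun i => f i ∘ₗ LinearMap.proj i) =
      ∑ i, (LinearMap.single K V i ∘ₗ f i) ∘ₗ LinearMap.proj i := by
    apply LinearMap.ext
    intro x
    funext j
    simp only [LinearMap.pi_apply, LinearMap.comp_apply, LinearMap.proj_apply,
      LinearMap.sum_apply, Finset.sum_apply, LinearMap.single_apply]
    rw [Finset.sum_eq_single j]
    · simp
    · intro b _ hb
      simp [hb.symm]
    · intro hj
      exact absurd (Finset.mem_univ j) hj
  rw [h, map_sum]
  refine Finset.sum_congr rfl fun i _ => ?_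
  rw [LinearMap.trace_comp_comm', ← LinearMap.comp_assoc, LinearMap.proj_comp_single_same,
    LinearMap.id_comp]

end T2

section G3

variable {K : Type*} [Field K] {C : Type*} [CommRing C] [Algebra K C]
  {L : Type*} [CommRing L] [Algebra K L]

/-- In a module over a ring with a nilpotent ideal `𝔫`, every nonzero element has a nonzero
multiple killed by `𝔫`. -/
theorem exists_ne_zero_killed {M : Type*} [AddCommGroup M] [Module C M] (𝔫 : Ideal C) :
    ∀ (k : ℕ) (x : M), x ≠ 0 → (∀ a ∈ 𝔫 ^ k, a • x = 0) →
      ∃ y : M, y ≠ 0 ∧ ∀ a ∈ 𝔫, a • y = 0 := by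
  intro k
  induction k with
  | zero =>
    intro x hx h
    exact absurd (by simpa using h 1 (by simp)) hx
  | succ k ih =>
    intro x hx h
    by_cases hall : ∀ a ∈ 𝔫, a • x = 0
    · exact ⟨x, hx, hall⟩
    · push Not at hall
      obtain ⟨a, ha, hax⟩ := hall
      refine ih (a • x) hax ?_
      intro b hb
      rw [smul_smul]
      exact h _ (by rw [pow_succ]; exact Ideal.mul_mem_mul hb ha)

/-- The trace of multiplication by `c` on a finite-dimensional module over a local Artinian
`K`-algebra `C` with residue algebra `L` is a multiple (the length) of the trace of the residue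
class of `c`. -/
theorem trace_local_artinian (π : C →ₐ[K] L) (hπ : Function.Surjective π)
    (hmax : (RingHom.ker π).IsMaximal) (hnil : ∃ n, (RingHom.ker π) ^ n = ⊥) :
    ∀ (n : ℕ) (M : Type u) [AddCommGroup M] [Module K M] [Module C M] [IsScalarTower K C M]
      [FiniteDimensional K M], finrank K M = n →
      ∃ d : ℕ, finrank K M = d * finrank K L ∧
        ∀ c : C, LinearMap.trace K M (Algebra.lsmul K K M c) = d • Algebra.trace K L (π c) := by
  intro n
  induction n using Nat.strong_induction_on with
  | _ n ih =>
  intro M _ _ _ _ _ hn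
  by_cases hM : Subsingleton M
  · refine ⟨0, ?_, ?_⟩
    · rw [Module.finrank_zero_of_subsingleton, zero_mul]
    · intro c
      have : (Algebra.lsmul K K M c : M →ₗ[K] M) = 0 := by
        ext x; exact Subsingleton.elim _ _
      rw [this, map_zero, zero_smul]
  rw [not_subsingleton_iff_nontrivial] at hM
  obtain ⟨x, hx⟩ := exists_ne (0 : M)
  obtain ⟨k, hk⟩ := hnil
  obtain ⟨y, hy0, hy⟩ := exists_ne_zero_killed (RingHom.ker π) k x hx (by
    intro a ha; rw [hk] at ha; rw [(Submodule.mem_bot C).mp ha, zero_smul])
  -- the key congruence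
  have hcong : ∀ a b : C, π a = π b → a • y = b • y := by
    intro a b hab
    have : (a - b) • y = 0 := hy _ (by rw [RingHom.mem_ker, map_sub, hab, sub_self])
    rwa [sub_smul, sub_eq_zero] at this
  -- kernel of `c ↦ c • y` is `ker π`
  have hker : ∀ c : C, c • y = 0 → π c = 0 := by
    intro c hc
    let J : Ideal C := LinearMap.ker (LinearMap.toSpanSingleton C M y)
    have hle : RingHom.ker π ≤ J := by
      intro a ha
      show LinearMap.toSpanSingleton C M y a = 0
      rw [LinearMap.toSpanSingleton_apply]; exact hy a ha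
    have hne : J ≠ ⊤ := by
      intro h
      have : (1 : C) ∈ J := h ▸ Submodule.mem_top
      have h1 : LinearMap.toSpanSingleton C M y 1 = 0 := this
      rw [LinearMap.toSpanSingleton_apply, one_smul] at h1
      exact hy0 h1
    have hJ : RingHom.ker π = J := hmax.eq_of_le hne hle
    have : c ∈ J := by
      show LinearMap.toSpanSingleton C M y c = 0
      rw [LinearMap.toSpanSingleton_apply]; exact hc
    rw [← hJ] at this
    exact this
  let σ : L → C := Function.surjInv hπ
  have hσ : ∀ l, π (σ l) = l := Function.surjInv_eq hπ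
  let i : L →ₗ[K] M :=
    { toFun := fun l => σ l • y
      map_add' := by
        intro l l'
        rw [← add_smul]
        exact hcong _ _ (by rw [map_add, hσ, hσ, hσ])
      map_smul' := by
        intro a l
        rw [RingHom.id_apply, ← smul_assoc]
        exact hcong _ _ (by rw [map_smul, hσ, hσ]) }
  have hi_apply : ∀ c : C, i (π c) = c • y := fun c => hcong _ _ (hσ _)
  have hi : Function.Injective i := by
    rw [← LinearMap.ker_eq_bot, LinearMap.ker_eq_bot']
    intro l hl
    have := hker (σ l) hl
    rwa [hσ] at this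
  let U : Submodule C M := LinearMap.range (LinearMap.toSpanSingleton C M y)
  let q : M →ₗ[K] M ⧸ U := (U.mkQ).restrictScalars K
  have hq : Function.Surjective q := Submodule.mkQ_surjective U
  have hex : ∀ v, q v = 0 ↔ v ∈ LinearMap.range i := by
    intro v
    show U.mkQ v = 0 ↔ _
    rw [Submodule.mkQ_apply, Submodule.Quotient.mk_eq_zero]
    constructor
    · rintro ⟨c, rfl⟩
      exact ⟨π c, by rw [hi_apply, LinearMap.toSpanSingleton_apply]⟩
    · rintro ⟨l, rfl⟩
      exact ⟨σ l, by rw [LinearMap.toSpanSingleton_apply]; rfl⟩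
  have hfinL : Module.Finite K L := Module.Finite.of_injective i hi
  have hfinQ : FiniteDimensional K (M ⧸ U) := Module.Finite.of_surjective q hq
  have hntL : Nontrivial L := by
    refine ⟨⟨1, 0, fun h => hy0 ?_⟩⟩
    have := hi_apply 1
    rw [map_one, h, map_zero, one_smul] at this
    exact this.symm
  -- dimension count
  have hdim : finrank K M = finrank K L + finrank K (M ⧸ U) := by
    have h1 := LinearMap.finrank_range_add_finrank_ker q
    have h2 : finrank K (LinearMap.range q) = finrank K (M ⧸ U) := by
      rw [LinearMap.range_eq_top.mpr hq, finrank_top]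
    have h3 : finrank K (LinearMap.ker q) = finrank K L := by
      have : LinearMap.ker q = LinearMap.range i := by
        ext v; rw [LinearMap.mem_ker]; exact hex v
      rw [this]
      exact (LinearEquiv.ofInjective i hi).finrank_eq.symm
    omega
  have hposL : 0 < finrank K L := Module.finrank_pos
  obtain ⟨d, hd1, hd2⟩ := ih (finrank K (M ⧸ U)) (by omega) (M ⧸ U) rfl
  refine ⟨d + 1, ?_, ?_⟩
  · rw [hdim, hd1]; ring
  · intro c
    have := trace_of_exact i q hi hq hex (Algebra.lmul K L (π c)) (Algebra.lsmul K K M c)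
      (Algebra.lsmul K K (M ⧸ U) c) ?_ ?_
    · rw [this, hd2 c, Algebra.trace_apply, succ_nsmul, add_comm]
    · intro l
      show σ (π c * l) • y = c • (σ l • y)
      rw [smul_smul]
      exact hcong _ _ (by rw [hσ, map_mul, hσ])
    · intro v
      rfl

end G3

end Groth.Agent.Lib.Helper91.TraceFilt
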