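import Mathlib
import Groth.Agent.Lib.Helper44.WittFilRoot

/-!
# Filtered pieces of truncated Witt vectors over `S⟦X⟧[1/X]`

Ring-theoretic facts about `A = S⟦X⟧ → B = A[1/X]` (`S` a domain) used for the graded pieces of
the filtration `WittFil.fil`.
-/

set_option autoImplicit false
set_option linter.unusedSectionVars false

namespace Groth.Agent.Lib.Helper91.WittFilPS

universe u

open PowerSeries

section Ring

variable {S B : Type u} [CommRing S] [IsDomain S] [CommRing B]
  [Algebra (PowerSeries S) B] [IsLocalization.Away (PowerSeries.X : PowerSeries S) B]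
  (u : Bˣ) (hu : (u : B) = algebraMap (PowerSeries S) B PowerSeries.X)

theorem algMap_inj : Function.Injective (algebraMap (PowerSeries S) B) :=
  IsLocalization.injective B
    (powers_le_nonZeroDivisors_of_noZeroDivisors (PowerSeries.X_ne_zero (R := S)))

include hu in
theorem zpow_nat (k : ℕ) : ((u ^ (k : ℤ) : Bˣ) : B) = algebraMap (PowerSeries S) B (X ^ k) := by
  rw [zpow_natCast, Units.val_pow_eq_pow_val, hu, map_pow]

include hu in
/-- `a · u^z ∈ A` iff `ord a + z ≥ 0`. -/
theorem mem_iff (a : PowerSeries S) (ha : a ≠ 0) (z : ℤ) :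
    algebraMap (PowerSeries S) B a * ((u ^ z : Bˣ) : B) ∈ (algebraMap (PowerSeries S) B).range ↔
      0 ≤ ((order a).toNat : ℤ) + z := by
  constructor
  · rintro ⟨b, hb⟩
    by_contra hneg
    push Not at hneg
    have hz : z < 0 := by
      have : (0 : ℤ) ≤ ((order a).toNat : ℤ) := Int.natCast_nonneg _
      omega
    obtain ⟨k, hk⟩ : ∃ k : ℕ, z = -(k : ℤ) := ⟨z.toNat + (-z).toNat, by omega⟩
    have h1 : algebraMap (PowerSeries S) B a = algebraMap (PowerSeries S) B (b * X ^ k) := by
      rw [map_mul, ← zpow_nat u hu k, hb, mul_assoc, ← Units.val_mul, ← zpow_add, hk]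
      simp
    have h2 := algMap_inj (B := B) h1
    have h3 : (k : ℕ∞) ≤ order a := by
      rw [h2, order_mul, order_X_pow]
      exact le_add_self
    rw [← coe_toNat_order ha] at h3
    have h4 : k ≤ (order a).toNat := by exact_mod_cast h3
    omega
  · intro h
    obtain ⟨a0, ha0⟩ := X_pow_order_dvd (φ := a)
    obtain ⟨k, hk⟩ : ∃ k : ℕ, ((order a).toNat : ℤ) + z = (k : ℕ) := ⟨_, (Int.toNat_of_nonneg h).symm⟩
    refine ⟨a0 * X ^ k, ?_⟩
    rw [map_mul, ← zpow_nat u hu k]
    conv_rhs => rw [ha0, map_mul, ← zpow_nat u hu]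
    rw [mul_comm (((u ^ ((order a).toNat : ℤ) : Bˣ) : B)), mul_assoc, ← Units.val_mul, ← zpow_add, hk]

include hu in
theorem exists_rep (y : B) : ∃ (a : PowerSeries S) (N : ℕ),
    y = algebraMap (PowerSeries S) B a * ((u ^ (-(N : ℤ)) : Bˣ) : B) := by
  obtain ⟨N, a, h⟩ := IsLocalization.Away.surj (PowerSeries.X : PowerSeries S) y
  refine ⟨a, N, ?_⟩
  rw [← h, ← hu, ← Units.val_pow_eq_pow_val, mul_assoc, ← Units.val_mul, zpow_neg, ← zpow_natCast]
  simp

include hu in
/-- `(a u^N)^k u^z ∈ A` iff `k (ord a + N) + z ≥ 0`. -/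
theorem pow_mem_iff (a : PowerSeries S) (ha : a ≠ 0) (N : ℤ) (k : ℕ) (z : ℤ) :
    (algebraMap (PowerSeries S) B a * ((u ^ N : Bˣ) : B)) ^ k * ((u ^ z : Bˣ) : B) ∈
        (algebraMap (PowerSeries S) B).range ↔
      0 ≤ (k : ℤ) * (((order a).toNat : ℤ) + N) + z := by
  have hak : a ^ k ≠ 0 := pow_ne_zero _ ha
  have hord : ((order (a ^ k)).toNat : ℤ) = (k : ℤ) * ((order a).toNat : ℤ) := by
    have h1 : order (a ^ k) = k • order a := order_pow a k
    rw [← coe_toNat_order ha] at h1
    have h2 : order (a ^ k) = ((k * (order a).toNat : ℕ) : ℕ∞) := by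
      rw [h1]; push_cast; simp
    rw [h2]
    simp
  have e : (algebraMap (PowerSeries S) B a * ((u ^ N : Bˣ) : B)) ^ k * ((u ^ z : Bˣ) : B) =
      algebraMap (PowerSeries S) B (a ^ k) * ((u ^ ((k : ℤ) * N + z) : Bˣ) : B) := by
    rw [mul_pow, map_pow, mul_assoc, ← Units.val_pow_eq_pow_val, ← Units.val_mul, ← zpow_natCast,
      ← zpow_mul, ← zpow_add, mul_comm N]
  rw [e, mem_iff u hu _ hak, hord]
  constructor <;> intro h <;> linarith

include hu in
/-- `A` is closed under `p^k`-th roots inside `B` (any exponent `k ≥ 1` works). -/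
theorem root_closed (y : B) (k : ℕ) (hk : 0 < k)
    (h : y ^ k ∈ (algebraMap (PowerSeries S) B).range) :
    y ∈ (algebraMap (PowerSeries S) B).range := by
  obtain ⟨a, N, rfl⟩ := exists_rep u hu y
  by_cases ha : a = 0
  · subst ha; simp
  have h1 := (pow_mem_iff u hu a ha (-(N : ℤ)) k 0).1 (by simpa using h)
  have h2 : 0 ≤ ((order a).toNat : ℤ) + (-(N : ℤ)) := by
    by_contra hneg
    push Not at hneg
    have : (k : ℤ) * (((order a).toNat : ℤ) + (-(N : ℤ))) < 0 :=
      mul_neg_of_pos_of_neg (by exact_mod_cast hk) hneg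
    linarith
  exact (mem_iff u hu a ha _).2 h2

include hu in
/-- improvement of the pole bound when `p ∤ i` -/
theorem improve (p : ℕ) (hp : p.Prime) (y : B) (e t : ℕ) (ht : 1 ≤ t) (hte : t ≤ e) (i : ℤ)
    (hi : ¬ ((p : ℤ) ∣ i))
    (h : y ^ (p ^ e) * ((u ^ (-((p : ℤ) ^ (e - t) * i)) : Bˣ) : B) ∈
      (algebraMap (PowerSeries S) B).range) :
    y ^ (p ^ e) * ((u ^ (-((p : ℤ) ^ (e - t) * i) - 1) : Bˣ) : B) ∈
      (algebraMap (PowerSeries S) B).range := by
  obtain ⟨a, N, rfl⟩ := exists_rep u hu y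
  by_cases ha : a = 0
  · subst ha
    have : (0 : B) ^ (p ^ e) = 0 := zero_pow (pow_ne_zero _ hp.ne_zero)
    simp [this]
  rw [pow_mem_iff u hu a ha] at h ⊢
  set r : ℤ := ((order a).toNat : ℤ) + (-(N : ℤ)) with hr
  have hpe : ((p ^ e : ℕ) : ℤ) = (p : ℤ) ^ (e - t) * (p : ℤ) ^ t := by
    rw [← pow_add, Nat.sub_add_cancel hte]; push_cast; rfl
  rw [hpe] at h ⊢
  have hpos : (0 : ℤ) < (p : ℤ) ^ (e - t) := pow_pos (by exact_mod_cast hp.pos) _
  have h1 : 0 ≤ (p : ℤ) ^ (e - t) * ((p : ℤ) ^ t * r - i) := by linarith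
  have h2 : 0 ≤ (p : ℤ) ^ t * r - i := by
    by_contra hneg
    push Not at hneg
    have := mul_neg_of_pos_of_neg hpos hneg
    linarith
  have h3 : (p : ℤ) ^ t * r - i ≠ 0 := by
    intro h0
    apply hi
    have : i = (p : ℤ) ^ t * r := by linarith
    rw [this]
    exact Dvd.dvd.mul_right (dvd_pow_self _ (by omega)) _
  have h4 : 1 ≤ (p : ℤ) ^ t * r - i := by omega
  have h5 : (p : ℤ) ^ (e - t) * 1 ≤ (p : ℤ) ^ (e - t) * ((p : ℤ) ^ t * r - i) :=
    mul_le_mul_of_nonneg_left h4 hpos.le
  have h6 : (1 : ℤ) ≤ (p : ℤ) ^ (e - t) := hpos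
  linarith

include hu in
theorem extract (y : B) (k : ℕ) (hk : 0 < k) (q : ℤ)
    (h : y ^ k * ((u ^ (-((k : ℤ) * q)) : Bˣ) : B) ∈ (algebraMap (PowerSeries S) B).range) :
    ∃ a : PowerSeries S, y = algebraMap (PowerSeries S) B a * ((u ^ q : Bˣ) : B) := by
  have h1 : (y * ((u ^ (-q) : Bˣ) : B)) ^ k ∈ (algebraMap (PowerSeries S) B).range := by
    rw [mul_pow, ← Units.val_pow_eq_pow_val, ← zpow_natCast, ← zpow_mul]
    have : -q * (k : ℤ) = -((k : ℤ) * q) := by ring
    rw [this]
    exact h
  obtain ⟨a, ha⟩ := root_closed u hu _ k hk h1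
  refine ⟨a, ?_⟩
  rw [ha, mul_assoc, ← Units.val_mul, ← zpow_add]
  simp

end Ring

section Witt

variable (p : ℕ) [hp : Fact p.Prime] {S B : Type u} [CommRing S] [IsDomain S] [CharP S p]
  [CommRing B] [Algebra (PowerSeries S) B] [Algebra S B] [IsScalarTower S (PowerSeries S) B]
  [IsLocalization.Away (PowerSeries.X : PowerSeries S) B]
  (u : Bˣ) (hu : (u : B) = algebraMap (PowerSeries S) B PowerSeries.X)

theorem algMapS_inj : Function.Injective (algebraMap S B) := by
  rw [IsScalarTower.algebraMap_eq S (PowerSeries S) B]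
  exact (algMap_inj (B := B)).comp (PowerSeries.C_injective)

theorem exists_root_setup (B' : Type u) [CommRing B'] [IsDomain B'] [CharP B' p] :
    ∃ (K : Type u) (_ : Field K) (_ : CharP K p) (_ : IsAlgClosed K) (ι : B' →+* K),
      Function.Injective ι := by
  have : CharP (FractionRing B') p :=
    charP_of_injective_algebraMap (IsFractionRing.injective B' (FractionRing B')) p
  have : CharP (AlgebraicClosure (FractionRing B')) p :=
    charP_of_injective_algebraMap
      (algebraMap (FractionRing B') (AlgebraicClosure (FractionRing B'))).injective p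
  refine ⟨AlgebraicClosure (FractionRing B'), inferInstance, inferInstance, inferInstance,
    (algebraMap (FractionRing B') (AlgebraicClosure (FractionRing B'))).comp
      (algebraMap B' (FractionRing B')), ?_⟩
  exact (algebraMap (FractionRing B') (AlgebraicClosure (FractionRing B'))).injective.comp
    (IsFractionRing.injective B' (FractionRing B'))

include hu in
theorem fil_sub_mem (m : ℕ) (c : B) (a b : TruncatedWittVector p m B)
    (ha : a ∈ WittFil.fil p m (A := PowerSeries S) c)
    (hb : b ∈ WittFil.fil p m (A := PowerSeries S) c) :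
    a - b ∈ WittFil.fil p m (A := PowerSeries S) c := by
  have hpp : p.Prime := hp.out
  have : IsDomain B :=
    IsLocalization.isDomain_of_le_nonZeroDivisors (M := Submonoid.powers (PowerSeries.X : PowerSeries S)) B
      (powers_le_nonZeroDivisors_of_noZeroDivisors (PowerSeries.X_ne_zero (R := S)))
  have : CharP B p := charP_of_injective_algebraMap (algMapS_inj (S := S) (B := B)) p
  obtain ⟨K, _, _, _, ι, hι⟩ := exists_root_setup p B
  have hT2 : ∀ (y : B) (k : ℕ), y ^ (p ^ k) ∈ (algebraMap (PowerSeries S) B).range →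
      y ∈ (algebraMap (PowerSeries S) B).range := fun y k h =>
    root_closed u hu y (p ^ k) (pow_pos hpp.pos k) h
  obtain ⟨T, hT⟩ := IsAlgClosed.exists_pow_nat_eq (ι c) (pow_pos hpp.pos (m - 1))
  have hout : ∀ (c : TruncatedWittVector p m B) (k : ℕ), ¬ k < m → c.out.coeff k = 0 := by
    intro c k hk
    simp [TruncatedWittVector.out, hk]
  have hmem : ∀ d : TruncatedWittVector p m B, d ∈ WittFil.fil p m (A := PowerSeries S) c →
      WittVector.map ι d.out * WittVector.teichmuller p T ∈
        Groth.Agent.Lib.Helper44.coeffSubring p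
          (Groth.Agent.Lib.Helper44.rootSubring (A := PowerSeries S) p ι m) := by
    intro d hd
    rw [Groth.Agent.Lib.Helper44.mem_coeffSubring]
    intro k
    by_cases hk : k < m
    · have hd' : WittVector.truncate m d.out ∈ WittFil.fil p m (A := PowerSeries S) c := by
        rw [show WittVector.truncate m d.out = d from TruncatedWittVector.truncateFun_out d]
        exact hd
      exact (Groth.Agent.Lib.Helper44.truncate_mem_fil_iff p m hι hT2 _ T hT d.out).mp hd' k hk
    · rw [Groth.Agent.Lib.Helper44.mul_teichmuller_coeff, WittVector.map_coeff, hout d k hk,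
        map_zero, zero_mul]
      exact Subring.zero_mem _
  have hXY : WittVector.map ι (a.out - b.out) * WittVector.teichmuller p T ∈
      Groth.Agent.Lib.Helper44.coeffSubring p
        (Groth.Agent.Lib.Helper44.rootSubring (A := PowerSeries S) p ι m) := by
    rw [map_sub, sub_mul]
    exact Subring.sub_mem _ (hmem a ha) (hmem b hb)
  have hab : a - b = WittVector.truncate m (a.out - b.out) := by
    rw [map_sub, show WittVector.truncate m a.out = a from TruncatedWittVector.truncateFun_out a,
      show WittVector.truncate m b.out = b from TruncatedWittVector.truncateFun_out b]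
  rw [hab]
  exact (Groth.Agent.Lib.Helper44.truncate_mem_fil_iff p m hι hT2 _ T hT _).mpr
    (fun k _ => (Groth.Agent.Lib.Helper44.mem_coeffSubring p _ _).mp hXY k)

theorem fil_zero_mem (m : ℕ) (c : B) :
    (0 : TruncatedWittVector p m B) ∈ WittFil.fil p m (A := PowerSeries S) c := by
  intro j
  rw [TruncatedWittVector.coeff_zero, zero_pow (pow_ne_zero _ hp.out.ne_zero), zero_mul]
  exact Subring.zero_mem _

include hu in
theorem fil_add_mem (m : ℕ) (c : B) (a b : TruncatedWittVector p m B)
    (ha : a ∈ WittFil.fil p m (A := PowerSeries S) c)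
    (hb : b ∈ WittFil.fil p m (A := PowerSeries S) c) :
    a + b ∈ WittFil.fil p m (A := PowerSeries S) c := by
  have h1 := fil_sub_mem p u hu m c 0 b (fil_zero_mem p m c) hb
  have h2 := fil_sub_mem p u hu m c a (0 - b) ha h1
  have : a - (0 - b) = a + b := by ring
  rwa [this] at h2

include hu in
theorem fil_sum_mem (m : ℕ) (c : B) {ι : Type*} (s : Finset ι) (f : ι → TruncatedWittVector p m B)
    (hf : ∀ i ∈ s, f i ∈ WittFil.fil p m (A := PowerSeries S) c) :
    ∑ i ∈ s, f i ∈ WittFil.fil p m (A := PowerSeries S) c := by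
  classical
  induction s using Finset.induction_on with
  | empty => simpa using fil_zero_mem p m c
  | insert a s ha ih =>
    rw [Finset.sum_insert ha]
    exact fil_add_mem p u hu m c _ _ (hf a (Finset.mem_insert_self a s))
      (ih (fun i hi => hf i (Finset.mem_insert_of_mem hi)))

end Witt

end Groth.Agent.Lib.Helper91.WittFilPS
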