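import Mathlib

/-!
# The "exact forms" operator for linear systems of differentials on the projective line

For distinct points `r j` of the affine line with multiplicities `a j`, we put
`Π = ∏ (X - r j)`, `E = ∏ (X - r j)^(a j)`, `A = ∑ a j ∏_{l ≠ j} (X - r l)` and
`T H = Π H' - A H`, so that `T H / (Π E) = (H / E)'`.
-/

set_option autoImplicit false
set_option linter.unusedSectionVars false

namespace Groth.Agent.Lib.Helper91.Wronsk
open Polynomial

variable {k : Type*} [Field k] {m : ℕ} (r : Fin m → k) (a : Fin m → ℕ)

noncomputable def Pis (s : Finset (Fin m)) : k[X] := ∏ j ∈ s, (X - C (r j))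

noncomputable def Es (s : Finset (Fin m)) : k[X] := ∏ j ∈ s, (X - C (r j)) ^ (a j)

noncomputable def As (s : Finset (Fin m)) : k[X] := ∑ j ∈ s, C (a j : k) * Pis r (s.erase j)

theorem Pis_insert (s : Finset (Fin m)) (i : Fin m) (hi : i ∉ s) :
    Pis r (insert i s) = (X - C (r i)) * Pis r s := by
  unfold Pis; rw [Finset.prod_insert hi]

theorem Es_insert (s : Finset (Fin m)) (i : Fin m) (hi : i ∉ s) :
    Es r a (insert i s) = (X - C (r i)) ^ (a i) * Es r a s := by
  unfold Es; rw [Finset.prod_insert hi]

theorem As_insert (s : Finset (Fin m)) (i : Fin m) (hi : i ∉ s) :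
    As r a (insert i s) = C (a i : k) * Pis r s + (X - C (r i)) * As r a s := by
  unfold As
  rw [Finset.sum_insert hi, Finset.erase_insert hi, Finset.mul_sum]
  congr 1
  refine Finset.sum_congr rfl fun j hj => ?_
  have hji : j ≠ i := fun h => hi (h ▸ hj)
  rw [Finset.erase_insert_of_ne hji.symm, Pis_insert r _ i (fun h => hi (Finset.mem_of_mem_erase h))]
  ring

theorem X_sub_C_mul_derivative_pow (ρ : k) (t : ℕ) :
    (X - C ρ) * derivative ((X - C ρ) ^ t) = C (t : k) * (X - C ρ) ^ t := by
  cases t with
  | zero => simp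
  | succ t =>
    rw [derivative_pow]
    simp only [Nat.add_sub_cancel, Nat.cast_add, Nat.cast_one, map_add, map_natCast, map_one,
      derivative_sub, derivative_X, derivative_C, sub_zero, mul_one]
    ring

/-- logarithmic derivative of `E` -/
theorem logDer (s : Finset (Fin m)) :
    Pis r s * derivative (Es r a s) = As r a s * Es r a s := by
  induction s using Finset.induction_on with
  | empty => simp [Pis, Es, As]
  | insert i s hi ih =>
    rw [Pis_insert r s i hi, Es_insert r a s i hi, As_insert r a s i hi, derivative_mul]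
    have h1 := X_sub_C_mul_derivative_pow (r i) (a i)
    linear_combination (Pis r s * Es r a s) * h1 + ((X - C (r i)) ^ (a i) * (X - C (r i))) * ih

/-- the operator -/
noncomputable def T (H : k[X]) : k[X] :=
  Pis r Finset.univ * derivative H - As r a Finset.univ * H

theorem T_add (H G : k[X]) : T r a (H + G) = T r a H + T r a G := by
  unfold T; rw [derivative_add]; ring

theorem T_sub (H G : k[X]) : T r a (H - G) = T r a H - T r a G := by
  unfold T; rw [derivative_sub]; ring

theorem T_C_mul (c : k) (H : k[X]) : T r a (C c * H) = C c * T r a H := by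
  unfold T; rw [derivative_C_mul]; ring

theorem T_zero : T r a (0 : k[X]) = 0 := by
  unfold T; simp

noncomputable def Tlin : k[X] →ₗ[k] k[X] where
  toFun := T r a
  map_add' := T_add r a
  map_smul' c N := by
    simp only [smul_eq_C_mul, RingHom.id_apply]
    exact T_C_mul r a c N

theorem Tlin_apply (H : k[X]) : Tlin r a H = T r a H := rfl

theorem T_sum {ι : Type*} (s : Finset ι) (f : ι → k[X]) :
    T r a (∑ i ∈ s, f i) = ∑ i ∈ s, T r a (f i) := by
  exact map_sum (Tlin r a) f s

/-- `T (E Q) = Π E Q'` -/
theorem T_E_mul (Q : k[X]) :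
    T r a (Es r a Finset.univ * Q)
      = Pis r Finset.univ * Es r a Finset.univ * derivative Q := by
  unfold T
  rw [derivative_mul]
  linear_combination Q * logDer r a Finset.univ

theorem T_E : T r a (Es r a Finset.univ) = 0 := by
  have := T_E_mul r a 1
  simpa using this

theorem T_Ei_mul_aux (s : Finset (Fin m)) (i : Fin m) (hi : i ∉ s) (G : k[X]) :
    Pis r (insert i s) * derivative (Es r a s * G) - As r a (insert i s) * (Es r a s * G)
      = Pis r s * Es r a s * ((X - C (r i)) * derivative G - C (a i : k) * G) := by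
  rw [Pis_insert r _ i hi, As_insert r a _ i hi, derivative_mul]
  linear_combination ((X - C (r i)) * G) * logDer r a s

/-- `T (E_i G) = Π_i E_i ((X - r_i) G' - a_i G)` -/
theorem T_Ei_mul (i : Fin m) (G : k[X]) :
    T r a (Es r a (Finset.univ.erase i) * G)
      = Pis r (Finset.univ.erase i) * Es r a (Finset.univ.erase i)
        * ((X - C (r i)) * derivative G - C (a i : k) * G) := by
  have hni : i ∉ (Finset.univ.erase i : Finset (Fin m)) := Finset.notMem_erase i _
  have := T_Ei_mul_aux r a (Finset.univ.erase i) i hni G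
  rw [Finset.insert_erase (Finset.mem_univ i)] at this
  exact this

/-- the big denominators -/
theorem D_eq (s : Finset (Fin m)) :
    ∏ j ∈ s, (X - C (r j)) ^ (a j + 1) = Pis r s * Es r a s := by
  unfold Pis Es
  rw [← Finset.prod_mul_distrib]
  refine Finset.prod_congr rfl fun j _ => ?_
  rw [pow_succ, mul_comm]

theorem Pis_monic (s : Finset (Fin m)) : (Pis r s).Monic :=
  monic_prod_of_monic _ _ fun j _ => monic_X_sub_C (r j)

theorem Pis_natDegree (s : Finset (Fin m)) : (Pis r s).natDegree = s.card := by
  unfold Pis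
  rw [natDegree_prod_of_monic _ _ fun j _ => monic_X_sub_C (r j)]
  simp

theorem Es_monic (s : Finset (Fin m)) : (Es r a s).Monic :=
  monic_prod_of_monic _ _ fun j _ => (monic_X_sub_C (r j)).pow _

theorem Es_natDegree (s : Finset (Fin m)) : (Es r a s).natDegree = ∑ j ∈ s, a j := by
  unfold Es
  rw [natDegree_prod_of_monic _ _ fun j _ => (monic_X_sub_C (r j)).pow _]
  refine Finset.sum_congr rfl fun j _ => ?_
  rw [(monic_X_sub_C (r j)).natDegree_pow, natDegree_X_sub_C, mul_one]

theorem Pis_eval_ne_zero (s : Finset (Fin m)) (ρ : k) (hρ : ∀ j ∈ s, ρ ≠ r j) :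
    eval ρ (Pis r s) ≠ 0 := by
  unfold Pis
  rw [eval_prod]
  apply Finset.prod_ne_zero_iff.mpr
  intro j hj
  simp only [eval_sub, eval_X, eval_C]
  exact sub_ne_zero.mpr (hρ j hj)

theorem Es_eval_ne_zero (s : Finset (Fin m)) (ρ : k) (hρ : ∀ j ∈ s, ρ ≠ r j) :
    eval ρ (Es r a s) ≠ 0 := by
  unfold Es
  rw [eval_prod]
  apply Finset.prod_ne_zero_iff.mpr
  intro j hj
  simp only [eval_pow, eval_sub, eval_X, eval_C]
  exact pow_ne_zero _ (sub_ne_zero.mpr (hρ j hj))

/-- degree data of `X * A` -/
theorem X_mul_As_natDegree_le : (X * As r a Finset.univ).natDegree ≤ m := by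
  unfold As
  rw [Finset.mul_sum]
  apply natDegree_sum_le_of_forall_le
  intro j _
  have : X * (C (a j : k) * Pis r (Finset.univ.erase j))
      = C (a j : k) * (X * Pis r (Finset.univ.erase j)) := by ring
  rw [this]
  refine (natDegree_C_mul_le _ _).trans ?_
  refine (natDegree_mul_le).trans ?_
  rw [natDegree_X, Pis_natDegree, Finset.card_erase_of_mem (Finset.mem_univ j), Finset.card_univ,
    Fintype.card_fin]
  have := j.2
  omega

theorem X_mul_As_coeff : (X * As r a Finset.univ).coeff m = ((∑ j, a j : ℕ) : k) := by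
  unfold As
  rw [Finset.mul_sum, finsetSum_coeff]
  push_cast
  refine Finset.sum_congr rfl fun j _ => ?_
  have : X * (C (a j : k) * Pis r (Finset.univ.erase j))
      = C (a j : k) * (X * Pis r (Finset.univ.erase j)) := by ring
  rw [this, coeff_C_mul]
  have hm : m = (Finset.univ.erase j : Finset (Fin m)).card + 1 := by
    rw [Finset.card_erase_of_mem (Finset.mem_univ j), Finset.card_univ, Fintype.card_fin]
    have := j.2
    omega
  have hmonic : (X * Pis r (Finset.univ.erase j)).Monic := monic_X.mul (Pis_monic r _)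
  have hdeg : (X * Pis r (Finset.univ.erase j)).natDegree = m := by
    rw [monic_X.natDegree_mul (Pis_monic r _), natDegree_X, Pis_natDegree]
    omega
  have := hmonic.coeff_natDegree
  rw [hdeg] at this
  rw [this, mul_one]

theorem coeff_X_mul_derivative (Q : k[X]) (n : ℕ) :
    (X * derivative Q).coeff n = (n : k) * Q.coeff n := by
  cases n with
  | zero => simp
  | succ j => rw [coeff_X_mul, coeff_derivative]; push_cast; ring

theorem natDegree_X_mul_derivative_le (H : k[X]) :
    (X * derivative H).natDegree ≤ H.natDegree := by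
  by_cases h : H.natDegree = 0
  · rw [eq_C_of_natDegree_eq_zero h, derivative_C, mul_zero, natDegree_zero]
    exact Nat.zero_le _
  · refine natDegree_mul_le.trans ?_
    rw [natDegree_X]
    have := natDegree_derivative_lt h
    omega

theorem X_mul_T_coeff (H : k[X]) :
    (X * T r a H).coeff (m + H.natDegree)
      = ((H.natDegree : k) - ((∑ j, a j : ℕ) : k)) * H.leadingCoeff := by
  have e : X * T r a H = Pis r Finset.univ * (X * derivative H) - (X * As r a Finset.univ) * H := by
    unfold T; ring
  rw [e, coeff_sub]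
  have h1 : (Pis r Finset.univ : k[X]).natDegree ≤ m := by
    rw [Pis_natDegree, Finset.card_univ, Fintype.card_fin]
  have h2 : (X * derivative H).natDegree ≤ H.natDegree := natDegree_X_mul_derivative_le H
  rw [coeff_mul_add_eq_of_natDegree_le h1 h2,
    coeff_mul_add_eq_of_natDegree_le (X_mul_As_natDegree_le r a) le_rfl, X_mul_As_coeff,
    coeff_X_mul_derivative, coeff_natDegree]
  have h3 : (Pis r Finset.univ : k[X]).coeff m = 1 := by
    have := (Pis_monic r Finset.univ).coeff_natDegree
    rwa [Pis_natDegree, Finset.card_univ, Fintype.card_fin] at this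
  rw [h3]
  ring

theorem X_mul_T_natDegree_le (H : k[X]) : (X * T r a H).natDegree ≤ m + H.natDegree := by
  have e : X * T r a H = Pis r Finset.univ * (X * derivative H) - (X * As r a Finset.univ) * H := by
    unfold T; ring
  rw [e]
  have h1 : (Pis r Finset.univ : k[X]).natDegree ≤ m := by
    rw [Pis_natDegree, Finset.card_univ, Fintype.card_fin]
  have h2 : (X * derivative H).natDegree ≤ H.natDegree := natDegree_X_mul_derivative_le H
  refine (natDegree_sub_le _ _).trans (max_le ?_ ?_)
  · exact natDegree_mul_le_of_le h1 h2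
  · exact natDegree_mul_le_of_le (X_mul_As_natDegree_le r a) le_rfl

end Groth.Agent.Lib.Helper91.Wronsk
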