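import Groth.Agent.Lib.Helper91.WronskStruct

/-!
# Abstract lemmas: hyperplanes, filtrations, the squeeze, weight sums
-/

set_option autoImplicit false
set_option linter.unusedSectionVars false

namespace Groth.Agent.Lib.Helper91.Wronsk
open Polynomial

variable {k : Type*} [Field k]

/-- (F1) -/
theorem finrank_le_inf_ker_add_one {M : Type*} [AddCommGroup M] [Module k M]
    (F : Submodule k M) [Module.Finite k F] (φ : M →ₗ[k] k) :
    Module.finrank k F ≤ Module.finrank k ↥(F ⊓ LinearMap.ker φ) + 1 := by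
  have h := LinearMap.finrank_range_add_finrank_ker (φ.domRestrict F)
  have h1 : Module.finrank k (LinearMap.range (φ.domRestrict F)) ≤ 1 := by
    have := Submodule.finrank_le (LinearMap.range (φ.domRestrict F))
    rwa [Module.finrank_self] at this
  have h2 : Module.finrank k (LinearMap.ker (φ.domRestrict F))
      = Module.finrank k ↥(F ⊓ LinearMap.ker φ) := by
    rw [← Submodule.finrank_map_subtype_eq F (LinearMap.ker (φ.domRestrict F))]
    have hEq : Submodule.map F.subtype (LinearMap.ker (φ.domRestrict F))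
        = F ⊓ LinearMap.ker φ := by
      ext x
      constructor
      · rintro ⟨y, hy, rfl⟩
        exact ⟨y.2, hy⟩
      · rintro ⟨hx1, hx2⟩
        exact ⟨⟨x, hx1⟩, hx2, rfl⟩
    rw [hEq]
  omega

/-- (F1') -/
theorem finrank_eq_inf_ker_add_one {M : Type*} [AddCommGroup M] [Module k M]
    (F : Submodule k M) [Module.Finite k F] (φ : M →ₗ[k] k) (x : M) (hx : x ∈ F) (hφ : φ x ≠ 0) :
    Module.finrank k F = Module.finrank k ↥(F ⊓ LinearMap.ker φ) + 1 := by
  have h := LinearMap.finrank_range_add_finrank_ker (φ.domRestrict F)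
  have h1 : Module.finrank k (LinearMap.range (φ.domRestrict F)) = 1 := by
    have hle := Submodule.finrank_le (LinearMap.range (φ.domRestrict F))
    rw [Module.finrank_self] at hle
    have hne : Module.finrank k (LinearMap.range (φ.domRestrict F)) ≠ 0 := by
      intro h0
      rw [Submodule.finrank_eq_zero] at h0
      have : φ.domRestrict F ⟨x, hx⟩ ∈ LinearMap.range (φ.domRestrict F) :=
        LinearMap.mem_range_self _ _
      rw [h0, Submodule.mem_bot] at this
      exact hφ this
    omega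
  have h2 : Module.finrank k (LinearMap.ker (φ.domRestrict F))
      = Module.finrank k ↥(F ⊓ LinearMap.ker φ) := by
    rw [← Submodule.finrank_map_subtype_eq F (LinearMap.ker (φ.domRestrict F))]
    have hEq : Submodule.map F.subtype (LinearMap.ker (φ.domRestrict F))
        = F ⊓ LinearMap.ker φ := by
      ext x
      constructor
      · rintro ⟨y, hy, rfl⟩
        exact ⟨y.2, hy⟩
      · rintro ⟨hx1, hx2⟩
        exact ⟨⟨x, hx1⟩, hx2, rfl⟩
    rw [hEq]
  omega

/-- (F2) -/
theorem finrank_hyperplane_inf {M : Type*} [AddCommGroup M] [Module k M]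
    (V V₁ F : Submodule k M) [Module.Finite k V] (hV₁ : V₁ ≤ V) (hF : F ≤ V)
    (hfin : Module.finrank k V₁ + 1 = Module.finrank k V) (hFV₁ : ¬ F ≤ V₁) :
    Module.finrank k ↥(V₁ ⊓ F) + 1 = Module.finrank k F := by
  have : Module.Finite k V₁ := Submodule.finiteDimensional_of_le hV₁
  have : Module.Finite k F := Submodule.finiteDimensional_of_le hF
  have hle : V₁ ⊔ F ≤ V := sup_le hV₁ hF
  have : Module.Finite k ↥(V₁ ⊔ F) := Submodule.finiteDimensional_of_le hle
  have h := Submodule.finrank_sup_add_finrank_inf_eq V₁ F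
  have h1 : V₁ < V₁ ⊔ F := lt_of_le_of_ne le_sup_left (fun h => hFV₁ (h ▸ le_sup_right))
  have h2 := Submodule.finrank_lt_finrank_of_lt h1
  have h3 := Submodule.finrank_mono hle
  omega

/-- (F3) the squeeze -/
theorem squeeze (f : ℕ → ℕ) (N e : ℕ) (he : e ≤ N) (h0 : f 0 = N) (hN : f (N + 1) = 0)
    (hstep : ∀ n, f n ≤ f (n + 1) + 1) (hmono : ∀ n, f (n + 1) ≤ f n)
    (hgap : f e = f (e + 1)) (n : ℕ) :
    f n = if n ≤ e then N - n else N + 1 - n := by
  have hA : ∀ n, N ≤ f n + n := by
    intro n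
    induction n with
    | zero => omega
    | succ n ih => have := hstep n; omega
  have hB : ∀ j, j ≤ N + 1 → f (N + 1 - j) ≤ j := by
    intro j
    induction j with
    | zero => intro _; simp [hN]
    | succ j ih =>
      intro hj
      have h1 := ih (by omega)
      have h2 := hstep (N + 1 - (j + 1))
      rw [show N + 1 - (j + 1) + 1 = N + 1 - j by omega] at h2
      omega
  have hB' : ∀ n, n ≤ N + 1 → f n ≤ N + 1 - n := by
    intro n hn
    have := hB (N + 1 - n) (by omega)
    rwa [show N + 1 - (N + 1 - n) = n by omega] at this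
  have hC : ∀ j, j ≤ e → f (e - j) ≤ f e + j := by
    intro j
    induction j with
    | zero => intro _; simp
    | succ j ih =>
      intro hj
      have h1 := ih (by omega)
      have h2 := hstep (e - (j + 1))
      rw [show e - (j + 1) + 1 = e - j by omega] at h2
      omega
  have hD : ∀ j, f (e + 1) ≤ f (e + 1 + j) + j := by
    intro j
    induction j with
    | zero => simp
    | succ j ih =>
      have := hstep (e + 1 + j)
      rw [show e + 1 + (j + 1) = e + 1 + j + 1 by omega]
      omega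
  have hE : ∀ j, f (N + 1 + j) = 0 := by
    intro j
    induction j with
    | zero => simpa using hN
    | succ j ih =>
      have := hmono (N + 1 + j)
      rw [show N + 1 + (j + 1) = N + 1 + j + 1 by omega]
      omega
  have h1 := hA e
  have h2 := hB' (e + 1) (by omega)
  split_ifs with hn
  · have h3 := hC (e - n) (by omega)
    rw [show e - (e - n) = n by omega] at h3
    have h4 := hA n
    omega
  · by_cases hn' : n ≤ N + 1
    · have h3 := hD (n - (e + 1))
      rw [show e + 1 + (n - (e + 1)) = n by omega] at h3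
      have h4 := hB' n hn'
      omega
    · have h3 := hE (n - (N + 1))
      rw [show N + 1 + (n - (N + 1)) = n by omega] at h3
      omega

theorem sum_reflect_choose (M : ℕ) : ∑ n ∈ Finset.range M, (M - 1 - n) = M.choose 2 := by
  rw [Finset.sum_range_reflect (fun j => j) M, Finset.sum_range_id, Nat.choose_two_right]

theorem sum_range_eq_of_zero (g : ℕ → ℕ) (N : ℕ) (h : ∀ n, N ≤ n → g n = 0) (j : ℕ) :
    ∑ n ∈ Finset.range (N + j), g n = ∑ n ∈ Finset.range N, g n := by
  induction j with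
  | zero => rfl
  | succ j ih =>
    rw [show N + (j + 1) = N + j + 1 by omega, Finset.sum_range_succ, ih, h (N + j) (by omega),
      add_zero]

/-- (F4) weight sums -/
theorem weight_sum (f₁ : ℕ → ℕ) (N e d : ℕ) (hN : 1 ≤ N) (he : e ≤ N) (hd : N ≤ d + 1)
    (hd' : d + 1 = N → e = N)
    (h1 : ∀ n, 1 ≤ n → n + 1 ≤ N → f₁ n + 1 = if n ≤ e then N - n else N + 1 - n)
    (h2 : f₁ N ≤ 1) (h2' : e = N → f₁ N = 0)
    (h3 : ∀ n, N < n → f₁ n = 0) :
    ∃ ε : ℕ, ε ≤ 1 ∧
      (∑ n ∈ Finset.range d, f₁ (n + 1)) + 1 = (N - 1).choose 2 + (N - e) + ε := by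
  have hP : ∀ j, j + 1 ≤ N →
      ∑ n ∈ Finset.range j, f₁ (n + 1) = ∑ n ∈ Finset.range j, (N - 1 - 1 - n) + (j - e) := by
    intro j
    induction j with
    | zero => intro _; simp
    | succ j ih =>
      intro hj
      rw [Finset.sum_range_succ, Finset.sum_range_succ, ih (by omega)]
      have := h1 (j + 1) (by omega) (by omega)
      split_ifs at this <;> omega
  have hP1 := hP (N - 1) (by omega)
  have hch : ∑ n ∈ Finset.range (N - 1), (N - 1 - 1 - n) = (N - 1).choose 2 :=
    sum_reflect_choose (N - 1)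
  rw [hch] at hP1
  -- the sum up to `N`
  have hPN : ∑ n ∈ Finset.range N, f₁ (n + 1) = (N - 1).choose 2 + (N - 1 - e) + f₁ N := by
    have : N = (N - 1) + 1 := by omega
    rw [this, Finset.sum_range_succ, ← this, hP1]
  have hsum : ∑ n ∈ Finset.range d, f₁ (n + 1) = (N - 1).choose 2 + (N - 1 - e) + f₁ N := by
    by_cases hdN : d + 1 = N
    · have heN := hd' hdN
      have hz := h2' heN
      have : d = N - 1 := by omega
      rw [this, hP1, hz, add_zero]
    · obtain ⟨j, rfl⟩ := Nat.exists_eq_add_of_le (show N ≤ d by omega)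
      rw [sum_range_eq_of_zero (fun n => f₁ (n + 1)) N (fun n hn => h3 (n + 1) (by omega)) j, hPN]
  rw [hsum]
  by_cases heN : e = N
  · refine ⟨1, le_rfl, ?_⟩
    rw [h2' heN]
    omega
  · refine ⟨f₁ N, h2, ?_⟩
    omega

theorem weight_sum_inf (f₁ : ℕ → ℕ) (N b d : ℕ) (hb1 : 1 ≤ b) (hb : b ≤ N) (hd : N ≤ d + 1)
    (hd' : d + 1 = N → b = N)
    (h1 : f₁ 1 + 1 = N ∨ f₁ 1 + 2 = N)
    (h2 : ∀ n, 2 ≤ n → f₁ n = if n ≤ b then N - n else N + 1 - n) :
    ∃ ε : ℕ, ε ≤ 1 ∧
      ∑ n ∈ Finset.range d, f₁ (n + 1) = (N - 1).choose 2 + (N - b) + (N - 2) + ε := by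
  by_cases hN1 : N = 1
  · -- everything vanishes
    refine ⟨0, Nat.zero_le _, ?_⟩
    have hz : ∀ n, f₁ (n + 1) = 0 := by
      intro n
      rcases Nat.eq_zero_or_pos n with rfl | hn
      · show f₁ 1 = 0
        omega
      · have := h2 (n + 1) (by omega)
        split_ifs at this <;> omega
    rw [Finset.sum_eq_zero (fun n _ => hz n)]
    subst hN1
    simp
    omega
  have hN : 2 ≤ N := by omega
  have hP : ∀ j, j + 1 ≤ N →
      ∑ n ∈ Finset.range (j + 1), f₁ (n + 1) + (N - 1)
        = f₁ 1 + ∑ n ∈ Finset.range (j + 1), (N - 1 - n) + (j + 1 - b) := by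
    intro j
    induction j with
    | zero => intro _; simp; omega
    | succ j ih =>
      intro hj
      rw [Finset.sum_range_succ, Finset.sum_range_succ _ (j + 1)]
      have h3 := ih (by omega)
      have := h2 (j + 1 + 1) (by omega)
      split_ifs at this <;> omega
  have hPN : ∑ n ∈ Finset.range N, f₁ (n + 1) + (N - 1) = f₁ 1 + N.choose 2 + (N - b) := by
    have h := hP (N - 1) (by omega)
    rw [show N - 1 + 1 = N by omega, sum_reflect_choose N] at h
    exact h
  have hch : N.choose 2 = (N - 1).choose 2 + (N - 1) := by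
    obtain ⟨M, rfl⟩ : ∃ M, N = M + 1 := ⟨N - 1, by omega⟩
    have h := Nat.choose_succ_succ M 1
    norm_num at h
    simp only [Nat.add_sub_cancel]
    omega
  have hsum : ∑ n ∈ Finset.range d, f₁ (n + 1) + (N - 1)
      = f₁ 1 + N.choose 2 + (N - b) := by
    by_cases hdN : d + 1 = N
    · have hbN := hd' hdN
      have hz : f₁ N = 0 := by
        have := h2 N hN
        split_ifs at this <;> omega
      have : N = d + 1 := by omega
      rw [this, Finset.sum_range_succ, ← this, hz, add_zero] at hPN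
      exact hPN
    · obtain ⟨j, rfl⟩ := Nat.exists_eq_add_of_le (show N ≤ d by omega)
      rw [sum_range_eq_of_zero (fun n => f₁ (n + 1)) N (fun n hn => by
        have := h2 (n + 1) (by omega)
        split_ifs at this <;> omega) j, hPN]
  rcases h1 with h1 | h1
  · exact ⟨1, le_rfl, by omega⟩
  · exact ⟨0, Nat.zero_le _, by omega⟩

theorem squeeze0 (f : ℕ → ℕ) (N : ℕ) (h0 : f 0 = N) (hN : f N = 0)
    (hstep : ∀ n, f n ≤ f (n + 1) + 1) (n : ℕ) (hn : n ≤ N) : f n = N - n := by
  have hA : ∀ n, N ≤ f n + n := by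
    intro n
    induction n with
    | zero => omega
    | succ n ih => have := hstep n; omega
  have hB : ∀ j, j ≤ N → f (N - j) ≤ j := by
    intro j
    induction j with
    | zero => intro _; simp [hN]
    | succ j ih =>
      intro hj
      have h1 := ih (by omega)
      have h2 := hstep (N - (j + 1))
      rw [show N - (j + 1) + 1 = N - j by omega] at h2
      omega
  have h1 := hA n
  have h2 := hB (N - n) (by omega)
  rw [show N - (N - n) = n by omega] at h2
  omega

/-- the members divisible by `(X - ρ)^n` -/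
noncomputable def Idl (ρ : k) (n : ℕ) : Submodule k k[X] :=
  (Ideal.span {(X - C ρ) ^ n}).restrictScalars k

theorem mem_Idl (ρ : k) (n : ℕ) (h : k[X]) : h ∈ Idl ρ n ↔ (X - C ρ) ^ n ∣ h := by
  unfold Idl
  rw [Submodule.restrictScalars_mem, Ideal.mem_span_singleton]

theorem Idl_zero (ρ : k) : Idl ρ 0 = ⊤ := by
  ext x
  simp [mem_Idl]

theorem Idl_anti (ρ : k) {n n' : ℕ} (h : n ≤ n') : Idl ρ n' ≤ Idl ρ n := by
  intro x hx
  rw [mem_Idl] at *
  exact dvd_trans (pow_dvd_pow _ h) hx

theorem dvd_succ_of_taylor_coeff (ρ : k) (n : ℕ) (h : k[X]) (h1 : (X - C ρ) ^ n ∣ h)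
    (h2 : (taylor ρ h).coeff n = 0) : (X - C ρ) ^ (n + 1) ∣ h := by
  rw [X_sub_C_pow_dvd_iff, X_pow_dvd_iff] at h1 ⊢
  intro d hd
  rcases Nat.lt_succ_iff_lt_or_eq.mp hd with hd' | rfl
  · exact h1 d hd'
  · rwa [taylor_apply] at h2

noncomputable def tcoeff (ρ : k) (n : ℕ) : k[X] →ₗ[k] k := (lcoeff k n).comp (taylor ρ)

theorem finrank_Idl_step (W : Submodule k k[X]) [Module.Finite k W] (ρ : k) (n : ℕ) :
    Module.finrank k ↥(W ⊓ Idl ρ n) ≤ Module.finrank k ↥(W ⊓ Idl ρ (n + 1)) + 1 := by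
  have h1 := finrank_le_inf_ker_add_one (W ⊓ Idl ρ n) (tcoeff ρ n)
  have h2 : (W ⊓ Idl ρ n) ⊓ LinearMap.ker (tcoeff ρ n) ≤ W ⊓ Idl ρ (n + 1) := by
    rintro x ⟨⟨hx1, hx2⟩, hx3⟩
    refine ⟨hx1, ?_⟩
    rw [SetLike.mem_coe, mem_Idl] at hx2 ⊢
    exact dvd_succ_of_taylor_coeff ρ n x hx2 hx3
  have h3 := Submodule.finrank_mono h2
  omega

theorem finrank_Idl_mono (W : Submodule k k[X]) [Module.Finite k W] (ρ : k) (n : ℕ) :
    Module.finrank k ↥(W ⊓ Idl ρ (n + 1)) ≤ Module.finrank k ↥(W ⊓ Idl ρ n) :=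
  Submodule.finrank_mono (inf_le_inf_left _ (Idl_anti ρ (Nat.le_succ n)))

theorem degreeLT_zero_eq_bot : degreeLT k 0 = ⊥ := by
  rw [eq_bot_iff]
  intro x hx
  rw [Submodule.mem_bot]
  exact eq_zero_of_mem_degreeLT_zero hx

theorem finrank_degLT_step (W : Submodule k k[X]) [Module.Finite k W] (d n : ℕ) :
    Module.finrank k ↥(W ⊓ degreeLT k (d + 1 - n))
      ≤ Module.finrank k ↥(W ⊓ degreeLT k (d + 1 - (n + 1))) + 1 := by
  by_cases hn : n ≤ d
  · have h1 := finrank_le_inf_ker_add_one (W ⊓ degreeLT k (d + 1 - n)) (lcoeff k (d - n))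
    have h2 : (W ⊓ degreeLT k (d + 1 - n)) ⊓ LinearMap.ker (lcoeff k (d - n))
        ≤ W ⊓ degreeLT k (d + 1 - (n + 1)) := by
      rintro x ⟨⟨hx1, hx2⟩, hx3⟩
      refine ⟨hx1, ?_⟩
      rw [show d + 1 - (n + 1) = d - n by omega]
      rw [show d + 1 - n = (d - n) + 1 by omega] at hx2
      rw [SetLike.mem_coe, mem_degreeLT, degree_lt_iff_coeff_zero] at hx2 ⊢
      intro j hj
      rcases Nat.eq_or_lt_of_le hj with rfl | hj'
      · exact hx3
      · exact hx2 j hj'
    have h3 := Submodule.finrank_mono h2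
    omega
  · have h0 : d + 1 - n = 0 := by omega
    rw [h0, degreeLT_zero_eq_bot, inf_bot_eq, finrank_bot]
    exact Nat.zero_le _

theorem finrank_degLT_mono (W : Submodule k k[X]) [Module.Finite k W] (d n : ℕ) :
    Module.finrank k ↥(W ⊓ degreeLT k (d + 1 - (n + 1)))
      ≤ Module.finrank k ↥(W ⊓ degreeLT k (d + 1 - n)) :=
  Submodule.finrank_mono (inf_le_inf_left _ (degreeLT_mono (by omega)))

theorem degree_X_sub_C_pow' (ρ : k) (n : ℕ) : ((X - C ρ) ^ n).degree = (n : WithBot ℕ) := by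
  rw [degree_eq_natDegree ((monic_X_sub_C ρ).pow n).ne_zero, (monic_X_sub_C ρ).natDegree_pow,
    natDegree_X_sub_C, mul_one]

end Groth.Agent.Lib.Helper91.Wronsk
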