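import Groth.Agent.Lib.Helper91.WronskV

/-!
# Hyperplanes in `V = T (k[X]_{≤ N})`
-/

set_option autoImplicit false
set_option linter.unusedSectionVars false

namespace Groth.Agent.Lib.Helper91.Wronsk
open Polynomial

variable {k : Type*} [Field k] [CharZero k] {m : ℕ} (r : Fin m → k) (a : Fin m → ℕ)

theorem coeff_X_sub_C_pow_pred (q : k) (M : ℕ) :
    ((X - C q) ^ (M + 1)).coeff M = -((M : k) + 1) * q := by
  rw [sub_eq_add_neg, ← C_neg, coeff_X_add_C_pow, Nat.add_sub_cancel_left, pow_one,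
    Nat.choose_succ_self_right]
  push_cast
  ring

theorem VN_line (N : ℕ) (hN : ∑ j, a j ≤ N) (hN1 : 1 ≤ N) (q : k) (hq : ∀ j, q ≠ r j) (x : k[X])
    (hx : x ∈ VN r a N) (hdvd : (X - C q) ^ (N - 1) ∣ x) :
    ∃ c : k, x = C c * T r a ((X - C q) ^ N) := by
  obtain ⟨H, hH, rfl⟩ := hx
  rw [Tlin_apply] at *
  obtain ⟨c₀, hc₀⟩ := topA r a q hq H (N - 1) hdvd
  rw [show N - 1 + 1 = N by omega] at hc₀
  obtain ⟨G, hG⟩ := hc₀
  have hmem : H - C c₀ * Es r a Finset.univ ∈ degreeLT k (N + 1) :=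
    Submodule.sub_mem _ hH (C_mul_E_mem r a N hN c₀)
  have hGc : ∃ c, G = C c := by
    by_cases hG0 : G = 0
    · exact ⟨0, by simp [hG0]⟩
    · have hne : (X - C q) ^ N * G ≠ 0 := mul_ne_zero (pow_ne_zero _ (X_sub_C_ne_zero q)) hG0
      rw [hG] at hmem
      have h1 := natDegree_lt_of_mem_degreeLT hne hmem
      rw [natDegree_mul (pow_ne_zero _ (X_sub_C_ne_zero q)) hG0,
        (monic_X_sub_C q).natDegree_pow, natDegree_X_sub_C, mul_one] at h1
      exact ⟨G.coeff 0, eq_C_of_natDegree_eq_zero (by omega)⟩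
  obtain ⟨c, rfl⟩ := hGc
  refine ⟨c, ?_⟩
  rw [← T_sub_C_mul_E r a H c₀, hG, mul_comm, T_C_mul]

theorem mem_of_line (W : Submodule k k[X]) (x y : k[X]) (c : k) (hx : x ∈ W) (hx0 : x ≠ 0)
    (hc : x = C c * y) : y ∈ W := by
  have hc0 : c ≠ 0 := by
    rintro rfl
    simp at hc
    exact hx0 hc
  have : y = c⁻¹ • x := by
    rw [hc, smul_eq_C_mul, ← mul_assoc, ← C_mul, inv_mul_cancel₀ hc0, C_1, one_mul]
  rw [this]
  exact W.smul_mem _ hx

/-- a nonzero member of `W ≤ V` divisible by `(X - q)^(N-1)` forces `T ((X - q)^N) ∈ W` -/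
theorem T_pow_mem_of_ne_bot (N : ℕ) (hN : ∑ j, a j ≤ N) (hN1 : 1 ≤ N) (q : k)
    (hq : ∀ j, q ≠ r j) (W : Submodule k k[X]) (hW : W ≤ VN r a N)
    (hne : W ⊓ Idl q (N - 1) ≠ ⊥) : T r a ((X - C q) ^ N) ∈ W := by
  obtain ⟨x, hx, hx0⟩ := Submodule.exists_mem_ne_zero_of_ne_bot hne
  obtain ⟨c, hc⟩ := VN_line r a N hN hN1 q hq x (hW hx.1) ((mem_Idl q _ x).mp hx.2)
  exact mem_of_line W x _ c hx.1 hx0 hc

/-- no proper subspace of `V` contains `T (k[X]_{≤ N-2})` and the images of two polynomials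
spanning the two top degrees -/
theorem not_top_two (N : ℕ) (hN : ∑ j, a j ≤ N) (hN1 : 1 ≤ N) (W : Submodule k k[X])
    (hWV : W ≤ VN r a N) (hfin : Module.finrank k W + 1 = N)
    (hW : (degreeLT k (N - 1)).map (Tlin r a) ≤ W)
    (G₁ G₂ : k[X]) (hG₁ : G₁ ∈ degreeLT k (N + 1)) (hG₁c : G₁.coeff N ≠ 0)
    (hG₂ : G₂ ∈ degreeLT k N) (hG₂c : G₂.coeff (N - 1) ≠ 0)
    (h1 : T r a G₁ ∈ W) (h2 : T r a G₂ ∈ W) : False := by
  have hle := top_two r a N hN1 W hW G₁ G₂ hG₁ hG₁c hG₂ hG₂c h1 h2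
  have : Module.Finite k W := Submodule.finiteDimensional_of_le hWV
  have h3 := Submodule.finrank_mono hle
  rw [finrank_VN r a N hN] at h3
  omega

theorem two_points (N : ℕ) (hN1 : 1 ≤ N) (q q' : k) (hqq : q ≠ q') :
    ((X - C q') ^ N - (X - C q) ^ N) ∈ degreeLT k N ∧
      ((X - C q') ^ N - (X - C q) ^ N).coeff (N - 1) ≠ 0 := by
  obtain ⟨M, rfl⟩ : ∃ M, N = M + 1 := ⟨N - 1, by omega⟩
  constructor
  · have h1 := X_sub_C_pow_mem_degreeLT q (M + 1)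
    have h2 := X_sub_C_pow_mem_degreeLT q' (M + 1)
    rw [mem_degreeLT, degree_lt_iff_coeff_zero] at h1 h2 ⊢
    intro j hj
    rw [coeff_sub]
    rcases Nat.eq_or_lt_of_le hj with rfl | hj'
    · rw [X_sub_C_pow_coeff, X_sub_C_pow_coeff, sub_self]
    · rw [h1 j hj', h2 j hj', sub_self]
  · rw [Nat.add_sub_cancel, coeff_sub, coeff_X_sub_C_pow_pred, coeff_X_sub_C_pow_pred]
    have h1 : ((M : k) + 1) ≠ 0 := Nat.cast_add_one_ne_zero M
    intro h
    apply hqq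
    have h2 : ((M : k) + 1) * (q - q') = 0 := by linear_combination h
    rcases mul_eq_zero.mp h2 with h3 | h3
    · exact absurd h3 h1
    · exact sub_eq_zero.mp h3

end Groth.Agent.Lib.Helper91.Wronsk
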