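import Groth.Agent.Lib.Helper91.Wronsk

/-!
# Local analysis of the exact-forms operator `T`
-/

set_option autoImplicit false
set_option linter.unusedSectionVars false

namespace Groth.Agent.Lib.Helper91.Wronsk
open Polynomial

variable {k : Type*} [Field k] {m : ℕ} (r : Fin m → k) (a : Fin m → ℕ)

theorem derivative_X_sub_C_pow_succ (ρ : k) (t : ℕ) :
    derivative ((X - C ρ) ^ (t + 1)) = C ((t : k) + 1) * (X - C ρ) ^ t := by
  rw [derivative_pow]
  simp only [Nat.add_sub_cancel, Nat.cast_add, Nat.cast_one, map_add, map_natCast, map_one,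
      derivative_sub, derivative_X, derivative_C, sub_zero, mul_one]

/-- (I1) -/
theorem T_pow_mul (ρ : k) (t : ℕ) (N₁ : k[X]) :
    T r a ((X - C ρ) ^ (t + 1) * N₁)
      = (X - C ρ) ^ t * (C ((t : k) + 1) * Pis r Finset.univ * N₁ + (X - C ρ) * T r a N₁) := by
  unfold T
  rw [derivative_mul, derivative_X_sub_C_pow_succ]
  ring

theorem Pis_univ_eq (i : Fin m) :
    Pis r Finset.univ = (X - C (r i)) * Pis r (Finset.univ.erase i) := by
  have := Pis_insert r (Finset.univ.erase i) i (Finset.notMem_erase i _)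
  rwa [Finset.insert_erase (Finset.mem_univ i)] at this

theorem As_univ_eq (i : Fin m) :
    As r a Finset.univ = C (a i : k) * Pis r (Finset.univ.erase i)
      + (X - C (r i)) * As r a (Finset.univ.erase i) := by
  have := As_insert r a (Finset.univ.erase i) i (Finset.notMem_erase i _)
  rwa [Finset.insert_erase (Finset.mem_univ i)] at this

theorem Es_univ_eq (i : Fin m) :
    Es r a Finset.univ = (X - C (r i)) ^ (a i) * Es r a (Finset.univ.erase i) := by
  have := Es_insert r a (Finset.univ.erase i) i (Finset.notMem_erase i _)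
  rwa [Finset.insert_erase (Finset.mem_univ i)] at this

/-- (I2) -/
theorem T_pow_mul_marked (i : Fin m) (s : ℕ) (N₁ : k[X]) :
    T r a ((X - C (r i)) ^ s * N₁)
      = (X - C (r i)) ^ s * (C ((s : k) - (a i : k)) * Pis r (Finset.univ.erase i) * N₁
          + (X - C (r i)) * (Pis r (Finset.univ.erase i) * derivative N₁
              - As r a (Finset.univ.erase i) * N₁)) := by
  unfold T
  rw [Pis_univ_eq r i, As_univ_eq r a i, derivative_mul]
  have h1 := X_sub_C_mul_derivative_pow (r i) s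
  simp only [C_sub]
  linear_combination (Pis r (Finset.univ.erase i) * N₁) * h1

/-- (I3) -/
theorem eval_T_pow (p q : k) (t : ℕ) :
    eval p (T r a ((X - C q) ^ (t + 1)))
      = (p - q) ^ t * (((t : k) + 1) * eval p (Pis r Finset.univ)
          - eval p (As r a Finset.univ) * (p - q)) := by
  unfold T
  rw [derivative_X_sub_C_pow_succ]
  simp only [eval_sub, eval_mul, eval_pow, eval_X, eval_C]
  ring

theorem unmarked_step [CharZero k] (ρ : k) (hρ : ∀ j, ρ ≠ r j) (t : ℕ) (N₁ : k[X])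
    (h : (X - C ρ) ^ (t + 1) ∣ T r a ((X - C ρ) ^ (t + 1) * N₁)) : (X - C ρ) ∣ N₁ := by
  rw [T_pow_mul, pow_succ] at h
  have h2 := (mul_dvd_mul_iff_left (pow_ne_zero t (X_sub_C_ne_zero ρ))).mp h
  have h3 : (X - C ρ) ∣ C ((t : k) + 1) * Pis r Finset.univ * N₁ :=
    (dvd_add_left (dvd_mul_right _ _)).mp h2
  rw [dvd_iff_isRoot, IsRoot.def, eval_mul, eval_mul, eval_C] at h3
  rw [dvd_iff_isRoot]
  have h1 : ((t : k) + 1) ≠ 0 := Nat.cast_add_one_ne_zero t
  have hP := Pis_eval_ne_zero r Finset.univ ρ (fun j _ => hρ j)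
  rcases mul_eq_zero.mp h3 with h4 | h4
  · rcases mul_eq_zero.mp h4 with h5 | h5
    · exact absurd h5 h1
    · exact absurd h5 hP
  · exact h4

theorem iterA [CharZero k] (ρ : k) (hρ : ∀ j, ρ ≠ r j) (H : k[X]) (hH : (X - C ρ) ∣ H) :
    ∀ n, (X - C ρ) ^ n ∣ T r a H → (X - C ρ) ^ (n + 1) ∣ H := by
  intro n
  induction n with
  | zero => intro _; simpa using hH
  | succ n ih =>
    intro h
    have h' : (X - C ρ) ^ n ∣ T r a H := dvd_trans (pow_dvd_pow _ (Nat.le_succ n)) h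
    obtain ⟨N₁, rfl⟩ := ih h'
    obtain ⟨N₂, rfl⟩ := unmarked_step r a ρ hρ n N₁ h
    exact ⟨N₂, by ring⟩

theorem marked_step [CharZero k] (hr : Function.Injective r) (i : Fin m) (s : ℕ) (hs : s ≠ a i)
    (N₁ : k[X]) (h : (X - C (r i)) ^ (s + 1) ∣ T r a ((X - C (r i)) ^ s * N₁)) :
    (X - C (r i)) ∣ N₁ := by
  rw [T_pow_mul_marked, pow_succ] at h
  have h2 := (mul_dvd_mul_iff_left (pow_ne_zero s (X_sub_C_ne_zero (r i)))).mp h
  have h3 : (X - C (r i)) ∣ C ((s : k) - (a i : k)) * Pis r (Finset.univ.erase i) * N₁ :=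
    (dvd_add_left (dvd_mul_right _ _)).mp h2
  rw [dvd_iff_isRoot, IsRoot.def, eval_mul, eval_mul, eval_C] at h3
  rw [dvd_iff_isRoot]
  have h1 : ((s : k) - (a i : k)) ≠ 0 := sub_ne_zero.mpr (Nat.cast_injective.ne hs)
  have hP := Pis_eval_ne_zero r (Finset.univ.erase i) (r i)
    (fun j hj => fun h => (Finset.ne_of_mem_erase hj) (hr h).symm)
  rcases mul_eq_zero.mp h3 with h4 | h4
  · rcases mul_eq_zero.mp h4 with h5 | h5
    · exact absurd h5 h1
    · exact absurd h5 hP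
  · exact h4

theorem iterB1 [CharZero k] (hr : Function.Injective r) (i : Fin m) (H : k[X]) :
    ∀ n, n ≤ a i → (X - C (r i)) ^ n ∣ T r a H → (X - C (r i)) ^ n ∣ H := by
  intro n
  induction n with
  | zero => intro _ _; simp
  | succ n ih =>
    intro hn h
    have h' : (X - C (r i)) ^ n ∣ T r a H := dvd_trans (pow_dvd_pow _ (Nat.le_succ n)) h
    obtain ⟨N₁, rfl⟩ := ih (by omega) h'
    obtain ⟨N₂, rfl⟩ := marked_step r a hr i n (by omega) N₁ h
    exact ⟨N₂, by ring⟩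

/-- the gap at a marked point -/
theorem gapB [CharZero k] (hr : Function.Injective r) (i : Fin m) (H : k[X])
    (h : (X - C (r i)) ^ (a i) ∣ T r a H) : (X - C (r i)) ^ (a i + 1) ∣ T r a H := by
  obtain ⟨N₁, rfl⟩ := iterB1 r a hr i H (a i) le_rfl h
  rw [T_pow_mul_marked, sub_self, C_0, zero_mul, zero_mul, zero_add, pow_succ]
  exact mul_dvd_mul_left _ (dvd_mul_right _ _)

theorem iterB3 [CharZero k] (hr : Function.Injective r) (i : Fin m) (H : k[X])
    (hH : (X - C (r i)) ^ (a i + 1) ∣ H) :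
    ∀ n, (X - C (r i)) ^ (a i + 1 + n) ∣ T r a H → (X - C (r i)) ^ (a i + 1 + n) ∣ H := by
  intro n
  induction n with
  | zero => intro _; simpa using hH
  | succ n ih =>
    intro h
    have h' : (X - C (r i)) ^ (a i + 1 + n) ∣ T r a H :=
      dvd_trans (pow_dvd_pow _ (by omega)) h
    obtain ⟨N₁, rfl⟩ := ih h'
    obtain ⟨N₂, rfl⟩ := marked_step r a hr i (a i + 1 + n) (by omega) N₁ h
    exact ⟨N₂, by ring⟩

/-- normalisation at a marked point -/
theorem normB (hr : Function.Injective r) (i : Fin m) (H : k[X])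
    (h : (X - C (r i)) ^ (a i) ∣ H) :
    ∃ c : k, (X - C (r i)) ^ (a i + 1) ∣ H - C c * Es r a Finset.univ := by
  obtain ⟨N₁, rfl⟩ := h
  have hE := Es_eval_ne_zero r a (Finset.univ.erase i) (r i)
    (fun j hj => fun h => (Finset.ne_of_mem_erase hj) (hr h).symm)
  refine ⟨eval (r i) N₁ / eval (r i) (Es r a (Finset.univ.erase i)), ?_⟩
  set c := eval (r i) N₁ / eval (r i) (Es r a (Finset.univ.erase i)) with hc
  have h1 : (X - C (r i)) ∣ N₁ - C c * Es r a (Finset.univ.erase i) := by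
    rw [dvd_iff_isRoot, IsRoot.def, eval_sub, eval_mul, eval_C, hc]
    field_simp
    ring
  obtain ⟨N₂, hN₂⟩ := h1
  refine ⟨N₂, ?_⟩
  rw [Es_univ_eq r a i]
  linear_combination ((X - C (r i)) ^ (a i)) * hN₂

/-- normalisation at an unmarked point -/
theorem normA (ρ : k) (hρ : ∀ j, ρ ≠ r j) (H : k[X]) :
    ∃ c : k, (X - C ρ) ∣ H - C c * Es r a Finset.univ := by
  have hE := Es_eval_ne_zero r a Finset.univ ρ (fun j _ => hρ j)
  refine ⟨eval ρ H / eval ρ (Es r a Finset.univ), ?_⟩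
  rw [dvd_iff_isRoot, IsRoot.def, eval_sub, eval_mul, eval_C]
  field_simp
  ring

theorem T_sub_C_mul_E (H : k[X]) (c : k) :
    T r a (H - C c * Es r a Finset.univ) = T r a H := by
  rw [T_sub, T_C_mul, T_E, mul_zero, sub_zero]

/-- (A-top) -/
theorem topA [CharZero k] (ρ : k) (hρ : ∀ j, ρ ≠ r j) (H : k[X]) (n : ℕ)
    (h : (X - C ρ) ^ n ∣ T r a H) :
    ∃ c : k, (X - C ρ) ^ (n + 1) ∣ H - C c * Es r a Finset.univ := by
  obtain ⟨c, hc⟩ := normA r a ρ hρ H
  refine ⟨c, iterA r a ρ hρ _ hc n ?_⟩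
  rwa [T_sub_C_mul_E]

/-- (B-top) -/
theorem topB [CharZero k] (hr : Function.Injective r) (i : Fin m) (H : k[X]) (n : ℕ)
    (hn : a i + 1 ≤ n) (h : (X - C (r i)) ^ n ∣ T r a H) :
    ∃ c : k, (X - C (r i)) ^ n ∣ H - C c * Es r a Finset.univ := by
  have h0 : (X - C (r i)) ^ (a i) ∣ T r a H := dvd_trans (pow_dvd_pow _ (by omega)) h
  obtain ⟨c, hc⟩ := normB r a hr i H (iterB1 r a hr i H (a i) le_rfl h0)
  refine ⟨c, ?_⟩
  obtain ⟨n', rfl⟩ := Nat.exists_eq_add_of_le hn
  refine iterB3 r a hr i _ hc n' ?_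
  rwa [T_sub_C_mul_E]

end Groth.Agent.Lib.Helper91.Wronsk
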