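import Groth.Agent.Lib.Helper91.WronskHyp

/-!
# The hyperplane `V(-p)` of members vanishing at an unmarked point `p`
-/

set_option autoImplicit false
set_option linter.unusedSectionVars false

namespace Groth.Agent.Lib.Helper91.Wronsk
open Polynomial

variable {k : Type*} [Field k] [CharZero k] {m : ℕ} (r : Fin m → k) (a : Fin m → ℕ)

/-- members vanishing at `p` -/
noncomputable def Vp (p : k) : Submodule k k[X] := (Ideal.span {X - C p}).restrictScalars k

theorem mem_Vp (p : k) (x : k[X]) : x ∈ Vp p ↔ eval p x = 0 := by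
  unfold Vp
  rw [Submodule.restrictScalars_mem, Ideal.mem_span_singleton, dvd_iff_isRoot, IsRoot.def]

theorem Vp_eq_ker (p : k) : Vp p = LinearMap.ker (leval p) := by
  ext x
  rw [mem_Vp, LinearMap.mem_ker, leval_apply]

theorem eval_T_pow_eq_zero (p q : k) (hpq : p ≠ q) (t : ℕ)
    (h : eval p (T r a ((X - C q) ^ (t + 1))) = 0) :
    ((t : k) + 1) * eval p (Pis r Finset.univ) = eval p (As r a Finset.univ) * (p - q) := by
  rw [eval_T_pow] at h
  rcases mul_eq_zero.mp h with h1 | h1
  · exact absurd h1 (pow_ne_zero t (sub_ne_zero.mpr hpq))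
  · exact sub_eq_zero.mp h1

/-- `V(-p)` is a hyperplane -/
theorem finrank_VN_inf_Vp (N : ℕ) (hN : ∑ j, a j ≤ N) (hN1 : 1 ≤ N) (p : k)
    (hp : ∀ j, p ≠ r j) : Module.finrank k ↥(VN r a N ⊓ Vp p) + 1 = N := by
  have hx : T r a ((X - C p) ^ (0 + 1)) ∈ VN r a N := T_pow_mem_VN r a N p (0 + 1) (by omega)
  have hφ : leval p (T r a ((X - C p) ^ (0 + 1))) ≠ 0 := by
    rw [leval_apply, eval_T_pow]
    simp only [pow_zero, one_mul, sub_self, mul_zero, sub_zero, Nat.cast_zero, zero_add]
    exact Pis_eval_ne_zero r Finset.univ p (fun j _ => hp j)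
  have h := finrank_eq_inf_ker_add_one (VN r a N) (leval p) _ hx hφ
  rw [finrank_VN r a N hN] at h
  rw [Vp_eq_ker]
  omega

/-- two consecutive top powers cannot both vanish at `p` -/
theorem not_both_vanish (p q : k) (hp : ∀ j, p ≠ r j) (hpq : p ≠ q) (t : ℕ)
    (h1 : eval p (T r a ((X - C q) ^ (t + 1))) = 0)
    (h2 : eval p (T r a ((X - C q) ^ (t + 1 + 1))) = 0) : False := by
  have e1 := eval_T_pow_eq_zero r a p q hpq t h1
  have e2 := eval_T_pow_eq_zero r a p q hpq (t + 1) h2
  have hP := Pis_eval_ne_zero r Finset.univ p (fun j _ => hp j)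
  apply hP
  push_cast at e2
  linear_combination e2 - e1

/-- the top powers at two distinct points cannot both vanish at `p` -/
theorem not_both_vanish' (p q q' : k) (hp : ∀ j, p ≠ r j) (hpq : p ≠ q) (hpq' : p ≠ q')
    (hqq : q ≠ q') (t : ℕ)
    (h1 : eval p (T r a ((X - C q) ^ (t + 1))) = 0)
    (h2 : eval p (T r a ((X - C q') ^ (t + 1))) = 0) : False := by
  have e1 := eval_T_pow_eq_zero r a p q hpq t h1
  have e2 := eval_T_pow_eq_zero r a p q' hpq' t h2
  have hP := Pis_eval_ne_zero r Finset.univ p (fun j _ => hp j)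
  have hA : eval p (As r a Finset.univ) * (q' - q) = 0 := by linear_combination e2 - e1
  have h1' : ((t : k) + 1) ≠ 0 := Nat.cast_add_one_ne_zero t
  rcases mul_eq_zero.mp hA with h3 | h3
  · rw [h3, zero_mul] at e1
    rcases mul_eq_zero.mp e1 with h4 | h4
    · exact h1' h4
    · exact hP h4
  · exact hqq (sub_eq_zero.mp h3).symm

end Groth.Agent.Lib.Helper91.Wronsk
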