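import Groth.Agent.Lib.Helper91.WronskLocal

/-!
# Structure of the space of exact forms: `V = T (k[X]_{≤ N})`
-/

set_option autoImplicit false
set_option linter.unusedSectionVars false

namespace Groth.Agent.Lib.Helper91.Wronsk
open Polynomial

variable {k : Type*} [Field k] {m : ℕ} (r : Fin m → k) (a : Fin m → ℕ)

theorem mem_degreeLT_of_natDegree_lt {p : k[X]} {n : ℕ} (h : p.natDegree < n) :
    p ∈ degreeLT k n :=
  mem_degreeLT.mpr (lt_of_le_of_lt degree_le_natDegree (by exact_mod_cast h))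

theorem natDegree_lt_of_mem_degreeLT {p : k[X]} {n : ℕ} (hp : p ≠ 0) (h : p ∈ degreeLT k n) :
    p.natDegree < n :=
  (natDegree_lt_iff_degree_lt hp).mpr (mem_degreeLT.mp h)

theorem eq_zero_of_mem_degreeLT_zero {p : k[X]} (h : p ∈ degreeLT k 0) : p = 0 := by
  by_contra hp
  have := natDegree_lt_of_mem_degreeLT hp h
  omega

/-- (S2) -/
theorem X_mul_T_natDegree [CharZero k] (H : k[X]) (hH : H ≠ 0) (hd : H.natDegree ≠ ∑ j, a j) :
    (X * T r a H).natDegree = m + H.natDegree := by
  apply natDegree_eq_of_le_of_coeff_ne_zero (X_mul_T_natDegree_le r a H)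
  rw [X_mul_T_coeff]
  apply mul_ne_zero
  · exact sub_ne_zero.mpr (Nat.cast_injective.ne hd)
  · exact leadingCoeff_ne_zero.mpr hH

theorem T_ne_zero [CharZero k] (H : k[X]) (hH : H ≠ 0) (hd : H.natDegree ≠ ∑ j, a j) :
    T r a H ≠ 0 := by
  intro h
  have h1 := X_mul_T_coeff r a H
  rw [h, mul_zero, coeff_zero] at h1
  have : ((H.natDegree : k) - ((∑ j, a j : ℕ) : k)) * H.leadingCoeff ≠ 0 := by
    apply mul_ne_zero
    · exact sub_ne_zero.mpr (Nat.cast_injective.ne hd)
    · exact leadingCoeff_ne_zero.mpr hH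
  exact this h1.symm

theorem T_natDegree [CharZero k] (H : k[X]) (hH : H ≠ 0) (hd : H.natDegree ≠ ∑ j, a j) :
    (T r a H).natDegree + 1 = m + H.natDegree := by
  have h1 := X_mul_T_natDegree r a H hH hd
  rwa [natDegree_X_mul (T_ne_zero r a H hH hd)] at h1

/-- normalisation at infinity -/
theorem normInf (H : k[X]) :
    ∃ H' : k[X], T r a H' = T r a H ∧ (H' = 0 ∨ H'.natDegree ≠ ∑ j, a j)
      ∧ H'.natDegree ≤ H.natDegree := by
  by_cases hH : H = 0
  · exact ⟨0, by rw [hH], Or.inl rfl, by simp⟩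
  by_cases hd : H.natDegree = ∑ j, a j
  · set G := H - C H.leadingCoeff * Es r a Finset.univ with hG
    refine ⟨G, by rw [hG, T_sub_C_mul_E], ?_⟩
    have hdeg : G.degree < H.degree := by
      apply degree_sub_lt_left _ hH _
      · rw [degree_C_mul (leadingCoeff_ne_zero.mpr hH), degree_eq_natDegree hH,
          degree_eq_natDegree (Es_monic r a _).ne_zero, hd, Es_natDegree]
      · rw [leadingCoeff_mul, leadingCoeff_C, (Es_monic r a _).leadingCoeff, mul_one]
    by_cases hG0 : G = 0
    · exact ⟨Or.inl hG0, by rw [hG0]; simp⟩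
    · have : G.natDegree < H.natDegree := natDegree_lt_natDegree hG0 hdeg
      exact ⟨Or.inr (by omega), by omega⟩
  · exact ⟨H, rfl, Or.inr hd, le_rfl⟩

/-- (S1) the kernel -/
theorem T_eq_zero [CharZero k] (H : k[X]) (h : T r a H = 0) :
    ∃ c : k, H = C c * Es r a Finset.univ := by
  by_cases hH : H = 0
  · exact ⟨0, by simp [hH]⟩
  have hd : H.natDegree = ∑ j, a j := by
    by_contra hd
    exact T_ne_zero r a H hH hd h
  refine ⟨H.leadingCoeff, ?_⟩
  by_contra hne
  set G := H - C H.leadingCoeff * Es r a Finset.univ with hG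
  have hG0 : G ≠ 0 := sub_ne_zero.mpr hne
  have hTG : T r a G = 0 := by rw [hG, T_sub_C_mul_E, h]
  have hdeg : G.degree < H.degree := by
    apply degree_sub_lt_left _ hH _
    · rw [degree_C_mul (leadingCoeff_ne_zero.mpr hH), degree_eq_natDegree hH,
        degree_eq_natDegree (Es_monic r a _).ne_zero, hd, Es_natDegree]
    · rw [leadingCoeff_mul, leadingCoeff_C, (Es_monic r a _).leadingCoeff, mul_one]
  have : G.natDegree < H.natDegree := natDegree_lt_natDegree hG0 hdeg
  exact T_ne_zero r a G hG0 (by omega) hTG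

theorem reduce_top (n : ℕ) (G H : k[X]) (hG : G ∈ degreeLT k (n + 1)) (hGn : G.coeff n ≠ 0)
    (hH : H ∈ degreeLT k (n + 1)) : ∃ c : k, H - C c * G ∈ degreeLT k n := by
  refine ⟨H.coeff n / G.coeff n, ?_⟩
  rw [mem_degreeLT, degree_lt_iff_coeff_zero] at hG hH ⊢
  intro j hj
  rw [coeff_sub, coeff_C_mul]
  rcases Nat.eq_or_lt_of_le hj with rfl | hj'
  · field_simp
    ring
  · rw [hG j hj', hH j hj']; simp

theorem X_sub_C_pow_mem_degreeLT (ρ : k) (n : ℕ) : (X - C ρ) ^ n ∈ degreeLT k (n + 1) := by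
  apply mem_degreeLT_of_natDegree_lt
  rw [(monic_X_sub_C ρ).natDegree_pow, natDegree_X_sub_C]
  omega

theorem X_sub_C_pow_coeff (ρ : k) (n : ℕ) : ((X - C ρ) ^ n).coeff n = 1 := by
  have h := ((monic_X_sub_C ρ).pow n).coeff_natDegree
  rwa [(monic_X_sub_C ρ).natDegree_pow, natDegree_X_sub_C, mul_one] at h

theorem degreeLT_le_span (ρ : k) (n : ℕ) :
    degreeLT k n ≤ Submodule.span k ((fun t : ℕ => (X - C ρ) ^ t) '' (Set.Iio n)) := by
  induction n with
  | zero =>
    intro G hG
    rw [eq_zero_of_mem_degreeLT_zero hG]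
    exact Submodule.zero_mem _
  | succ n ih =>
    intro G hG
    obtain ⟨c, hc⟩ := reduce_top n ((X - C ρ) ^ n) G (X_sub_C_pow_mem_degreeLT ρ n)
      (by rw [X_sub_C_pow_coeff]; exact one_ne_zero) hG
    have h1 : G = (G - C c * (X - C ρ) ^ n) + c • (X - C ρ) ^ n := by
      rw [smul_eq_C_mul]; ring
    rw [h1]
    apply Submodule.add_mem
    · exact Submodule.span_mono (Set.image_mono (Set.Iio_subset_Iio (Nat.le_succ n))) (ih hc)
    · exact Submodule.smul_mem _ _
        (Submodule.subset_span ⟨n, Set.mem_Iio.mpr (Nat.lt_succ_self n), rfl⟩)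

theorem map_degreeLT_le (ρ : k) (n : ℕ) (f : k[X] →ₗ[k] k[X]) (W : Submodule k k[X])
    (h : ∀ t < n, f ((X - C ρ) ^ t) ∈ W) : (degreeLT k n).map f ≤ W := by
  refine (Submodule.map_mono (degreeLT_le_span ρ n)).trans ?_
  rw [Submodule.map_span_le]
  rintro _ ⟨t, ht, rfl⟩
  exact h t ht

/-- the space `V` with pole order `c + 1` at infinity -/
noncomputable def Vdef (c : ℕ) : Submodule k k[X] :=
  (degreeLT k c).map (LinearMap.mulLeft k (∏ j, (X - C (r j)) ^ (a j + 1))) ⊔
      ⨆ i, (degreeLT k (a i)).map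
        (LinearMap.mulLeft k (∏ j ∈ Finset.univ.erase i, (X - C (r j)) ^ (a j + 1)))

theorem sum_erase_add (i : Fin m) : (∑ j ∈ Finset.univ.erase i, a j) + a i = ∑ j, a j :=
  Finset.sum_erase_add _ _ (Finset.mem_univ i)

theorem Vdef_le [CharZero k] (c : ℕ) :
    Vdef r a c ≤ (degreeLT k ((∑ j, a j) + c + 1)).map (Tlin r a) := by
  unfold Vdef
  apply sup_le
  · apply map_degreeLT_le 0
    intro t ht
    refine ⟨C (1 / ((t : k) + 1)) * (Es r a Finset.univ * (X - C 0) ^ (t + 1)), ?_, ?_⟩
    · apply mem_degreeLT_of_natDegree_lt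
      refine lt_of_le_of_lt (natDegree_C_mul_le _ _) ?_
      refine lt_of_le_of_lt natDegree_mul_le ?_
      rw [Es_natDegree, (monic_X_sub_C (0 : k)).natDegree_pow, natDegree_X_sub_C]
      omega
    · rw [Tlin_apply, T_C_mul, T_E_mul, derivative_X_sub_C_pow_succ, LinearMap.mulLeft_apply, D_eq]
      have h1 : ((t : k) + 1) ≠ 0 := Nat.cast_add_one_ne_zero t
      have h2 : C (1 / ((t : k) + 1)) * C ((t : k) + 1) = 1 := by
        rw [← C_mul, one_div, inv_mul_cancel₀ h1, C_1]
      linear_combination (Pis r Finset.univ * Es r a Finset.univ * (X - C 0) ^ t) * h2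
  · apply iSup_le
    intro i
    apply map_degreeLT_le (r i)
    intro t ht
    refine ⟨C (1 / ((t : k) - (a i : k))) * (Es r a (Finset.univ.erase i) * (X - C (r i)) ^ t),
      ?_, ?_⟩
    · apply mem_degreeLT_of_natDegree_lt
      refine lt_of_le_of_lt (natDegree_C_mul_le _ _) ?_
      refine lt_of_le_of_lt natDegree_mul_le ?_
      rw [Es_natDegree, (monic_X_sub_C (r i)).natDegree_pow, natDegree_X_sub_C]
      have := sum_erase_add a i
      omega
    · rw [Tlin_apply, T_C_mul, T_Ei_mul, X_sub_C_mul_derivative_pow, LinearMap.mulLeft_apply, D_eq]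
      have h1 : ((t : k) - (a i : k)) ≠ 0 := sub_ne_zero.mpr (Nat.cast_injective.ne (by omega))
      have h2 : C (1 / ((t : k) - (a i : k))) * (C (t : k) - C (a i : k)) = 1 := by
        rw [← C_sub, ← C_mul, one_div, inv_mul_cancel₀ h1, C_1]
      linear_combination (Pis r (Finset.univ.erase i) * Es r a (Finset.univ.erase i)
        * (X - C (r i)) ^ t) * h2

theorem natDegree_X_sub_C_mul_derivative_le (ρ : k) (H : k[X]) :
    ((X - C ρ) * derivative H).natDegree ≤ H.natDegree := by
  by_cases h : H.natDegree = 0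
  · rw [eq_C_of_natDegree_eq_zero h, derivative_C, mul_zero, natDegree_zero]
    exact Nat.zero_le _
  · refine natDegree_mul_le.trans ?_
    rw [natDegree_X_sub_C]
    have := natDegree_derivative_lt h
    omega

theorem derivative_mem_degreeLT (c : ℕ) (q : k[X]) (hq : q ∈ degreeLT k (c + 1)) :
    derivative q ∈ degreeLT k c := by
  rw [mem_degreeLT, degree_lt_iff_coeff_zero] at hq ⊢
  intro j hj
  rw [coeff_derivative, hq (j + 1) (by omega), zero_mul]

theorem le_Vdef [CharZero k] (hr : Function.Injective r) (c : ℕ) :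
    (degreeLT k ((∑ j, a j) + c + 1)).map (Tlin r a) ≤ Vdef r a c := by
  rintro _ ⟨H, hH, rfl⟩
  rw [Tlin_apply]
  obtain ⟨q, R, hR, hf⟩ := eq_quo_mul_prod_add_sum_rem_mul_prod (s := Finset.univ) H
    (g := fun i => (X - C (r i)) ^ (a i))
    (fun i _ => (monic_X_sub_C (r i)).pow (a i))
    (fun i _ j _ hij =>
      (isCoprime_X_sub_C_of_isUnit_sub (sub_ne_zero.mpr (hr.ne hij)).isUnit).pow)
  have hf' : H = Es r a Finset.univ * q + ∑ i, Es r a (Finset.univ.erase i) * R i := by
    rw [hf, mul_comm]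
    congr 1
    exact Finset.sum_congr rfl fun i _ => mul_comm _ _
  have hRdeg : ∀ i, R i ≠ 0 → (R i).natDegree < a i := by
    intro i hi
    have := hR i (Finset.mem_univ i)
    rw [degree_eq_natDegree ((monic_X_sub_C (r i)).pow (a i)).ne_zero,
      (monic_X_sub_C (r i)).natDegree_pow, natDegree_X_sub_C, mul_one] at this
    exact (natDegree_lt_iff_degree_lt hi).mpr this
  have hRE : ∀ i, Es r a (Finset.univ.erase i) * R i ∈ degreeLT k ((∑ j, a j) + c + 1) := by
    intro i
    by_cases hi : R i = 0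
    · rw [hi, mul_zero]; exact Submodule.zero_mem _
    · apply mem_degreeLT_of_natDegree_lt
      refine lt_of_le_of_lt natDegree_mul_le ?_
      rw [Es_natDegree]
      have := hRdeg i hi
      have := sum_erase_add a i
      omega
  have hqE : Es r a Finset.univ * q ∈ degreeLT k ((∑ j, a j) + c + 1) := by
    have : Es r a Finset.univ * q = H - ∑ i, Es r a (Finset.univ.erase i) * R i :=
      eq_sub_of_add_eq hf'.symm
    rw [this]
    exact Submodule.sub_mem _ hH (Submodule.sum_mem _ fun i _ => hRE i)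
  have hq : q ∈ degreeLT k (c + 1) := by
    by_cases hq0 : q = 0
    · rw [hq0]; exact Submodule.zero_mem _
    · apply mem_degreeLT_of_natDegree_lt
      have h1 := natDegree_lt_of_mem_degreeLT (mul_ne_zero (Es_monic r a _).ne_zero hq0) hqE
      rw [natDegree_mul (Es_monic r a _).ne_zero hq0, Es_natDegree] at h1
      omega
  have hTH : T r a H = (∏ j, (X - C (r j)) ^ (a j + 1)) * derivative q
      + ∑ i, (∏ j ∈ Finset.univ.erase i, (X - C (r j)) ^ (a j + 1))
          * ((X - C (r i)) * derivative (R i) - C (a i : k) * R i) := by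
    rw [hf', T_add, T_sum, T_E_mul, D_eq]
    congr 1
    refine Finset.sum_congr rfl fun i _ => ?_
    rw [T_Ei_mul, D_eq]
  rw [hTH]
  unfold Vdef
  apply Submodule.add_mem
  · apply Submodule.mem_sup_left
    exact ⟨derivative q, derivative_mem_degreeLT c q hq, rfl⟩
  · apply Submodule.mem_sup_right
    refine Submodule.sum_mem _ fun i _ => ?_
    apply Submodule.mem_iSup_of_mem i
    refine ⟨(X - C (r i)) * derivative (R i) - C (a i : k) * R i, ?_, rfl⟩
    by_cases hi : R i = 0
    · rw [hi]; simp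
    · apply mem_degreeLT_of_natDegree_lt
      refine lt_of_le_of_lt (natDegree_sub_le _ _) (max_lt ?_ ?_)
      · exact lt_of_le_of_lt (natDegree_X_sub_C_mul_derivative_le (r i) (R i)) (hRdeg i hi)
      · exact lt_of_le_of_lt (natDegree_C_mul_le _ _) (hRdeg i hi)

/-- (S3) STRUCT -/
theorem Vdef_eq [CharZero k] (hr : Function.Injective r) (c : ℕ) :
    Vdef r a c = (degreeLT k ((∑ j, a j) + c + 1)).map (Tlin r a) :=
  le_antisymm (Vdef_le r a c) (le_Vdef r a hr c)

instance degreeLT_finite (n : ℕ) : Module.Finite k (degreeLT k n) :=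
  Module.Finite.equiv (degreeLTEquiv k n).symm

theorem finrank_degreeLT (n : ℕ) : Module.finrank k (degreeLT k n) = n := by
  rw [(degreeLTEquiv k n).finrank_eq, Module.finrank_fin_fun]

/-- (S4) -/
theorem finrank_map_T [CharZero k] (n : ℕ) (hn : (∑ j, a j) + 1 ≤ n) :
    Module.finrank k ((degreeLT k n).map (Tlin r a)) + 1 = n := by
  have h := LinearMap.finrank_range_add_finrank_ker ((Tlin r a).domRestrict (degreeLT k n))
  rw [LinearMap.range_domRestrict, finrank_degreeLT] at h
  have hE : Es r a Finset.univ ∈ degreeLT k n :=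
    mem_degreeLT_of_natDegree_lt (by rw [Es_natDegree]; omega)
  have hker : LinearMap.ker ((Tlin r a).domRestrict (degreeLT k n))
      = Submodule.span k {⟨Es r a Finset.univ, hE⟩} := by
    ext ⟨H, hH⟩
    rw [LinearMap.mem_ker, LinearMap.domRestrict_apply, Submodule.mem_span_singleton]
    constructor
    · intro h0
      obtain ⟨c, hc⟩ := T_eq_zero r a H h0
      exact ⟨c, Subtype.ext (by simp [hc, smul_eq_C_mul])⟩
    · rintro ⟨c, hc⟩
      have : H = c • Es r a Finset.univ := (congrArg Subtype.val hc).symm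
      show Tlin r a H = 0
      rw [this, Tlin_apply, smul_eq_C_mul, T_C_mul, T_E, mul_zero]
  rw [hker, finrank_span_singleton] at h
  · exact h
  · intro h0
    have h1 : Es r a Finset.univ = 0 := congrArg Subtype.val h0
    exact (Es_monic r a _).ne_zero h1

end Groth.Agent.Lib.Helper91.Wronsk
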