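import Groth.Agent.Lib.Helper91.WronskAbs

/-!
# The space `V = T (k[X]_{≤ N})`: vanishing sequences at marked and unmarked points
-/

set_option autoImplicit false
set_option linter.unusedSectionVars false

namespace Groth.Agent.Lib.Helper91.Wronsk
open Polynomial

variable {k : Type*} [Field k] [CharZero k] {m : ℕ} (r : Fin m → k) (a : Fin m → ℕ)

noncomputable def VN (N : ℕ) : Submodule k k[X] := (degreeLT k (N + 1)).map (Tlin r a)

instance VN_finite (N : ℕ) : Module.Finite k (VN r a N) := by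
  unfold VN
  infer_instance

theorem finrank_VN (N : ℕ) (hN : ∑ j, a j ≤ N) : Module.finrank k (VN r a N) = N := by
  have := finrank_map_T r a (N + 1) (by omega)
  unfold VN
  omega

theorem le_sum (i : Fin m) : a i ≤ ∑ j, a j :=
  Finset.single_le_sum (f := a) (fun _ _ => Nat.zero_le _) (Finset.mem_univ i)

theorem VN_le_degreeLT (N d : ℕ) (hd : d + 1 = N + m) : VN r a N ≤ degreeLT k (d + 1) := by
  rintro _ ⟨H, hH, rfl⟩
  rw [Tlin_apply]
  by_cases h0 : T r a H = 0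
  · rw [h0]; exact Submodule.zero_mem _
  apply mem_degreeLT_of_natDegree_lt
  have h1 := X_mul_T_natDegree_le r a H
  rw [natDegree_X_mul h0] at h1
  have hH0 : H ≠ 0 := by
    rintro rfl
    exact h0 (T_zero r a)
  have := natDegree_lt_of_mem_degreeLT hH0 hH
  omega

theorem C_mul_E_mem (N : ℕ) (hN : ∑ j, a j ≤ N) (c : k) :
    C c * Es r a Finset.univ ∈ degreeLT k (N + 1) := by
  apply mem_degreeLT_of_natDegree_lt
  refine lt_of_le_of_lt (natDegree_C_mul_le _ _) ?_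
  rw [Es_natDegree]
  omega

theorem VN_unmarked_top (N : ℕ) (hN : ∑ j, a j ≤ N) (q : k) (hq : ∀ j, q ≠ r j) (h : k[X])
    (hV : h ∈ VN r a N) (hdvd : (X - C q) ^ N ∣ h) : h = 0 := by
  obtain ⟨H, hH, rfl⟩ := hV
  rw [Tlin_apply] at *
  obtain ⟨c, hc⟩ := topA r a q hq H N hdvd
  have hmem : H - C c * Es r a Finset.univ ∈ degreeLT k (N + 1) :=
    Submodule.sub_mem _ hH (C_mul_E_mem r a N hN c)
  have hz : H - C c * Es r a Finset.univ = 0 := by
    apply eq_zero_of_dvd_of_degree_lt hc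
    rw [degree_X_sub_C_pow']
    exact mem_degreeLT.mp hmem
  rw [← T_sub_C_mul_E r a H c, hz, T_zero]

theorem VN_marked_gap (hr : Function.Injective r) (N : ℕ) (i : Fin m) (h : k[X])
    (hV : h ∈ VN r a N) (hdvd : (X - C (r i)) ^ (a i) ∣ h) : (X - C (r i)) ^ (a i + 1) ∣ h := by
  obtain ⟨H, hH, rfl⟩ := hV
  exact gapB r a hr i H hdvd

theorem VN_marked_top (hr : Function.Injective r) (N : ℕ) (hN : ∑ j, a j ≤ N) (i : Fin m)
    (h : k[X]) (hV : h ∈ VN r a N) (hdvd : (X - C (r i)) ^ (N + 1) ∣ h) : h = 0 := by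
  obtain ⟨H, hH, rfl⟩ := hV
  rw [Tlin_apply] at *
  have hai : a i + 1 ≤ N + 1 := by
    have := le_sum a i
    omega
  obtain ⟨c, hc⟩ := topB r a hr i H (N + 1) hai hdvd
  have hmem : H - C c * Es r a Finset.univ ∈ degreeLT k (N + 1) :=
    Submodule.sub_mem _ hH (C_mul_E_mem r a N hN c)
  have hz : H - C c * Es r a Finset.univ = 0 := by
    apply eq_zero_of_dvd_of_degree_lt hc
    rw [degree_X_sub_C_pow']
    exact mem_degreeLT.mp hmem
  rw [← T_sub_C_mul_E r a H c, hz, T_zero]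

theorem VN_inf_gap (N : ℕ) (h : k[X]) (hV : h ∈ VN r a N)
    (hdeg : h ∈ degreeLT k ((∑ j, a j) + m)) : h ∈ degreeLT k ((∑ j, a j) + m - 1) := by
  obtain ⟨H, hH, rfl⟩ := hV
  obtain ⟨H', hT, hH', _⟩ := normInf r a H
  rw [Tlin_apply] at hdeg ⊢
  rw [← hT] at hdeg ⊢
  by_cases hH0 : H' = 0
  · rw [hH0, T_zero]; exact Submodule.zero_mem _
  rcases hH' with h0 | hne
  · exact absurd h0 hH0
  have h1 := T_natDegree r a H' hH0 hne
  have h2 := natDegree_lt_of_mem_degreeLT (T_ne_zero r a H' hH0 hne) hdeg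
  apply mem_degreeLT_of_natDegree_lt
  omega

theorem VN_inf_top (N : ℕ) (h : k[X]) (hV : h ∈ VN r a N)
    (hdeg : h ∈ degreeLT k (m - 1)) : h = 0 := by
  obtain ⟨H, hH, rfl⟩ := hV
  obtain ⟨H', hT, hH', _⟩ := normInf r a H
  rw [Tlin_apply] at hdeg ⊢
  rw [← hT] at hdeg ⊢
  by_cases hH0 : H' = 0
  · rw [hH0, T_zero]
  rcases hH' with h0 | hne
  · exact absurd h0 hH0
  have h1 := T_natDegree r a H' hH0 hne
  have h2 := natDegree_lt_of_mem_degreeLT (T_ne_zero r a H' hH0 hne) hdeg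
  omega

theorem VN_inf_low (N d : ℕ) (hd : d + 1 = N + m) (h : k[X]) (hV : h ∈ VN r a N)
    (hdeg : h ∈ degreeLT k (d - 1)) : h ∈ (degreeLT k (N - 1)).map (Tlin r a) := by
  obtain ⟨H, hH, rfl⟩ := hV
  obtain ⟨H', hT, hH', _⟩ := normInf r a H
  rw [Tlin_apply] at hdeg ⊢
  rw [← hT] at hdeg ⊢
  by_cases hH0 : H' = 0
  · rw [hH0, T_zero]; exact Submodule.zero_mem _
  rcases hH' with h0 | hne
  · exact absurd h0 hH0
  have h1 := T_natDegree r a H' hH0 hne
  have h2 := natDegree_lt_of_mem_degreeLT (T_ne_zero r a H' hH0 hne) hdeg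
  refine ⟨H', mem_degreeLT_of_natDegree_lt (by omega), rfl⟩

/-- vanishing sequence at a marked point -/
theorem finrank_VN_marked (hr : Function.Injective r) (N : ℕ) (hN : ∑ j, a j ≤ N) (i : Fin m)
    (n : ℕ) : Module.finrank k ↥(VN r a N ⊓ Idl (r i) n)
      = if n ≤ a i then N - n else N + 1 - n := by
  have hai := le_sum a i
  refine squeeze (fun n => Module.finrank k ↥(VN r a N ⊓ Idl (r i) n)) N (a i) (by omega)
    ?_ ?_ (fun n => finrank_Idl_step _ _ n) (fun n => finrank_Idl_mono _ _ n) ?_ n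
  · show Module.finrank k ↥(VN r a N ⊓ Idl (r i) 0) = N
    rw [Idl_zero, inf_top_eq, finrank_VN r a N hN]
  · show Module.finrank k ↥(VN r a N ⊓ Idl (r i) (N + 1)) = 0
    have : VN r a N ⊓ Idl (r i) (N + 1) = ⊥ := by
      rw [eq_bot_iff]
      rintro x ⟨hx1, hx2⟩
      rw [SetLike.mem_coe, mem_Idl] at hx2
      rw [Submodule.mem_bot]
      exact VN_marked_top r a hr N hN i x hx1 hx2
    rw [this, finrank_bot]
  · show Module.finrank k ↥(VN r a N ⊓ Idl (r i) (a i))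
      = Module.finrank k ↥(VN r a N ⊓ Idl (r i) (a i + 1))
    have : VN r a N ⊓ Idl (r i) (a i) = VN r a N ⊓ Idl (r i) (a i + 1) := by
      apply le_antisymm
      · rintro x ⟨hx1, hx2⟩
        rw [SetLike.mem_coe, mem_Idl] at hx2
        exact ⟨hx1, (mem_Idl _ _ _).mpr (VN_marked_gap r a hr N i x hx1 hx2)⟩
      · exact inf_le_inf_left _ (Idl_anti _ (Nat.le_succ _))
    rw [this]

/-- vanishing sequence at infinity -/
theorem finrank_VN_inf (N b d : ℕ) (hN : N = (∑ j, a j) + b) (hd : d + 1 = N + m) (n : ℕ) :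
    Module.finrank k ↥(VN r a N ⊓ degreeLT k (d + 1 - n))
      = if n ≤ b then N - n else N + 1 - n := by
  refine squeeze (fun n => Module.finrank k ↥(VN r a N ⊓ degreeLT k (d + 1 - n))) N b (by omega)
    ?_ ?_ (fun n => finrank_degLT_step _ d n) (fun n => finrank_degLT_mono _ d n) ?_ n
  · show Module.finrank k ↥(VN r a N ⊓ degreeLT k (d + 1 - 0)) = N
    rw [Nat.sub_zero, inf_eq_left.mpr (VN_le_degreeLT r a N d hd), finrank_VN r a N (by omega)]
  · show Module.finrank k ↥(VN r a N ⊓ degreeLT k (d + 1 - (N + 1))) = 0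
    have : VN r a N ⊓ degreeLT k (d + 1 - (N + 1)) = ⊥ := by
      rw [eq_bot_iff]
      rintro x ⟨hx1, hx2⟩
      rw [Submodule.mem_bot]
      rw [show d + 1 - (N + 1) = m - 1 by omega] at hx2
      exact VN_inf_top r a N x hx1 hx2
    rw [this, finrank_bot]
  · show Module.finrank k ↥(VN r a N ⊓ degreeLT k (d + 1 - b))
      = Module.finrank k ↥(VN r a N ⊓ degreeLT k (d + 1 - (b + 1)))
    have : VN r a N ⊓ degreeLT k (d + 1 - b) = VN r a N ⊓ degreeLT k (d + 1 - (b + 1)) := by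
      apply le_antisymm
      · rintro x ⟨hx1, hx2⟩
        refine ⟨hx1, ?_⟩
        rw [show d + 1 - b = (∑ j, a j) + m by omega] at hx2
        rw [show d + 1 - (b + 1) = (∑ j, a j) + m - 1 by omega]
        exact VN_inf_gap r a N x hx1 hx2
      · exact inf_le_inf_left _ (degreeLT_mono (by omega))
    rw [this]

/-- vanishing sequence at an unmarked point -/
theorem finrank_VN_unmarked (N : ℕ) (hN : ∑ j, a j ≤ N) (q : k) (hq : ∀ j, q ≠ r j)
    (n : ℕ) (hn : n ≤ N) : Module.finrank k ↥(VN r a N ⊓ Idl q n) = N - n := by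
  refine squeeze0 (fun n => Module.finrank k ↥(VN r a N ⊓ Idl q n)) N
    ?_ ?_ (fun n => finrank_Idl_step _ _ n) n hn
  · show Module.finrank k ↥(VN r a N ⊓ Idl q 0) = N
    rw [Idl_zero, inf_top_eq, finrank_VN r a N hN]
  · show Module.finrank k ↥(VN r a N ⊓ Idl q N) = 0
    have : VN r a N ⊓ Idl q N = ⊥ := by
      rw [eq_bot_iff]
      rintro x ⟨hx1, hx2⟩
      rw [SetLike.mem_coe, mem_Idl] at hx2
      rw [Submodule.mem_bot]
      exact VN_unmarked_top r a N hN q hq x hx1 hx2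
    rw [this, finrank_bot]

theorem T_pow_mem_VN (N : ℕ) (ρ : k) (t : ℕ) (ht : t ≤ N) : T r a ((X - C ρ) ^ t) ∈ VN r a N :=
  ⟨_, degreeLT_mono (by omega) (X_sub_C_pow_mem_degreeLT ρ t), rfl⟩

theorem T_pow_dvd (ρ : k) (t : ℕ) : (X - C ρ) ^ t ∣ T r a ((X - C ρ) ^ (t + 1)) := by
  have := T_pow_mul r a ρ t 1
  rw [mul_one] at this
  rw [this]
  exact dvd_mul_right _ _

theorem T_pow_dvd_marked (i : Fin m) (t : ℕ) : (X - C (r i)) ^ t ∣ T r a ((X - C (r i)) ^ t) := by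
  have := T_pow_mul_marked r a i t 1
  rw [mul_one] at this
  rw [this]
  exact dvd_mul_right _ _

theorem top_two (N : ℕ) (hN : 1 ≤ N) (W : Submodule k k[X])
    (hW : (degreeLT k (N - 1)).map (Tlin r a) ≤ W)
    (G₁ G₂ : k[X]) (hG₁ : G₁ ∈ degreeLT k (N + 1)) (hG₁c : G₁.coeff N ≠ 0)
    (hG₂ : G₂ ∈ degreeLT k N) (hG₂c : G₂.coeff (N - 1) ≠ 0)
    (h1 : T r a G₁ ∈ W) (h2 : T r a G₂ ∈ W) : VN r a N ≤ W := by
  rintro _ ⟨H, hH, rfl⟩
  obtain ⟨c₁, hc₁⟩ := reduce_top N G₁ H hG₁ hG₁c hH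
  obtain ⟨M, rfl⟩ : ∃ M, N = M + 1 := ⟨N - 1, by omega⟩
  simp only [Nat.add_sub_cancel] at *
  obtain ⟨c₂, hc₂⟩ := reduce_top M G₂ (H - C c₁ * G₁) hG₂ hG₂c hc₁
  have : H = (H - C c₁ * G₁ - C c₂ * G₂) + C c₁ * G₁ + C c₂ * G₂ := by ring
  rw [Tlin_apply, this, T_add, T_add, T_C_mul, T_C_mul]
  refine W.add_mem (W.add_mem (hW ⟨_, hc₂, rfl⟩) ?_) ?_
  · rw [← smul_eq_C_mul]; exact W.smul_mem _ h1
  · rw [← smul_eq_C_mul]; exact W.smul_mem _ h2

theorem Vdef_eq_VN (hr : Function.Injective r) (b N : ℕ) (hN : N = (∑ j, a j) + b) :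
    Vdef r a b = VN r a N := by
  rw [Vdef_eq r a hr b]
  unfold VN
  rw [hN]

theorem sum_succ_eq : ∑ j, (a j + 1) = (∑ j, a j) + m := by
  rw [Finset.sum_add_distrib]
  simp

theorem U_ge (hr : Function.Injective r) (b N : ℕ) (hb : 1 ≤ b) (hN : N = (∑ j, a j) + b) :
    (degreeLT k (N - 1)).map (Tlin r a) ≤ Vdef r a (b - 2) := by
  rw [Vdef_eq r a hr (b - 2)]
  exact Submodule.map_mono (degreeLT_mono (by omega))

end Groth.Agent.Lib.Helper91.Wronsk
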