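import Groth.Agent.Lib.Helper91.WronskPt

/-!
# Weights of hyperplanes of `V`
-/

set_option autoImplicit false
set_option linter.unusedSectionVars false

namespace Groth.Agent.Lib.Helper91.Wronsk
open Polynomial

variable {k : Type*} [Field k] [CharZero k] {m : ℕ} (r : Fin m → k) (a : Fin m → ℕ)

theorem hyp_inf_of_not_le (N : ℕ) (hN : ∑ j, a j ≤ N) (V₁ : Submodule k k[X])
    (hle : V₁ ≤ VN r a N) (hfin : Module.finrank k V₁ + 1 = N) (I : Submodule k k[X])
    (h : ¬ VN r a N ⊓ I ≤ V₁) :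
    Module.finrank k ↥(V₁ ⊓ I) + 1 = Module.finrank k ↥(VN r a N ⊓ I) := by
  have := finrank_hyperplane_inf (VN r a N) V₁ (VN r a N ⊓ I) hle inf_le_left
    (by rw [finrank_VN r a N hN]; exact hfin) h
  rwa [← inf_assoc, inf_eq_left.mpr hle] at this

theorem hyp_inf_of_le (N : ℕ) (V₁ : Submodule k k[X]) (hle : V₁ ≤ VN r a N)
    (I : Submodule k k[X]) (h : VN r a N ⊓ I ≤ V₁) : V₁ ⊓ I = VN r a N ⊓ I :=
  le_antisymm (inf_le_inf_right _ hle) (le_inf h inf_le_right)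

theorem hyp_inf_le (N : ℕ) (V₁ : Submodule k k[X]) (hle : V₁ ≤ VN r a N)
    (I : Submodule k k[X]) :
    Module.finrank k ↥(V₁ ⊓ I) ≤ Module.finrank k ↥(VN r a N ⊓ I) :=
  Submodule.finrank_mono (inf_le_inf_right _ hle)

/-- the two top powers at a marked point lie in `V(-n r_i)` for `n ≤ N - 1` -/
theorem top_powers_mem (N : ℕ) (i : Fin m) (n t : ℕ) (hn : n ≤ t) (ht : t ≤ N) :
    T r a ((X - C (r i)) ^ t) ∈ VN r a N ⊓ Idl (r i) n := by
  refine ⟨T_pow_mem_VN r a N (r i) t ht, ?_⟩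
  rw [SetLike.mem_coe, mem_Idl]
  exact dvd_trans (pow_dvd_pow _ hn) (T_pow_dvd_marked r a i t)

theorem sum_eq_zero_of_m_zero (hm : m = 0) : ∑ j, a j = 0 := by
  subst hm
  simp

/-- `T (X - p)` has degree at most `m` -/
theorem T_lin_mem_degreeLT (p : k) : T r a ((X - C p) ^ 1) ∈ degreeLT k (m + 1) := by
  by_cases h0 : T r a ((X - C p) ^ 1) = 0
  · rw [h0]; exact Submodule.zero_mem _
  apply mem_degreeLT_of_natDegree_lt
  have h1 := X_mul_T_natDegree_le r a ((X - C p) ^ 1)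
  rw [natDegree_X_mul h0] at h1
  have h2 : ((X - C p) ^ 1).natDegree = 1 := by rw [pow_one, natDegree_X_sub_C]
  omega

end Groth.Agent.Lib.Helper91.Wronsk
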